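import Cfsg.Agent.H217.Odm.Eng
import Cfsg.Agent.H722.RealP

/-!
# TEAM ODDM (S4785): small tools for the sporadic rows (helper311)
-/

set_option autoImplicit false

namespace Cfsg.Agent.H311.OdmTools

open Subgroup
open Cfsg.Agent.H453.OddM

/-- the centralizers of the elements of order `r` have the same order, if `r ∥ |G|` -/
theorem card_cent_eq {G : Type*} [Group G] [Finite G] {r n : ℕ} (hr : r.Prime) (hn : Nat.card G = r * n)
    (hrn : n % r ≠ 0) {x y : G} (hx : orderOf x = r) (hy : orderOf y = r) :
    Nat.card (centralizer ({y} : Set G)) = Nat.card (centralizer ({x} : Set G)) := by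
  have hr' : Fact r.Prime := ⟨hr⟩
  have hn0 : n ≠ 0 := by rintro rfl; simp at hrn
  have hfac : (Nat.card G).factorization r = 1 := by
    rw [hn, Nat.factorization_mul hr.ne_zero hn0, Finsupp.add_apply, hr.factorization_self,
      Nat.factorization_eq_zero_of_not_dvd fun hd => hrn (Nat.mod_eq_zero_of_dvd hd)]
  let P : Sylow r G := Sylow.ofCard (zpowers x) (by rw [Nat.card_zpowers, hx, hfac, pow_one])
  let Q : Sylow r G := Sylow.ofCard (zpowers y) (by rw [Nat.card_zpowers, hy, hfac, pow_one])
  obtain ⟨g, hg⟩ := MulAction.exists_smul_eq G P Q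
  have hmem : g * x * g⁻¹ ∈ zpowers y := by
    have h1 : (Q : Subgroup G) = zpowers y := rfl
    rw [← h1, ← hg, Sylow.coe_subgroup_smul]
    exact ⟨x, mem_zpowers x, rfl⟩
  have hcz : ∀ a : G, centralizer (zpowers a : Set G) = centralizer ({a} : Set G) := by
    intro a
    rw [zpowers_eq_closure, centralizer_closure]
  have hz : zpowers (g * x * g⁻¹) = zpowers y := by
    apply eq_of_le_of_card_ge
    · rw [zpowers_le]; exact hmem
    · have ho : orderOf (g * x * g⁻¹) = r := by
        rw [← hx]
        exact (MulAut.conj g).orderOf_eq x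
      rw [Nat.card_zpowers, Nat.card_zpowers, hy, ho]
  have h1 : centralizer ({y} : Set G) = (centralizer ({x} : Set G)).map (MulAut.conj g).toMonoidHom := by
    rw [← hcz y, ← hz, hcz]
    ext w
    rw [mem_map]
    constructor
    · intro hw
      rw [mem_centralizer_singleton_iff] at hw
      refine ⟨g⁻¹ * w * g, ?_, ?_⟩
      · rw [mem_centralizer_singleton_iff]
        have : w * (g * x * g⁻¹) = g * x * g⁻¹ * w := hw
        calc g⁻¹ * w * g * x = g⁻¹ * (w * (g * x * g⁻¹)) * g := by group
          _ = g⁻¹ * (g * x * g⁻¹ * w) * g := by rw [this]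
          _ = x * (g⁻¹ * w * g) := by group
      · show g * (g⁻¹ * w * g) * g⁻¹ = w
        group
    · rintro ⟨v, hv, rfl⟩
      rw [mem_centralizer_singleton_iff] at hv ⊢
      show g * v * g⁻¹ * (g * x * g⁻¹) = g * x * g⁻¹ * (g * v * g⁻¹)
      calc g * v * g⁻¹ * (g * x * g⁻¹) = g * (v * x) * g⁻¹ := by group
        _ = g * (x * v) * g⁻¹ := by rw [hv]
        _ = g * x * g⁻¹ * (g * v * g⁻¹) := by group
  rw [h1, card_map_of_injective (MulAut.conj g).injective]

theorem card_cent_map {G H : Type*} [Group G] [Group H] (e : G ≃* H) (x : G) :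
    Nat.card (centralizer ({e x} : Set H)) = Nat.card (centralizer ({x} : Set G)) := by
  symm
  refine Nat.card_congr
    { toFun := fun c => ⟨e c, ?_⟩
      invFun := fun c => ⟨e.symm c, ?_⟩
      left_inv := fun c => Subtype.ext (e.symm_apply_apply _)
      right_inv := fun c => Subtype.ext (e.apply_symm_apply _) }
  · have h := mem_centralizer_singleton_iff.1 c.2
    rw [mem_centralizer_singleton_iff, ← map_mul, h, map_mul]
  · have h := mem_centralizer_singleton_iff.1 c.2
    rw [mem_centralizer_singleton_iff]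
    apply e.injective
    rw [map_mul, map_mul, e.apply_symm_apply, h]

theorem realP_of_hasReal {p : ℕ} {G : Type*} [Group G] (h : H722.RealP.HasReal p G) : RealP G p := by
  obtain ⟨x, t, hx, -, h2⟩ := h
  exact ⟨x, hx, t, h2⟩

theorem RealP.congr {p : ℕ} {G H : Type*} [Group G] [Group H] (e : G ≃* H) (h : RealP G p) : RealP H p := by
  obtain ⟨x, hx, hr⟩ := h
  exact ⟨e x, by rw [MulEquiv.orderOf_eq, hx], hr.map e.toMonoidHom⟩

/-- no element of order `r * s`, from the centralizer of the elements of order `r` -/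
theorem no_mul {G : Type*} [Group G] [Finite G] {r s : ℕ} (hr : 0 < r) (hs : 0 < s)
    (h : ∀ x : G, orderOf x = r → ¬ s ∣ Nat.card (centralizer ({x} : Set G))) (z : G) : orderOf z ≠ r * s := by
  intro hz
  have h1 : orderOf (z ^ s) = r := by
    rw [orderOf_pow, hz, Nat.gcd_mul_left_left, Nat.mul_div_cancel _ hs]
  have h2 : orderOf (z ^ r) = s := by
    rw [orderOf_pow, hz, Nat.gcd_mul_right_left, Nat.mul_div_cancel_left _ hr]
  apply h _ h1
  have h3 : z ^ r ∈ centralizer ({z ^ s} : Set G) := by
    rw [mem_centralizer_singleton_iff]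
    exact (Commute.pow_pow_self z r s).eq
  have h4 := orderOf_dvd_natCard (⟨z ^ r, h3⟩ : centralizer ({z ^ s} : Set G))
  rwa [Subgroup.orderOf_mk, h2] at h4

end Cfsg.Agent.H311.OdmTools
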