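import Cfsg.Agent.H311.OdmTools
import Cfsg.Agent.H348.PPD.RowSuz
import Cfsg.Agent.NotCT.Orders

/-!
# S4785 (TEAM ODDM): the row of `Suz` (helper311)
-/

set_option autoImplicit false

namespace Cfsg.Agent.H311.OdmRowSuz

open Cfsg Subgroup
open Cfsg.Agent.H453.OddM Cfsg.Agent.H217.Odm

universe u

theorem row (tab : Cfsg.Agent.OrdDiv.OrderTable.{u}) (known : Cfsg.Agent.H257.El.Known.{u}) {T : Type u}
    [Group T] (h : Cfsg.Spor.IsoSuz T) : Cfsg.Agent.H453.OddM.Row T := by
  have hc := NotCT.Orders.suz h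
  have hfin : Finite T := Nat.finite_of_card_ne_zero (by rw [hc]; norm_num)
  obtain ⟨e⟩ := h
  have h13 : Nat.card T = 13 * 34488115200 := by rw [hc]
  have h11 : Nat.card T = 11 * 40758681600 := by rw [hc]
  obtain ⟨x, hx, hcx⟩ := Cfsg.Agent.H474.Suz13.suz_thirteen
  obtain ⟨y, hy, hcy⟩ := Cfsg.Agent.H348.PPD.RowSuz.cent11
  have cx : ∀ z : T, orderOf z = 13 → Nat.card (centralizer ({z} : Set T)) = 13 * 1 := by
    intro z hz
    rw [OdmTools.card_cent_eq (x := e.symm x) (by norm_num) h13 (by norm_num) (by rw [MulEquiv.orderOf_eq, hx]) hz,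
      OdmTools.card_cent_map, hcx]
  have cy : ∀ z : T, orderOf z = 11 → Nat.card (centralizer ({z} : Set T)) = 11 * 1 := by
    intro z hz
    rw [OdmTools.card_cent_eq (x := e.symm y) (by norm_num) h11 (by norm_num) (by rw [MulEquiv.orderOf_eq, hy]) hz,
      OdmTools.card_cent_map, hcy]
  have N13 : ∀ z : T, orderOf z = 13 → _ := fun z hz =>
    norm_of_cent (e := 6) (by norm_num) h13 (by norm_num) hz (cx z hz) (by norm_num) (by norm_num)
  have N11 : ∀ z : T, orderOf z = 11 → _ := fun z hz =>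
    norm_of_cent (e := 10) (by norm_num) h11 (by norm_num) hz (cy z hz) (by norm_num) (by norm_num)
  refine row_of_two (n := 448345497600) (l := [(2, 13), (3, 7), (5, 2), (7, 1), (11, 1), (13, 1)]) (r := 13)
    (nu := 6) (ss := [11]) tab known hc (by norm_num) ?_ ?_ ?_ (by decide +kernel)
  · have ho : orderOf (e.symm x) = 13 := by rw [MulEquiv.orderOf_eq, hx]
    exact ⟨e.symm x, ho, (N13 _ ho).2 (by decide)⟩
  · intro z hz
    exact (N13 z hz).1
  · intro s hs
    simp only [List.mem_singleton] at hs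
    subst hs
    refine ⟨by norm_num, ?_, OdmTools.no_mul (by norm_num) (by norm_num) fun z hz => by rw [cx z hz]; norm_num⟩
    have ho : orderOf (e.symm y) = 11 := by rw [MulEquiv.orderOf_eq, hy]
    exact ⟨e.symm y, ho, (N11 _ ho).2 (by decide)⟩

end Cfsg.Agent.H311.OdmRowSuz
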