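import Cfsg.Agent.H311.NSRes
import Cfsg.Agent.Cit.HexCent2
import Cfsg.Agent.Cit.HexInv
import Cfsg.Agent.Cit.HexG2
import Cfsg.Agent.Cit.HexD4

/-!
# The order of the centralizer of an involution in `G₂(q)`, `³D₄(q)`
-/

set_option autoImplicit false

namespace Cfsg.Agent.H311

open Matrix Subgroup Cfsg.Agent.GTwoOdd Cfsg.Agent.ClassicalGeometry
open Cfsg.Agent.Cit.HexBase (HexGrp fx)

namespace Duo

variable {G : Type*} [Group G] {j : G} {F₁ F₂ : Type*} [Field F₁] [Field F₂]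

/-- the product map -/
def prodHom (D : Duo j F₁ F₂) : SL2 F₁ × SL2 F₂ →* G where
  toFun p := D.e1 p.1 * D.e2 p.2
  map_one' := by simp
  map_mul' p q := (D.mul_mul _ _ _ _).symm

theorem card_Y [Finite F₁] [Finite F₂] (D : Duo j F₁ F₂) (t1 : (2 : F₁) ≠ 0) :
    Nat.card D.Y * 2 = Nat.card (SL2 F₁) * Nat.card (SL2 F₂) := by
  have hr : D.prodHom.range = D.Y := by
    ext g
    constructor
    · rintro ⟨p, rfl⟩
      exact ⟨p.1, p.2, rfl⟩
    · rintro ⟨a, b, rfl⟩
      exact ⟨(a, b), rfl⟩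
  have hk : Nat.card D.prodHom.ker = 2 := by
    have h1 : ((D.prodHom.ker : Subgroup (SL2 F₁ × SL2 F₂)) : Set (SL2 F₁ × SL2 F₂)) = {(1, 1), (-1, -1)} := by
      ext ⟨a, b⟩
      rw [SetLike.mem_coe, MonoidHom.mem_ker, Set.mem_insert_iff, Set.mem_singleton_iff, Prod.mk.injEq, Prod.mk.injEq]
      constructor
      · intro h
        exact D.mul_eq_one h
      · rintro (⟨rfl, rfl⟩ | ⟨rfl, rfl⟩)
        · exact map_one D.prodHom
        · change D.e1 (-1) * D.e2 (-1) = 1
          rw [D.neg1, D.neg2, D.jj]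
    have h3 : Nat.card D.prodHom.ker = ((D.prodHom.ker : Subgroup (SL2 F₁ × SL2 F₂)) : Set (SL2 F₁ × SL2 F₂)).ncard := rfl
    rw [h3, h1, Set.ncard_pair]
    intro h
    exact sl_one_ne_neg t1 (congrArg Prod.fst h)
  have h1 := Subgroup.card_eq_card_quotient_mul_card_subgroup D.prodHom.ker
  rw [Nat.card_prod, Nat.card_congr (QuotientGroup.quotientKerEquivRange D.prodHom).toEquiv, hr, hk] at h1
  exact h1.symm

end Duo

/-! ### conjugation and isomorphisms -/

theorem card_cent_equiv {A B : Type*} [Group A] [Group B] (e : A ≃* B) (t : A) :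
    Nat.card (centralizer ({t} : Set A)) = Nat.card (centralizer ({e t} : Set B)) := by
  apply Nat.card_congr
  refine ⟨fun x => ⟨e x, ?_⟩, fun y => ⟨e.symm y, ?_⟩, fun x => by simp, fun y => by simp⟩
  · rw [mem_centralizer_singleton_iff, ← map_mul, ← map_mul, mem_centralizer_singleton_iff.1 x.2]
  · rw [mem_centralizer_singleton_iff]
    apply e.injective
    rw [map_mul, map_mul, e.apply_symm_apply]
    exact mem_centralizer_singleton_iff.1 y.2

theorem card_cent_conj {A : Type*} [Group A] {s t : A} (h : IsConj s t) :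
    Nat.card (centralizer ({s} : Set A)) = Nat.card (centralizer ({t} : Set A)) := by
  obtain ⟨c, hc⟩ := isConj_iff.1 h
  rw [card_cent_equiv (MulAut.conj c) s]
  rw [MulAut.conj_apply, hc]

section hex

variable {E : Type*} [Field E] {σ : E ≃+* E} {L : Type*} [Group L] (c : HexGrp σ L)

theorem dg_neg_one {F : Type*} [Field F] (h : (-1 : F) ≠ 0) : (Cfsg.Agent.Lib.SL2Mat.dg (-1) h : SL2 F) = -1 := by
  apply Subtype.ext
  apply m2_ext <;> simp [Cfsg.Agent.Lib.SL2Mat.dg, Cfsg.Agent.Lib.SL2Mat.mk]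

theorem dg_mul' {F : Type*} [Field F] {a b : F} (ha : a ≠ 0) (hb : b ≠ 0) :
    (Cfsg.Agent.Lib.SL2Mat.dg (a * b) (mul_ne_zero ha hb) : SL2 F) =
      Cfsg.Agent.Lib.SL2Mat.dg a ha * Cfsg.Agent.Lib.SL2Mat.dg b hb := by
  apply Subtype.ext
  rw [Matrix.SpecialLinearGroup.coe_mul]
  apply m2_ext <;> simp [Cfsg.Agent.Lib.SL2Mat.dg, Cfsg.Agent.Lib.SL2Mat.mk, Matrix.mul_apply, Fin.sum_univ_two, mul_comm]

/-- the two commuting `SL₂` -/
def hexDuo (h2 : (2 : E) ≠ 0) : Duo c.z E ↥(fx σ) where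
  e1 := c.pb
  e2 := c.p4
  inj1 := c.pb_inj h2
  inj2 := c.p4_inj
  comm := c.comm_pb_p4
  neg1 := (congrArg c.pb (dg_neg_one (neg_ne_zero.2 one_ne_zero))).symm
  neg2 := ((congrArg c.p4 (dg_neg_one (neg_ne_zero.2 one_ne_zero))).symm).trans c.z_eq_p4.symm

theorem hex_card [Finite E] [Finite L] (h2 : (2 : E) ≠ 0) :
    Nat.card (centralizer ({c.z} : Set L)) ≤ Nat.card (SL2 E) * Nat.card (SL2 ↥(fx σ)) := by
  classical
  have hY : Nat.card (hexDuo c h2).Y * 2 = Nat.card (SL2 E) * Nat.card (SL2 ↥(fx σ)) := (hexDuo c h2).card_Y h2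
  have h2' : (2 : ↥(fx σ)) ≠ 0 := fun h => h2 (congrArg Subtype.val h)
  have key : ∃ δ : L, ∀ g ∈ centralizer ({c.z} : Set L), g ∈ (hexDuo c h2).Y ∨ g * δ⁻¹ ∈ (hexDuo c h2).Y := by
    have hsq : ∀ (t : ↥(fx σ)) (ht : t ≠ 0), IsSquare t → c.pa (Cfsg.Agent.Lib.SL2Mat.dg t ht) ∈ (hexDuo c h2).Y := by
      rintro t ht ⟨a, ha⟩
      have ha0 : a ≠ 0 := by
        rintro rfl
        rw [mul_zero] at ha
        exact ht ha
      have e : t = a ^ 2 := by rw [ha, pow_two]
      subst e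
      rw [c.pa_dg_sq a ha0]
      exact mul_mem (inv_mem ((hexDuo c h2).e1_mem _)) ((hexDuo c h2).e2_mem _)
    have hpY : ∀ (x : SL2 E) (y : SL2 ↥(fx σ)), c.pb x * c.p4 y ∈ (hexDuo c h2).Y := fun x y => ⟨x, y, rfl⟩
    by_cases hall : ∀ t : ↥(fx σ), t ≠ 0 → IsSquare t
    · refine ⟨1, fun g hg => Or.inl ?_⟩
      obtain ⟨x, y, t, ht, rfl⟩ := c.mem_CZ_form h2 (mem_centralizer_singleton_iff.1 hg)
      exact mul_mem (hpY x y) (hsq t ht (hall t ht))
    · push Not at hall
      obtain ⟨ε, hε, hεs⟩ := hall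
      refine ⟨c.pa (Cfsg.Agent.Lib.SL2Mat.dg ε hε), fun g hg => ?_⟩
      obtain ⟨x, y, t, ht, rfl⟩ := c.mem_CZ_form h2 (mem_centralizer_singleton_iff.1 hg)
      by_cases hts : IsSquare t
      · left
        exact mul_mem (hpY x y) (hsq t ht hts)
      · right
        obtain ⟨r, hr⟩ := mul_isSquare_of_not hts hεs
        have hr0 : r ≠ 0 := by
          rintro rfl
          rw [mul_zero] at hr
          rcases mul_eq_zero.1 hr with h | h
          · exact ht h
          · exact hε h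
        have hd : (r / ε) * (r / ε) ≠ 0 := mul_ne_zero (div_ne_zero hr0 hε) (div_ne_zero hr0 hε)
        have e : t = (r / ε) * (r / ε) * ε := by
          field_simp
          rw [pow_two, ← hr]
        have e2 : Cfsg.Agent.Lib.SL2Mat.dg t ht = Cfsg.Agent.Lib.SL2Mat.dg ((r / ε) * (r / ε)) hd *
            Cfsg.Agent.Lib.SL2Mat.dg ε hε := by
          rw [← dg_mul' hd hε]
          congr 1
        rw [e2, map_mul, mul_assoc, mul_assoc (c.pa _), mul_inv_cancel, mul_one]
        exact mul_mem (hpY x y) (hsq _ hd ⟨r / ε, rfl⟩)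
  obtain ⟨δ, hδ⟩ := key
  rw [← hY]
  have hinj : Nat.card (centralizer ({c.z} : Set L)) ≤ Nat.card ((hexDuo c h2).Y × Bool) := by
    let f : centralizer ({c.z} : Set L) → (hexDuo c h2).Y × Bool := fun g =>
      if h : (g : L) ∈ (hexDuo c h2).Y then (⟨g, h⟩, true)
      else (⟨(g : L) * δ⁻¹, (hδ g g.2).resolve_left h⟩, false)
    apply Nat.card_le_card_of_injective f
    intro g g' h
    by_cases hg : (g : L) ∈ (hexDuo c h2).Y <;> by_cases hg' : (g' : L) ∈ (hexDuo c h2).Y
    · simp only [f, hg, hg', dif_pos] at h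
      exact Subtype.ext (congrArg (fun p => (p.1 : L)) h)
    · simp only [f, hg, hg', dif_pos, dif_neg, not_false_eq_true] at h
      exact absurd (congrArg Prod.snd h) (by simp)
    · simp only [f, hg, hg', dif_pos, dif_neg, not_false_eq_true] at h
      exact absurd (congrArg Prod.snd h) (by simp)
    · simp only [f, hg, hg', dif_neg, not_false_eq_true] at h
      exact Subtype.ext (mul_right_cancel (congrArg (fun p => (p.1 : L)) h))
  refine hinj.trans ?_
  rw [Nat.card_prod, Nat.card_eq_fintype_card (α := Bool), Fintype.card_bool]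

include c in
theorem hex_card' [Finite E] [Finite L] (h2 : (2 : E) ≠ 0) {t : L} (ht : t * t = 1) (ht1 : t ≠ 1) :
    Nat.card (centralizer ({t} : Set L)) ≤ Nat.card (SL2 E) * Nat.card (SL2 ↥(fx σ)) := by
  rw [card_cent_conj (c.isConj_invol h2 ht ht1 c.z_sq (c.z_ne h2))]
  exact hex_card c h2

end hex

theorem card_sl_eq {E F : Type*} [Field E] [Field F] [Finite E] [Finite F] (h : Nat.card E = Nat.card F) :
    Nat.card (SL2 E) = Nat.card (SL2 F) := by
  have := Fintype.ofFinite E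
  have := Fintype.ofFinite F
  rw [SLNormal.card_sl, SLNormal.card_sl, ← Nat.card_eq_fintype_card, ← Nat.card_eq_fintype_card, h]

theorem card_fx {K : Type*} [Field K] [Fintype K] {q : ℕ} (hK : Fintype.card K = q ^ 3) {σ : K ≃+* K}
    (hσ : ∀ x, σ x = x ^ q) : Nat.card ↥(fx σ) = q := by
  let ψ : K ≃ₐ[↥(fx σ)] K := AlgEquiv.ofRingEquiv (f := σ) (fun u => u.2)
  have hψ : ∀ x, ψ x = x ^ q := hσ
  rcases HexIdent.frob_cases ψ (fun t => by
    rw [hψ, hψ, hψ, ← pow_mul, ← pow_mul, show q * (q * q) = q ^ 3 by ring, ← hK, FiniteField.pow_card]) (fun t ht => ⟨⟨t, ht⟩, rfl⟩)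
    with h | ⟨h, -⟩
  · exfalso
    obtain ⟨g, hg⟩ := IsCyclic.exists_generator (α := Kˣ)
    have h1 : orderOf g = Nat.card Kˣ := orderOf_eq_card_of_forall_mem_zpowers hg
    have h3 : (g : K) ^ q = g := by rw [← hψ, h]
    have hq : 1 ≤ q := by
      by_contra hcon
      have : q = 0 := by omega
      rw [this] at hK
      have := Fintype.card_pos (α := K)
      omega
    have h4 : g ^ (q - 1) = 1 := by
      apply Units.ext
      have h5 : (g : K) ^ (q - 1) * g = g := by rw [← pow_succ, Nat.sub_add_cancel hq, h3]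
      have h6 : (g : K) ^ (q - 1) = 1 := by
        have := mul_right_cancel₀ (Units.ne_zero g) (h5.trans (one_mul (g : K)).symm)
        exact this
      simpa using h6
    have h5 := orderOf_dvd_of_pow_eq_one h4
    rw [h1, Nat.card_units, Nat.card_eq_fintype_card, hK] at h5
    have hq2 : 2 ≤ q := by
      by_contra hcon
      have : q = 1 := by omega
      rw [this] at hK
      have := Fintype.one_lt_card (α := K)
      omega
    have h6 := Nat.le_of_dvd (by omega) h5
    have h7 : q < q ^ 3 := by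
      calc q = q ^ 1 := (pow_one q).symm
        _ < q ^ 3 := Nat.pow_lt_pow_right hq2 (by norm_num)
    omega
  · rw [Nat.card_eq_fintype_card (α := K), hK] at h
    exact (Nat.pow_left_injective (n := 3) (by norm_num) h).symm

/-- the centralizer of an involution is not larger than `2 |Y|` -/
theorem Out.card_cent {A : Type*} [Group A] [Finite A] {F₁ F₂ : Type*} [Field F₁] [Field F₂] [Finite F₁] [Finite F₂]
    (t1 : (2 : F₁) ≠ 0) (t2 : (2 : F₂) ≠ 0) (h : Out A F₁ F₂) {t : A} (ht : t * t = 1) (ht1 : t ≠ 1) :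
    Nat.card (centralizer ({t} : Set A)) ≤ Nat.card (SL2 F₁) * Nat.card (SL2 F₂) := by
  rcases h with ⟨h, ⟨e⟩⟩ | ⟨i, h, ⟨e⟩⟩
  · have : Finite ↥(Cfsg.Lie.chevG2.group F₁) := Finite.of_equiv _ e.toEquiv
    rw [card_cent_equiv e t]
    have h1 := hex_card' (Cit.HexG2.g2 F₁ t1) t1 (t := e t) (by rw [← map_mul, ht, map_one])
      (fun h => ht1 (e.injective (by rw [h, map_one])))
    have h3 : Nat.card ↥(fx (RingEquiv.refl F₁)) = Nat.card F₁ :=
      Nat.card_congr ⟨fun x => x, fun x => ⟨x, rfl⟩, fun x => rfl, fun x => rfl⟩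
    rw [card_sl_eq h3] at h1
    rw [← card_sl_eq h]
    exact h1
  · have : Finite ↥(Cfsg.Lie.twistedD4 F₂ (Nat.card F₁)) := Finite.of_equiv _ e.toEquiv
    have hK : Fintype.card F₂ = Nat.card F₁ ^ 3 := by rw [← Nat.card_eq_fintype_card]; exact h
    obtain ⟨σ, hσ, ⟨c⟩⟩ := Cit.HexD4.exists_d4 hK
    rw [card_cent_equiv e t]
    have h1 := hex_card' c t2 (t := e t) (by rw [← map_mul, ht, map_one])
      (fun h => ht1 (e.injective (by rw [h, map_one])))
    rw [card_sl_eq (card_fx hK hσ), mul_comm] at h1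
    exact h1

end Cfsg.Agent.H311
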