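import Cfsg.Agent.H311.Duo
import Cfsg.Agent.TwoFusion.SLTwoFacts

/-!
# Uniqueness of the two factors of a `Duo`
-/

set_option autoImplicit false

namespace Cfsg.Agent.H311

open Matrix Subgroup Cfsg.Agent.GTwoOdd Cfsg.Agent.ClassicalGeometry

section SL

variable {F : Type*} [Field F]

theorem m2_comm_of_comm {X A B : M2 F} (hX : ∀ c : F, X ≠ c • (1 : M2 F)) (hA : A * X = X * A) (hB : B * X = X * B) :
    A * B = B * A := by
  obtain ⟨p, q, r, s, hX'⟩ : ∃ p q r s, X = !![p, q; r, s] := ⟨_, _, _, _, Matrix.eta_fin_two X⟩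
  obtain ⟨a, b, c, d, hA'⟩ : ∃ p q r s, A = !![p, q; r, s] := ⟨_, _, _, _, Matrix.eta_fin_two A⟩
  obtain ⟨a', b', c', d', hB'⟩ : ∃ p q r s, B = !![p, q; r, s] := ⟨_, _, _, _, Matrix.eta_fin_two B⟩
  subst hX' hA' hB'
  have hA00 := congrArg (fun M : M2 F => M 0 0) hA
  have hA01 := congrArg (fun M : M2 F => M 0 1) hA
  have hA10 := congrArg (fun M : M2 F => M 1 0) hA
  have hB00 := congrArg (fun M : M2 F => M 0 0) hB
  have hB01 := congrArg (fun M : M2 F => M 0 1) hB
  have hB10 := congrArg (fun M : M2 F => M 1 0) hB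
  simp only [Matrix.mul_fin_two, Matrix.of_apply, Matrix.cons_val', Matrix.cons_val_zero, Matrix.cons_val_one,
    Matrix.cons_val_fin_one] at hA00 hA01 hA10 hB00 hB01 hB10
  have key : b * c' = b' * c ∧ b * (a' - d') = b' * (a - d) ∧ c * (a' - d') = c' * (a - d) := by
    by_cases hq : q = 0
    · by_cases hr : r = 0
      · have hps : p - s ≠ 0 := by
          intro h
          apply hX p
          ext i j
          fin_cases i <;> fin_cases j <;> simp [hq, hr]
          linear_combination -h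
        subst hq hr
        have h1 : b = 0 := by
          have : (p - s) * b = 0 := by linear_combination -hA01
          exact (mul_eq_zero.1 this).resolve_left hps
        have h2 : c = 0 := by
          have : (p - s) * c = 0 := by linear_combination hA10
          exact (mul_eq_zero.1 this).resolve_left hps
        have h3 : b' = 0 := by
          have : (p - s) * b' = 0 := by linear_combination -hB01
          exact (mul_eq_zero.1 this).resolve_left hps
        have h4 : c' = 0 := by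
          have : (p - s) * c' = 0 := by linear_combination hB10
          exact (mul_eq_zero.1 this).resolve_left hps
        subst h1 h2 h3 h4
        simp
      · have h1 : b = c * q / r := by rw [eq_div_iff hr]; linear_combination hA00
        have h2 : b' = c' * q / r := by rw [eq_div_iff hr]; linear_combination hB00
        have h3 : a - d = c * (p - s) / r := by rw [eq_div_iff hr]; linear_combination -hA10
        have h4 : a' - d' = c' * (p - s) / r := by rw [eq_div_iff hr]; linear_combination -hB10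
        rw [h3, h4, h1, h2]
        refine ⟨by ring, by ring, by ring⟩
    · have h1 : c = b * r / q := by rw [eq_div_iff hq]; linear_combination -hA00
      have h2 : c' = b' * r / q := by rw [eq_div_iff hq]; linear_combination -hB00
      have h3 : a - d = b * (p - s) / q := by rw [eq_div_iff hq]; linear_combination hA01
      have h4 : a' - d' = b' * (p - s) / q := by rw [eq_div_iff hq]; linear_combination hB01
      rw [h3, h4, h1, h2]
      refine ⟨by ring, by ring, by ring⟩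
  obtain ⟨k1, k2, k3⟩ := key
  ext i j
  fin_cases i <;> fin_cases j <;> simp
  · linear_combination k1
  · linear_combination -k2
  · linear_combination k3
  · linear_combination -k1

theorem sl_comm_of_comm {x a b : SL2 F} (h1 : x ≠ 1) (h2 : x ≠ -1) (ha : a * x = x * a) (hb : b * x = x * b) :
    a * b = b * a := by
  apply Subtype.ext
  change (a : M2 F) * (b : M2 F) = (b : M2 F) * (a : M2 F)
  apply m2_comm_of_comm (X := (x : M2 F))
  · intro c hc
    have hd := x.2
    rw [hc, det_smul2, Matrix.det_one, mul_one] at hd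
    rcases mul_self_eq_one_iff.1 hd with h | h
    · apply h1
      apply Subtype.ext
      rw [hc, h, one_smul]; rfl
    · apply h2
      apply Subtype.ext
      rw [hc, h, neg_smul, one_smul]; rfl
  · exact congrArg (fun z : SL2 F => (z : M2 F)) ha
  · exact congrArg (fun z : SL2 F => (z : M2 F)) hb

theorem sl_noncomm : ¬ ∀ a b : SL2 F, a * b = b * a := by
  intro h
  have h1 := h (up 1) (lo 1)
  have h2 := congrArg (fun z : SL2 F => (z : M2 F) 0 0) h1
  simp only [Matrix.SpecialLinearGroup.coe_mul, up_coe, lo_coe, Matrix.mul_fin_two] at h2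
  simp at h2

end SL

namespace Duo

variable {G : Type*} [Group G] {j : G} {F₁ F₂ E₁ E₂ : Type*} [Field F₁] [Field F₂] [Field E₁] [Field E₂]
  (D : Duo j F₁ F₂) (D' : Duo j E₁ E₂)

theorem mem_range1_of_comm {g : G} (hg : g ∈ D.Y) (h : ∀ y, g * D.e2 y = D.e2 y * g) : g ∈ D.e1.range := by
  obtain ⟨a, b, rfl⟩ := hg
  have hb : b = 1 ∨ b = -1 := by
    apply sl_center
    intro y
    have h1 := h y
    rw [mul_assoc, ← mul_assoc (D.e2 y), ← D.comm, mul_assoc] at h1
    have h2 := mul_left_cancel h1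
    rw [← map_mul, ← map_mul] at h2
    exact D.inj2 h2
  rcases hb with rfl | rfl
  · exact ⟨a, by simp⟩
  · refine ⟨-a, ?_⟩
    rw [e1_neg, D.neg2]

/-- the first factor of `D` is the product of its intersections with the factors of `D'` -/
theorem split1 [Fintype F₂] (h2 : Odd (Fintype.card F₂)) (hY : D.Y = D'.Y) (x : SL2 F₁) :
    ∃ u v, D.e1 x = D'.e1 u * D'.e2 v ∧ D'.e1 u ∈ D.e1.range ∧ D'.e2 v ∈ D.e1.range := by
  obtain ⟨u, v, huv⟩ : D.e1 x ∈ D'.Y := by rw [← hY]; exact D.e1_mem x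
  have h4 : j * j = 1 := D.jj
  have hjc : ∀ g ∈ D'.Y, g * j = j * g := fun g hg => D'.Y_j hg
  -- the sign
  have key : ∀ k : SL2 F₂, D'.e1 u * D.e2 k * (D'.e1 u)⁻¹ * (D.e2 k)⁻¹ = 1 ∨
      D'.e1 u * D.e2 k * (D'.e1 u)⁻¹ * (D.e2 k)⁻¹ = j := by
    intro k
    obtain ⟨p, q, hpq⟩ : D.e2 k ∈ D'.Y := by rw [← hY]; exact D.e2_mem k
    have hc := D.comm x k
    rw [← huv, ← hpq, D'.mul_mul, D'.mul_mul] at hc
    have e1 : D'.e1 u * D.e2 k * (D'.e1 u)⁻¹ * (D.e2 k)⁻¹ = D'.e1 (u * p * u⁻¹ * p⁻¹) := by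
      have e2 : D'.e1 u = D'.e1 u * D'.e2 1 := by simp
      rw [← hpq, e2, D'.mul_mul, D'.mul_inv, D'.mul_mul, D'.mul_inv, D'.mul_mul]
      simp
    rw [e1]
    rcases D'.mul_eq_mul hc with ⟨h3, -⟩ | ⟨h3, -⟩
    · left
      rw [h3, mul_inv_cancel_right, mul_inv_cancel, map_one]
    · right
      rw [h3, neg_mul, neg_mul, mul_inv_cancel_right, mul_inv_cancel, D'.neg1]
  let P : Subgroup G := Subgroup.zpowers j
  have hP : IsPGroup 2 P := by
    have : orderOf j ∣ 2 := orderOf_dvd_of_pow_eq_one (by rw [pow_two]; exact h4)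
    rcases (Nat.dvd_prime Nat.prime_two).1 this with h | h
    · exact IsPGroup.of_card (n := 0) (by rw [Nat.card_zpowers, h, pow_zero])
    · exact IsPGroup.of_card (n := 1) (by rw [Nat.card_zpowers, h, pow_one])
  have hmem : ∀ k : SL2 F₂, D'.e1 u * D.e2 k * (D'.e1 u)⁻¹ * (D.e2 k)⁻¹ ∈ P := by
    intro k
    rcases key k with h | h
    · rw [h]; exact P.one_mem
    · rw [h]; exact mem_zpowers j
  let f : SL2 F₂ →* P :=
    { toFun := fun k => ⟨_, hmem k⟩
      map_one' := by
        apply Subtype.ext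
        simp
      map_mul' := by
        intro a b
        apply Subtype.ext
        change D'.e1 u * D.e2 (a * b) * (D'.e1 u)⁻¹ * (D.e2 (a * b))⁻¹ =
          (D'.e1 u * D.e2 a * (D'.e1 u)⁻¹ * (D.e2 a)⁻¹) * (D'.e1 u * D.e2 b * (D'.e1 u)⁻¹ * (D.e2 b)⁻¹)
        have hcc : ∀ g : G, g ∈ D'.Y → (D'.e1 u * D.e2 b * (D'.e1 u)⁻¹ * (D.e2 b)⁻¹) * g =
            g * (D'.e1 u * D.e2 b * (D'.e1 u)⁻¹ * (D.e2 b)⁻¹) := by
          intro g hg
          rcases key b with h | h
          · rw [h, one_mul, mul_one]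
          · rw [h]; exact (hjc g hg).symm
        have ha : D.e2 a ∈ D'.Y := by rw [← hY]; exact D.e2_mem a
        have e1 := hcc _ ha
        calc D'.e1 u * D.e2 (a * b) * (D'.e1 u)⁻¹ * (D.e2 (a * b))⁻¹
            = (D'.e1 u * D.e2 a * (D'.e1 u)⁻¹) * ((D'.e1 u * D.e2 b * (D'.e1 u)⁻¹ * (D.e2 b)⁻¹)) * (D.e2 a)⁻¹ := by
              rw [map_mul]; group
          _ = _ := by
              have e2 := hcc _ (inv_mem ha)
              rw [mul_assoc, e2, ← mul_assoc] }
  have hf : ∀ k, f k = 1 := fun k => Cfsg.Agent.TwoFusion.SLTwoFacts.hom_eq_one h2 hP f k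
  have hcomm : ∀ k, D'.e1 u * D.e2 k = D.e2 k * D'.e1 u := by
    intro k
    have h1 : D'.e1 u * D.e2 k * (D'.e1 u)⁻¹ * (D.e2 k)⁻¹ = 1 := congrArg Subtype.val (hf k)
    have h2 := mul_inv_eq_one.1 h1
    exact mul_inv_eq_iff_eq_mul.1 h2
  have hu : D'.e1 u ∈ D.e1.range := D.mem_range1_of_comm (by rw [hY]; exact D'.e1_mem u) hcomm
  refine ⟨u, v, huv.symm, hu, ?_⟩
  have : D'.e2 v = (D'.e1 u)⁻¹ * D.e1 x := by rw [← huv]; group
  rw [this]
  exact mul_mem (inv_mem hu) ⟨x, rfl⟩

theorem le_or_le [Fintype F₂] (h2 : Odd (Fintype.card F₂)) (hY : D.Y = D'.Y) :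
    D.e1.range ≤ D'.e1.range ∨ D.e1.range ≤ D'.e2.range := by
  by_cases hA : ∃ s : SL2 F₁, s ≠ 1 ∧ s ≠ -1 ∧ D.e1 s ∈ D'.e1.range
  · by_cases hB : ∃ s : SL2 F₁, s ≠ 1 ∧ s ≠ -1 ∧ D.e1 s ∈ D'.e2.range
    · exfalso
      obtain ⟨s, hs1, hs2, ⟨p, hp⟩⟩ := hA
      obtain ⟨s', hs1', hs2', ⟨q, hq⟩⟩ := hB
      have cA : ∀ t : SL2 F₁, D.e1 t ∈ D'.e1.range → t * s' = s' * t := by
        rintro t ⟨r, hr⟩
        apply D.inj1
        rw [map_mul, map_mul, ← hr, ← hq]
        exact D'.comm _ _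
      have cB : ∀ t : SL2 F₁, D.e1 t ∈ D'.e2.range → t * s = s * t := by
        rintro t ⟨r, hr⟩
        apply D.inj1
        rw [map_mul, map_mul, ← hr, ← hp]
        exact (D'.comm _ _).symm
      have cAB : ∀ t t' : SL2 F₁, D.e1 t ∈ D'.e1.range → D.e1 t' ∈ D'.e2.range → t * t' = t' * t := by
        rintro t t' ⟨r, hr⟩ ⟨r', hr'⟩
        apply D.inj1
        rw [map_mul, map_mul, ← hr, ← hr']
        exact D'.comm _ _
      have dec : ∀ x : SL2 F₁, ∃ t t' : SL2 F₁, x = t * t' ∧ D.e1 t ∈ D'.e1.range ∧ D.e1 t' ∈ D'.e2.range := by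
        intro x
        obtain ⟨u, v, h1, ⟨t, ht⟩, ⟨t', ht'⟩⟩ := D.split1 D' h2 hY x
        refine ⟨t, t', D.inj1 ?_, ⟨u, ht.symm⟩, ⟨v, ht'.symm⟩⟩
        rw [map_mul, ht, ht', h1]
      apply sl_noncomm (F := F₁)
      intro x y
      obtain ⟨t, t', rfl, h3, h4⟩ := dec x
      obtain ⟨r, r', rfl, h5, h6⟩ := dec y
      have c1 : t * r = r * t := sl_comm_of_comm hs1' hs2' (cA _ h3) (cA _ h5)
      have c2 : t' * r' = r' * t' := sl_comm_of_comm hs1 hs2 (cB _ h4) (cB _ h6)
      have c3 : t' * r = r * t' := (cAB _ _ h5 h4).symm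
      have c4 : t * r' = r' * t := cAB _ _ h3 h6
      calc t * t' * (r * r') = t * (t' * r) * r' := by group
        _ = (t * r) * (t' * r') := by rw [c3]; group
        _ = r * (t * r') * t' := by rw [c1, c2]; group
        _ = r * r' * (t * t') := by rw [c4]; group
    · left
      rintro _ ⟨x, rfl⟩
      obtain ⟨u, v, h1, -, ⟨t', ht'⟩⟩ := D.split1 D' h2 hY x
      rw [h1]
      refine mul_mem ⟨u, rfl⟩ ?_
      have : t' = 1 ∨ t' = -1 := by
        by_contra hcon
        push Not at hcon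
        exact hB ⟨t', hcon.1, hcon.2, ⟨v, ht'.symm⟩⟩
      rw [← ht']
      rcases this with rfl | rfl
      · rw [map_one]; exact one_mem _
      · rw [D.neg1]; exact ⟨-1, D'.neg1⟩
  · right
    rintro _ ⟨x, rfl⟩
    obtain ⟨u, v, h1, ⟨t, ht⟩, -⟩ := D.split1 D' h2 hY x
    rw [h1]
    refine mul_mem ?_ ⟨v, rfl⟩
    have : t = 1 ∨ t = -1 := by
      by_contra hcon
      push Not at hcon
      exact hA ⟨t, hcon.1, hcon.2, ⟨u, ht.symm⟩⟩
    rw [← ht]
    rcases this with rfl | rfl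
    · rw [map_one]; exact one_mem _
    · rw [D.neg1]; exact ⟨-1, D'.neg2⟩

theorem not_le : ¬ D.e1.range ≤ D.e2.range := by
  intro h
  apply sl_noncomm (F := F₁)
  intro a b
  obtain ⟨c, hc⟩ := h ⟨b, rfl⟩
  apply D.inj1
  rw [map_mul, map_mul, ← hc]
  exact D.comm _ _

theorem Y_sw : D.sw.Y = D.Y := by
  ext g
  constructor
  · rintro ⟨x, y, rfl⟩
    exact ⟨y, x, D.comm y x⟩
  · rintro ⟨x, y, rfl⟩
    exact ⟨y, x, (D.comm x y).symm⟩

/-- **Uniqueness of the factors** -/
theorem unique [Fintype F₁] [Fintype F₂] [Fintype E₁] [Fintype E₂] (h1 : Odd (Fintype.card F₁))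
    (h2 : Odd (Fintype.card F₂)) (h3 : Odd (Fintype.card E₁)) (h4 : Odd (Fintype.card E₂)) (hY : D.Y = D'.Y) :
    (D.e1.range = D'.e1.range ∧ D.e2.range = D'.e2.range) ∨
      (D.e1.range = D'.e2.range ∧ D.e2.range = D'.e1.range) := by
  have a1 := D.le_or_le D' h2 hY
  have a2 : D.e2.range ≤ D'.e1.range ∨ D.e2.range ≤ D'.e2.range :=
    D.sw.le_or_le D' h1 (by rw [Y_sw, hY])
  have b1 : D'.e1.range ≤ D.e1.range ∨ D'.e1.range ≤ D.e2.range := D'.le_or_le D h4 hY.symm
  have b2 : D'.e2.range ≤ D.e1.range ∨ D'.e2.range ≤ D.e2.range :=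
    D'.sw.le_or_le D h3 (by rw [Y_sw, hY])
  have n1 : ¬ D.e1.range ≤ D.e2.range := D.not_le
  have n2 : ¬ D.e2.range ≤ D.e1.range := D.sw.not_le
  have n3 : ¬ D'.e1.range ≤ D'.e2.range := D'.not_le
  have n4 : ¬ D'.e2.range ≤ D'.e1.range := D'.sw.not_le
  rcases a1 with a1 | a1
  · left
    have c1 : D'.e1.range ≤ D.e1.range := b1.resolve_right fun h => n1 (a1.trans h)
    have e1 : D.e1.range = D'.e1.range := le_antisymm a1 c1
    have c2 : D.e2.range ≤ D'.e2.range := a2.resolve_left fun h => n2 (h.trans c1)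
    have c3 : D'.e2.range ≤ D.e2.range := b2.resolve_left fun h => n2 (c2.trans h)
    exact ⟨e1, le_antisymm c2 c3⟩
  · right
    have c1 : D'.e2.range ≤ D.e1.range := b2.resolve_right fun h => n1 (a1.trans h)
    have e1 : D.e1.range = D'.e2.range := le_antisymm a1 c1
    have c2 : D.e2.range ≤ D'.e1.range := a2.resolve_right fun h => n2 (h.trans c1)
    have c3 : D'.e1.range ≤ D.e2.range := b1.resolve_left fun h => n2 (c2.trans h)
    exact ⟨e1, le_antisymm c2 c3⟩

/-- conjugate of a `Duo` by an element commuting with `j` -/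
def cj (c : G) (hc : c * j = j * c) : Duo j F₁ F₂ where
  e1 := (MulAut.conj c).toMonoidHom.comp D.e1
  e2 := (MulAut.conj c).toMonoidHom.comp D.e2
  inj1 := (MulAut.conj c).injective.comp D.inj1
  inj2 := (MulAut.conj c).injective.comp D.inj2
  comm x y := by
    change MulAut.conj c (D.e1 x) * MulAut.conj c (D.e2 y) = MulAut.conj c (D.e2 y) * MulAut.conj c (D.e1 x)
    rw [← map_mul, D.comm, map_mul]
  neg1 := by
    change c * D.e1 (-1) * c⁻¹ = j
    rw [D.neg1, hc, mul_inv_cancel_right]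
  neg2 := by
    change c * D.e2 (-1) * c⁻¹ = j
    rw [D.neg2, hc, mul_inv_cancel_right]

theorem cj_range1 (c : G) (hc : c * j = j * c) :
    (D.cj c hc).e1.range = D.e1.range.map (MulAut.conj c).toMonoidHom := by
  change ((MulAut.conj c).toMonoidHom.comp D.e1).range = _
  rw [MonoidHom.range_comp]

theorem cj_range2 (c : G) (hc : c * j = j * c) :
    (D.cj c hc).e2.range = D.e2.range.map (MulAut.conj c).toMonoidHom := by
  change ((MulAut.conj c).toMonoidHom.comp D.e2).range = _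
  rw [MonoidHom.range_comp]

theorem cj_Y (c : G) (hc : c * j = j * c) :
    (D.cj c hc).Y = D.Y.map (MulAut.conj c).toMonoidHom := by
  rw [Y_eq, Y_eq, cj_range1, cj_range2, Subgroup.map_sup]

end Duo

end Cfsg.Agent.H311
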