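import Cfsg.Agent.H311.FactB
import Cfsg.Agent.Cit.QModSL

/-!
# Fusion inside `L₁ L₂`: an outer element acting with nonsquare determinants (preparations)
-/

set_option autoImplicit false

namespace Cfsg.Agent.H311

open Matrix Subgroup Cfsg.Agent.GTwoOdd Cfsg.Agent.ClassicalGeometry Cfsg.Agent.Lib.SL2Mat
open Cfsg.Agent.Lib.AutSL2Out

section SL

variable {F : Type*} [Field F]

theorem conj_pow_two {G : Type*} [Group G] (g x : G) (n : ℕ) : (g * x * g⁻¹) ^ n = g * x ^ n * g⁻¹ := conj_pow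

/-- the maximal `2`-power order in the centralizer of `a` -/
theorem not_dvd_of_max [Fintype F] (hF : Odd (Fintype.card F)) {a : SL2 F} (ha : a * a = -1) {m : ℕ}
    (hmax : ∀ r : SL2 F, r * a = a * r → IsTwo r → r ^ 2 ^ m = 1 ∨ r ^ 2 ^ m = -1) :
    ¬ 2 ^ (m + 3) ∣ Nat.card F ^ 2 - 1 := by
  have h2 := SLTwoFour.two_ne_zero_of_odd (F := F) hF
  obtain ⟨P⟩ : Nonempty (Sylow 2 (SL2 F)) := inferInstance
  obtain ⟨c, v, n, h, hn⟩ := Cit.QModSL.exists_coord hF P
  -- conjugate `c ^ 2 ^ n` to `a`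
  obtain ⟨g, hg⟩ := SLTwoFour.exists_conj_w hF _ h.four
  obtain ⟨k, hk⟩ := SLTwoFour.exists_conj_w hF a ha
  set l := k * g⁻¹ with hl
  have h3 : l * c ^ 2 ^ n * l⁻¹ = a := by
    rw [← hk, ← hg, hl]; group
  have h4 : (l * c * l⁻¹) ^ 2 ^ n = a := by rw [conj_pow_two, h3]
  have h5 : (l * c * l⁻¹) ^ 2 ^ (n + 1) = -1 := by
    rw [pow_succ, pow_mul, h4, pow_two, ha]
  have h6 : (l * c * l⁻¹) * a = a * (l * c * l⁻¹) := by
    rw [← h4]; exact (Commute.refl _).pow_right _ |>.eq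
  have h7 : IsTwo (l * c * l⁻¹) := ⟨n + 1 + 1, by rw [pow_succ, pow_mul, h5, neg_one_sq]⟩
  have h8 : n + 1 ≤ m := by
    by_contra hcon
    push Not at hcon
    obtain ⟨i, hi⟩ := Nat.exists_eq_add_of_lt hcon
    have h9 : (l * c * l⁻¹) ^ 2 ^ (n + 1) = 1 := by
      rw [hi, show m + i + 1 = m + (i + 1) by ring, pow_add, pow_mul]
      rcases hmax _ h6 h7 with h | h <;> rw [h]
      · rw [one_pow]
      · rw [pow_succ', pow_mul, neg_one_sq, one_pow]
    rw [h5] at h9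
    exact sl_one_ne_neg h2 h9.symm
  intro hd
  apply hn
  exact (pow_dvd_pow 2 (by omega)).trans hd

theorem eq_of_sq_comm (h2 : (2 : F) ≠ 0) {a c : SL2 F} (ha : a * a = -1) (hc : c * c = -1) (hca : c * a = a * c) :
    c = a ∨ c = -a := by
  have h3 : (c * a) * (c * a) = 1 := by
    have : (c * a) * (c * a) = c * (a * c) * a := by group
    rw [this, ← hca]
    have : c * (c * a) * a = (c * c) * (a * a) := by group
    rw [this, hc, ha]; simp
  have ha' : a⁻¹ = -a := by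
    rw [inv_eq_iff_mul_eq_one, mul_neg, ha, neg_neg]
  rcases SLTwoFour.eq_one_or_neg_one_of_mul_self h2 _ h3 with h | h
  · right
    rw [← ha']
    exact eq_inv_of_mul_eq_one_left h
  · left
    have h4 : c = -1 * a⁻¹ := eq_mul_inv_of_mul_eq h
    rw [h4, ha']; simp

/-- an automorphism of `2`-power order fixing an element of maximal `2`-power order whose square acts as an element
without square root -/
theorem exists_nonsq [Fintype F] (hF : Odd (Fintype.card F)) {a z : SL2 F} {m : ℕ} (ha : a * a = -1)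
    (hza : z * a = a * z) (hm : 1 ≤ m) (hz : z ^ 2 ^ m = -1)
    (hmax : ∀ r : SL2 F, r * a = a * r → IsTwo r → r ^ 2 ^ m = 1 ∨ r ^ 2 ^ m = -1) (α : MulAut (SL2 F)) {n : ℕ}
    (hα : α ^ 2 ^ n = 1) (hαz : α z = z) {c : SL2 F} (hαc : ∀ x, α (α x) = c * x * c⁻¹) (hc : c ^ 2 ^ m = -1) :
    ∃ g : GL (Fin 2) F, α = conjGL g ∧ ¬ IsSquare g.1.det := by
  have h2 := SLTwoFour.two_ne_zero_of_odd (F := F) hF
  obtain ⟨p, hp⟩ := CharP.exists F
  have hpp : Fact p.Prime := ⟨CharP.char_is_prime F p⟩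
  have hp2 : p ≠ 2 := by
    rintro rfl
    exact h2 (by exact_mod_cast CharP.cast_eq_zero F 2)
  have hord : orderOf z = 2 ^ (m + 1) := by
    apply orderOf_eq_prime_pow
    · rw [hz]; exact (sl_one_ne_neg h2).symm
    · rw [pow_succ, pow_mul, hz, neg_one_sq]
  obtain ⟨g, hg⟩ := BridgeField.exists_conjGL (p := p) hp2 (not_dvd_of_max hF ha hmax) z hord α n hα hαz
  refine ⟨g, hg, ?_⟩
  rintro ⟨d, hd⟩
  have hd0 : d ≠ 0 := by
    rintro rfl
    exact (Matrix.GeneralLinearGroup.det g).ne_zero (by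
      change g.1.det = 0
      rw [hd, mul_zero])
  obtain ⟨h, hh⟩ := conjGL_of_det_sq g d hd0 (by rw [hd, pow_two])
  have hαh : ∀ x, α x = h * x * h⁻¹ := fun x => by rw [hg]; exact hh x
  -- `h` commutes with `z`, hence with `a`
  have hhz : h * z = z * h := by
    have := hαh z
    rw [hαz] at this
    exact (eq_mul_inv_iff_mul_eq.1 this).symm
  have hz1 : z ≠ 1 := by
    rintro rfl
    rw [one_pow] at hz
    exact sl_one_ne_neg h2 hz
  have hz2 : z ≠ -1 := by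
    rintro rfl
    obtain ⟨k, rfl⟩ : ∃ k, m = k + 1 := ⟨m - 1, by omega⟩
    rw [pow_succ', pow_mul, neg_one_sq, one_pow] at hz
    exact sl_one_ne_neg h2 hz
  have hha : h * a = a * h := sl_comm_of_comm hz1 hz2 hhz hza.symm
  have hcc : (c⁻¹ * (h * h)) = 1 ∨ (c⁻¹ * (h * h)) = -1 := by
    apply sl_center
    intro x
    have h3 := hαc x
    rw [hαh, hαh] at h3
    have h4 : h * h * x = c * x * c⁻¹ * (h * h) := by rw [← h3]; group
    calc c⁻¹ * (h * h) * x = c⁻¹ * (h * h * x) := by group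
      _ = x * (c⁻¹ * (h * h)) := by rw [h4]; group
  have hneg : (-1 : SL2 F) ^ 2 ^ m = 1 := by
    obtain ⟨k, rfl⟩ : ∃ k, m = k + 1 := ⟨m - 1, by omega⟩
    rw [pow_succ', pow_mul, neg_one_sq, one_pow]
  have hpow : (h * h) ^ 2 ^ m = -1 := by
    rcases hcc with h3 | h3
    · rw [inv_mul_eq_one] at h3
      rw [← h3, hc]
    · rw [inv_mul_eq_iff_eq_mul] at h3
      rw [h3, mul_neg, mul_one, ← neg_one_mul, (show Commute (-1 : SL2 F) c by
        change -1 * c = c * -1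
        simp).mul_pow, hneg, hc, one_mul]
  have hpow' : (h ^ 2 ^ m) ^ 2 = -1 := by
    rw [← pow_mul, mul_comm, pow_mul, pow_two h]; exact hpow
  have hh2 : IsTwo h := ⟨m + 1 + 1, by rw [pow_succ, pow_succ, pow_mul, pow_mul, hpow', neg_one_sq]⟩
  rcases hmax h hha hh2 with h3 | h3 <;> rw [h3] at hpow'
  · rw [one_pow] at hpow'
    exact sl_one_ne_neg h2 hpow'
  · rw [neg_one_sq] at hpow'
    exact sl_one_ne_neg h2 hpow'

end SL

namespace Duo

variable {G : Type*} [Group G] {j : G} {F₁ F₂ : Type*} [Field F₁] [Field F₂] {D : Duo j F₁ F₂}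

theorem acts_nonsq [Fintype F₁] (hF : Odd (Fintype.card F₁)) {a z : SL2 F₁} {m : ℕ} (ha : a * a = -1)
    (hza : z * a = a * z) (hm : 1 ≤ m) (hz : z ^ 2 ^ m = -1)
    (hmax : ∀ r : SL2 F₁, r * a = a * r → IsTwo r → r ^ 2 ^ m = 1 ∨ r ^ 2 ^ m = -1) {s : G} (hs : IsTwo s)
    (hn : ∀ x, ∃ y, s * D.e1 x = D.e1 y * s) (hsz : s * D.e1 z = D.e1 z * s) {c : SL2 F₁} {d : SL2 F₂}
    (hss : s * s = D.e1 c * D.e2 d) (hc : c ^ 2 ^ m = -1) : ∃ A, Acts D.e1 s A ∧ ¬ IsSquare A.det := by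
  obtain ⟨α, hα⟩ := exists_aut D.inj1 hn
  obtain ⟨n, hn⟩ := hs
  obtain ⟨g, hg, hg2⟩ := exists_nonsq hF ha hza hm hz hmax α (n := n) (by
      apply MulEquiv.ext
      intro x
      apply D.inj1
      rw [aut_pow hα, hn]
      simp) (by
      apply D.inj1
      rw [hα, hsz]; group) (c := c) (by
      intro x
      apply D.inj1
      rw [hα, hα]
      have : s * (s * D.e1 x * s⁻¹) * s⁻¹ = (s * s) * D.e1 x * (s * s)⁻¹ := by group
      rw [this, hss]
      have h3 := D.conj_conj c x d 1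
      rw [map_one, mul_one] at h3
      rw [h3]; simp) hc
  subst hg
  exact ⟨_, acts_of_aut hα, hg2⟩

theorem NS.sw (N : D.NS) : D.sw.NS where
  half := ⟨fun c hc y hy => by
      rw [Y_sw] at hy ⊢
      exact N.half.norm c hc y hy, fun T hT hTj a ha b hb h1 h2 => by
      rw [Y_sw] at h1 h2 ⊢
      exact N.half.half T hT hTj a ha b hb h1 h2⟩
  n1 := N.n2
  n2 := N.n1
  cent c hc h1 h2 := N.cent c hc h2 h1

theorem DD.sw {y : G} (h : D.sw.DD y) : D.DD y := by
  obtain ⟨A, B, h1, h2, h3, h4⟩ := h.acts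
  exact ⟨h.comm, h.sq, B, A, h2, h1, h4, h3⟩

end Duo

end Cfsg.Agent.H311
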