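import Cfsg.Agent.H311.FactA1

/-!
# Fusion inside `L₁ L₂`: the Sylow subgroup of `C(⟨j, x⟩)`
-/

set_option autoImplicit false

namespace Cfsg.Agent.H311

open Matrix Subgroup Cfsg.Agent.GTwoOdd Cfsg.Agent.ClassicalGeometry Cfsg.Agent.Lib.SL2Mat

namespace Duo

variable {G : Type*} [Group G] {j : G} {F₁ F₂ : Type*} [Field F₁] [Field F₂]

/-- `τ` swaps `j` and `e₁(a) e₂(b)` and normalizes the `2`-group `S` -/
structure Fus (D : Duo j F₁ F₂) (S : Subgroup G) (τ : G) (a u z : SL2 F₁) (b v z' : SL2 F₂) (m m' : ℕ) : Prop where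
  aa : a * a = -1
  bb : b * b = -1
  ua : u * a = -(a * u)
  vb : v * b = -(b * v)
  Sj : ∀ s ∈ S, s * j = j * s
  Sx : ∀ s ∈ S, s * (D.e1 a * D.e2 b) = (D.e1 a * D.e2 b) * s
  S2 : IsPGroup 2 S
  memA : ∀ r, r * a = a * r → IsTwo r → D.e1 r ∈ S
  memB : ∀ r, r * b = b * r → IsTwo r → D.e2 r ∈ S
  memW : D.e1 u * D.e2 v ∈ S
  τj : τ * j * τ⁻¹ = D.e1 a * D.e2 b
  τx : τ * (D.e1 a * D.e2 b) * τ⁻¹ = j
  τS : ∀ s ∈ S, τ * s * τ⁻¹ ∈ S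
  hm : 1 ≤ m
  hz : z * a = a * z
  hzm : z ^ 2 ^ m = -1
  hmax : ∀ r : SL2 F₁, r * a = a * r → IsTwo r → r ^ 2 ^ m = 1 ∨ r ^ 2 ^ m = -1
  hm' : 1 ≤ m'
  hz' : z' * b = b * z'
  hzm' : z' ^ 2 ^ m' = -1
  hmax' : ∀ r : SL2 F₂, r * b = b * r → IsTwo r → r ^ 2 ^ m' = 1 ∨ r ^ 2 ^ m' = -1
  le : m' ≤ m

/-- commuting with `e₁(a)` and `e₂(b)` -/
def Pl (D : Duo j F₁ F₂) (a : SL2 F₁) (b : SL2 F₂) (s : G) : Prop :=
  s * D.e1 a = D.e1 a * s ∧ s * D.e2 b = D.e2 b * s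

/-- inverting `e₁(a)` and `e₂(b)` -/
def Mi (D : Duo j F₁ F₂) (a : SL2 F₁) (b : SL2 F₂) (s : G) : Prop :=
  s * D.e1 a = D.e1 (-a) * s ∧ s * D.e2 b = D.e2 (-b) * s

section

variable {D : Duo j F₁ F₂} {a : SL2 F₁} {b : SL2 F₂}

theorem j_e1 (D : Duo j F₁ F₂) (x : SL2 F₁) : j * D.e1 x = D.e1 (-x) := by rw [D.e1_neg, D.e1_j]

theorem j_e2 (D : Duo j F₁ F₂) (x : SL2 F₂) : j * D.e2 x = D.e2 (-x) := by rw [D.e2_neg, D.e2_j]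

theorem Pl.mul {s t : G} (hs : D.Pl a b s) (ht : D.Pl a b t) : D.Pl a b (s * t) :=
  ⟨by rw [mul_assoc, ht.1, ← mul_assoc, hs.1, mul_assoc], by rw [mul_assoc, ht.2, ← mul_assoc, hs.2, mul_assoc]⟩

theorem Pl.inv {s : G} (hs : D.Pl a b s) : D.Pl a b s⁻¹ :=
  ⟨by rw [inv_mul_eq_iff_eq_mul, ← mul_assoc, hs.1, mul_inv_cancel_right],
    by rw [inv_mul_eq_iff_eq_mul, ← mul_assoc, hs.2, mul_inv_cancel_right]⟩

theorem Mi.neg1 {s : G} (hs : D.Mi a b s) (hsj : s * j = j * s) : s * D.e1 (-a) = D.e1 a * s := by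
  rw [D.e1_neg, ← mul_assoc, hs.1, mul_assoc, hsj, ← mul_assoc, D.e1_neg, mul_assoc (D.e1 a), D.jj, mul_one]

theorem Mi.neg2 {s : G} (hs : D.Mi a b s) (hsj : s * j = j * s) : s * D.e2 (-b) = D.e2 b * s := by
  rw [D.e2_neg, ← mul_assoc, hs.2, mul_assoc, hsj, ← mul_assoc, D.e2_neg, mul_assoc (D.e2 b), D.jj, mul_one]

theorem Mi.mul {s t : G} (hs : D.Mi a b s) (ht : D.Mi a b t) (hsj : s * j = j * s) : D.Pl a b (s * t) :=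
  ⟨by rw [mul_assoc, ht.1, ← mul_assoc, hs.neg1 hsj, mul_assoc], by
    rw [mul_assoc, ht.2, ← mul_assoc, hs.neg2 hsj, mul_assoc]⟩

theorem Mi.inv {s : G} (hs : D.Mi a b s) (hsj : s * j = j * s) : D.Mi a b s⁻¹ :=
  ⟨by rw [inv_mul_eq_iff_eq_mul, ← mul_assoc, hs.neg1 hsj, mul_inv_cancel_right],
    by rw [inv_mul_eq_iff_eq_mul, ← mul_assoc, hs.neg2 hsj, mul_inv_cancel_right]⟩

theorem not_Pl_Mi (t1 : (2 : F₁) ≠ 0) {s : G} (hs : D.Mi a b s) (hs' : D.Pl a b s) : False := by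
  have h := hs.1
  rw [hs'.1] at h
  have h1 := D.inj1 (mul_right_cancel h)
  have h2 : (1 : SL2 F₁) = -1 := by
    have : a * a⁻¹ = -a * a⁻¹ := by rw [← h1]
    simpa using this
  exact sl_one_ne_neg t1 h2

end

end Duo

end Cfsg.Agent.H311
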