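import Cfsg.Agent.H311.FactA2

/-!
# Fusion inside `L₁ L₂`: lemmas on `Fus`
-/

set_option autoImplicit false

namespace Cfsg.Agent.H311

open Matrix Subgroup Cfsg.Agent.GTwoOdd Cfsg.Agent.ClassicalGeometry Cfsg.Agent.Lib.SL2Mat

section SL

variable {F : Type*} [Field F]

theorem sl_pow_comm {a c : SL2 F} (hc : c * a = a * c) (n : ℕ) : c ^ n * a = a * c ^ n :=
  ((show Commute c a from hc).pow_left n).eq

theorem sl_eq_neg_self (h2 : (2 : F) ≠ 0) {x : SL2 F} (h : x = -x) : False := by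
  apply sl_one_ne_neg h2
  have : x * x⁻¹ = -x * x⁻¹ := by rw [← h]
  simpa using this

/-- an automorphism fixing `a` acts as `±1` on the `2`-elements of `C(a)` with `α² = 1` -/
theorem aut_pm (h2 : (2 : F) ≠ 0) (α : MulAut (SL2 F)) {a c : SL2 F} (ha : a * a = -1) (hαa : α a = a)
    (hc : c * a = a * c) (hc2 : IsTwo c) (hαα : α (α c) = c) : α c = c ∨ α c = -c := by
  obtain ⟨n1, n2⟩ := sl_ne_of_sq h2 ha
  have h1 : α c * a = a * α c := by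
    have h := congrArg α hc
    rwa [map_mul, map_mul, hαa] at h
  have h3 : α c * c⁻¹ = c⁻¹ * α c := by
    have h4 := sl_comm_of_comm n1 n2 h1 hc
    exact (show Commute (α c) c from h4).inv_right.eq
  have hci : c⁻¹ * a = a * c⁻¹ := (show Commute c a from hc).inv_left.eq
  have ht : (α c * c⁻¹) * a = a * (α c * c⁻¹) := by
    rw [mul_assoc, hci, ← mul_assoc, h1, mul_assoc]
  have ht2 : IsTwo (α c * c⁻¹) := by
    apply isTwo_of_mul h3 (hc2.map α.toMonoidHom)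
    obtain ⟨n, hn⟩ := hc2
    exact ⟨n, by rw [inv_pow, hn, inv_one]⟩
  have hαt : α (α c * c⁻¹) = (α c * c⁻¹)⁻¹ := by
    rw [map_mul, map_inv, hαα]; group
  by_cases e1 : α c * c⁻¹ = 1
  · left; exact mul_inv_eq_one.1 e1
  by_cases e2 : α c * c⁻¹ = -1
  · right
    rw [mul_inv_eq_iff_eq_mul] at e2
    rw [e2]; simp
  exfalso
  obtain ⟨i, hi⟩ := exists_pow_sq h2 ht2 e1 e2
  generalize α c * c⁻¹ = t at *
  have h5 : α (t ^ 2 ^ i) = t ^ 2 ^ i := by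
    rcases eq_of_sq_comm h2 ha hi (sl_pow_comm ht _) with h | h <;> rw [h]
    · exact hαa
    · rw [aut_neg h2, hαa]
  have h6 : α (t ^ 2 ^ i) = (t ^ 2 ^ i)⁻¹ := by rw [map_pow, hαt, inv_pow]
  rw [h5] at h6
  have h7 : t ^ 2 ^ i * t ^ 2 ^ i = 1 := by
    nth_rewrite 2 [h6]
    exact mul_inv_cancel _
  rw [hi] at h7
  exact sl_one_ne_neg h2 h7.symm

theorem aut_mi_fix (h2 : (2 : F) ≠ 0) (α : MulAut (SL2 F)) {a c : SL2 F} (ha : a * a = -1) (hαa : α a = -a)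
    (hc : c * a = a * c) (hc2 : IsTwo c) (hαc : α c = c) : c = 1 ∨ c = -1 := by
  by_contra hcon
  push Not at hcon
  obtain ⟨i, hi⟩ := exists_pow_sq h2 hc2 hcon.1 hcon.2
  have h5 : α (c ^ 2 ^ i) = -c ^ 2 ^ i := by
    rcases eq_of_sq_comm h2 ha hi (sl_pow_comm hc _) with h | h <;> rw [h]
    · exact hαa
    · rw [aut_neg h2, hαa]
  rw [map_pow, hαc] at h5
  exact sl_eq_neg_self h2 h5

theorem aut_mi_neg (h2 : (2 : F) ≠ 0) (α : MulAut (SL2 F)) {a c : SL2 F} (ha : a * a = -1) (hαa : α a = -a)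
    (hc : c * a = a * c) (hc2 : IsTwo c) (hαc : α c = -c) : c * c = -1 := by
  have n1 : c ≠ 1 := by
    rintro rfl
    rw [map_one] at hαc
    exact sl_eq_neg_self h2 hαc
  have n2 : c ≠ -1 := by
    rintro rfl
    rw [aut_neg_one h2] at hαc
    exact sl_eq_neg_self h2 hαc
  obtain ⟨i, hi⟩ := exists_pow_sq h2 hc2 n1 n2
  cases i with
  | zero => simpa using hi
  | succ i =>
    exfalso
    have h5 : α (c ^ 2 ^ (i + 1)) = -c ^ 2 ^ (i + 1) := by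
      rcases eq_of_sq_comm h2 ha hi (sl_pow_comm hc _) with h | h <;> rw [h]
      · exact hαa
      · rw [aut_neg h2, hαa]
    rw [map_pow, hαc, pow_succ', pow_mul, neg_sq, ← pow_mul] at h5
    exact sl_eq_neg_self h2 h5

end SL

namespace Duo

variable {G : Type*} [Group G] {j : G} {F₁ F₂ : Type*} [Field F₁] [Field F₂]

theorem comm1_iff (D : Duo j F₁ F₂) {c x y : SL2 F₁} {d : SL2 F₂} :
    (D.e1 c * D.e2 d) * D.e1 x = D.e1 y * (D.e1 c * D.e2 d) ↔ c * x = y * c := by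
  rw [mul_assoc, ← D.comm, ← mul_assoc, ← mul_assoc, mul_left_inj, ← map_mul, ← map_mul, D.inj1.eq_iff]

theorem comm2_iff (D : Duo j F₁ F₂) {c : SL2 F₁} {d x y : SL2 F₂} :
    (D.e1 c * D.e2 d) * D.e2 x = D.e2 y * (D.e1 c * D.e2 d) ↔ d * x = y * d := by
  rw [mul_assoc, ← mul_assoc (D.e2 y), ← D.comm, mul_assoc, mul_right_inj, ← map_mul, ← map_mul, D.inj2.eq_iff]

theorem isTwo_fst {D : Duo j F₁ F₂} {p : SL2 F₁} {q : SL2 F₂} (h : IsTwo (D.e1 p * D.e2 q)) : IsTwo p := by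
  obtain ⟨n, hn⟩ := h
  rw [(show Commute (D.e1 p) (D.e2 q) from D.comm _ _).mul_pow, ← map_pow, ← map_pow] at hn
  refine ⟨n + 1, ?_⟩
  rw [pow_succ, pow_mul]
  rcases D.mul_eq_one hn with ⟨h, -⟩ | ⟨h, -⟩ <;> rw [h] <;> simp

theorem isTwo_snd {D : Duo j F₁ F₂} {p : SL2 F₁} {q : SL2 F₂} (h : IsTwo (D.e1 p * D.e2 q)) : IsTwo q := by
  obtain ⟨n, hn⟩ := h
  rw [(show Commute (D.e1 p) (D.e2 q) from D.comm _ _).mul_pow, ← map_pow, ← map_pow] at hn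
  refine ⟨n + 1, ?_⟩
  rw [pow_succ, pow_mul]
  rcases D.mul_eq_one hn with ⟨-, h⟩ | ⟨-, h⟩ <;> rw [h] <;> simp

namespace Fus

variable {D : Duo j F₁ F₂} {S : Subgroup G} {τ : G} {a u z : SL2 F₁} {b v z' : SL2 F₂} {m m' : ℕ}

section cases

variable (f : Fus D S τ a u z b v z' m m') (N : D.NS)
include f N

theorem cases {s : G} (hs : s ∈ S) : D.Pl a b s ∨ D.Mi a b s := by
  obtain ⟨a', ha'⟩ := N.n1 s (f.Sj s hs) a
  obtain ⟨b', hb'⟩ := N.n2 s (f.Sj s hs) b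
  have h := f.Sx s hs
  have e : s * (D.e1 a * D.e2 b) = (D.e1 a' * D.e2 b') * s := by
    rw [← mul_assoc, ha', mul_assoc, hb', ← mul_assoc]
  rw [e] at h
  rcases D.mul_eq_mul (mul_right_cancel h) with ⟨rfl, rfl⟩ | ⟨rfl, rfl⟩
  · exact Or.inl ⟨ha', hb'⟩
  · exact Or.inr ⟨ha', hb'⟩

theorem half {s t : G} (hs : s ∈ S) (ht : t ∈ S) (hsY : s ∉ D.Y) (htY : t ∉ D.Y) : s * t ∈ D.Y :=
  N.half.half S f.S2 f.Sj s hs t ht hsY htY

end cases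

variable (f : Fus D S τ a u z b v z' m m')
include f

omit f in
theorem plus_Y {S : Subgroup G} (hS2 : IsPGroup 2 S) {s : G} (hs : s ∈ S) (hY : s ∈ D.Y) (hp : D.Pl a b s) :
    ∃ c d, s = D.e1 c * D.e2 d ∧ c * a = a * c ∧ d * b = b * d ∧ IsTwo c ∧ IsTwo d := by
  obtain ⟨c, d, rfl⟩ := hY
  exact ⟨c, d, rfl, D.comm1_iff.1 hp.1, D.comm2_iff.1 hp.2, isTwo_fst (isTwo_of_isPGroup hS2 hs),
    isTwo_snd (isTwo_of_isPGroup hS2 hs)⟩

omit f in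
theorem minus_Y (t1 : (2 : F₁) ≠ 0) (t2 : (2 : F₂) ≠ 0) {s : G} (hY : s ∈ D.Y) (hp : D.Mi a b s) : s * s = 1 := by
  obtain ⟨c, d, rfl⟩ := hY
  have h1 := D.comm1_iff.1 hp.1
  have h2 := D.comm2_iff.1 hp.2
  rw [neg_mul] at h1 h2
  rw [mul_mul, sl_anti t1 h1, sl_anti t2 h2, D.neg1, D.neg2, D.jj]

omit f in
theorem plus_ee (D : Duo j F₁ F₂) {c : SL2 F₁} {d : SL2 F₂} (hc : c * a = a * c) (hd : d * b = b * d) :
    D.Pl a b (D.e1 c * D.e2 d) := ⟨D.comm1_iff.2 hc, D.comm2_iff.2 hd⟩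

theorem plus_sq (N : D.NS) {p : G} (hp : p ∈ S) (hpp : D.Pl a b p) :
    ∃ c d, p * p = D.e1 c * D.e2 d ∧ c * a = a * c ∧ d * b = b * d ∧ IsTwo c ∧ IsTwo d :=
  plus_Y f.S2 (mul_mem hp hp) (N.sq_mem (f.Sj p hp) (isTwo_of_isPGroup f.S2 hp)) (hpp.mul hpp)

theorem pm1 [Finite F₁] (t1 : (2 : F₁) ≠ 0) (N : D.NS) {p : G} (hp : p ∈ S) (hpp : D.Pl a b p) {c : SL2 F₁}
    (hc : c * a = a * c) (hc2 : IsTwo c) : p * D.e1 c * p⁻¹ = D.e1 c ∨ p * D.e1 c * p⁻¹ = D.e1 (-c) := by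
  obtain ⟨α, hα⟩ := exists_aut D.inj1 (N.n1 p (f.Sj p hp))
  obtain ⟨c0, d0, h0, h1, -⟩ := f.plus_sq N hp hpp
  obtain ⟨n1, n2⟩ := sl_ne_of_sq t1 f.aa
  have h3 := aut_pm t1 α f.aa (by
    apply D.inj1
    rw [hα, hpp.1]; group) hc hc2 (by
    apply D.inj1
    rw [hα, hα]
    have : p * (p * D.e1 c * p⁻¹) * p⁻¹ = (p * p) * D.e1 c * (p * p)⁻¹ := by group
    rw [this, h0, D.comm1_iff.2 (sl_comm_of_comm n1 n2 h1 hc)]; group)
  rcases h3 with h3 | h3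
  · left; rw [← hα, h3]
  · right; rw [← hα, h3]

theorem pm2 [Finite F₂] (t2 : (2 : F₂) ≠ 0) (N : D.NS) {p : G} (hp : p ∈ S) (hpp : D.Pl a b p) {c : SL2 F₂}
    (hc : c * b = b * c) (hc2 : IsTwo c) : p * D.e2 c * p⁻¹ = D.e2 c ∨ p * D.e2 c * p⁻¹ = D.e2 (-c) := by
  obtain ⟨α, hα⟩ := exists_aut D.inj2 (N.n2 p (f.Sj p hp))
  obtain ⟨c0, d0, h0, -, h1, -⟩ := f.plus_sq N hp hpp
  obtain ⟨n1, n2⟩ := sl_ne_of_sq t2 f.bb
  have h3 := aut_pm t2 α f.bb (by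
    apply D.inj2
    rw [hα, hpp.2]; group) hc hc2 (by
    apply D.inj2
    rw [hα, hα]
    have : p * (p * D.e2 c * p⁻¹) * p⁻¹ = (p * p) * D.e2 c * (p * p)⁻¹ := by group
    rw [this, h0, D.comm2_iff.2 (sl_comm_of_comm n1 n2 h1 hc)]; group)
  rcases h3 with h3 | h3
  · left; rw [← hα, h3]
  · right; rw [← hα, h3]

theorem comm_pm [Finite F₁] [Finite F₂] (t1 : (2 : F₁) ≠ 0) (t2 : (2 : F₂) ≠ 0) (N : D.NS) {p q : G} (hp : p ∈ S)
    (hq : q ∈ S) (hpp : D.Pl a b p) (hqq : D.Pl a b q) : p * q * p⁻¹ = q ∨ p * q * p⁻¹ = j * q := by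
  have key : ∀ p q : G, p ∈ S → q ∈ S → D.Pl a b p → D.Pl a b q → q ∈ D.Y → p * q * p⁻¹ = q ∨ p * q * p⁻¹ = j * q := by
    intro p q hp hq hpp hqq hqY
    obtain ⟨c, d, rfl, hc, hd, hc2, hd2⟩ := plus_Y f.S2 hq hqY hqq
    have e : p * (D.e1 c * D.e2 d) * p⁻¹ = (p * D.e1 c * p⁻¹) * (p * D.e2 d * p⁻¹) := by group
    rw [e]
    rcases f.pm1 t1 N hp hpp hc hc2 with h | h <;> rcases f.pm2 t2 N hp hpp hd hd2 with h' | h' <;> rw [h, h']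
    · left; rfl
    · right
      rw [D.e2_neg, D.e2_j, ← mul_assoc, D.e1_j, mul_assoc]
    · right
      rw [D.e1_neg, D.e1_j, mul_assoc]
    · left
      rw [D.e1_neg, D.e2_neg, D.e2_j, mul_assoc, ← mul_assoc j, D.jj, one_mul]
  by_cases hqY : q ∈ D.Y
  · exact key p q hp hq hpp hqq hqY
  by_cases hpY : p ∈ D.Y
  · have hji : j⁻¹ = j := D.inv_j
    rcases key q p hq hp hqq hpp hpY with h | h
    · left
      have e : p * q * p⁻¹ = p * (q * p * q⁻¹)⁻¹ * q := by group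
      rw [e, h]; group
    · right
      have e : p * q * p⁻¹ = p * (q * p * q⁻¹)⁻¹ * q := by group
      rw [e, h, _root_.mul_inv_rev, hji]; group
  · have hr : q * p⁻¹ ∈ D.Y := f.half N hq (inv_mem hp) hqY (fun h => hpY (by simpa using inv_mem h))
    have e : p * q * p⁻¹ = (p * (q * p⁻¹) * p⁻¹) * p := by group
    rw [e]
    rcases key p (q * p⁻¹) hp (mul_mem hq (inv_mem hp)) hpp (hqq.mul hpp.inv) hr with h | h <;> rw [h]
    · left; group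
    · right; group

theorem four [Finite F₁] [Finite F₂] (t1 : (2 : F₁) ≠ 0) (t2 : (2 : F₂) ≠ 0) (N : D.NS) {s : G} (hs : s ∈ S)
    (hm : D.Mi a b s) : (s * s) * (s * s) = 1 := by
  by_cases hsY : s ∈ D.Y
  · rw [minus_Y t1 t2 hsY hm, one_mul]
  obtain ⟨c, d, h0, hc, hd, hc2, hd2⟩ := plus_Y f.S2 (mul_mem hs hs) (N.sq_mem (f.Sj s hs) (isTwo_of_isPGroup f.S2 hs))
    (hm.mul hm (f.Sj s hs))
  obtain ⟨α, hα⟩ := exists_aut D.inj1 (N.n1 s (f.Sj s hs))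
  obtain ⟨β, hβ⟩ := exists_aut D.inj2 (N.n2 s (f.Sj s hs))
  have ha : α a = -a := by
    apply D.inj1
    rw [hα, hm.1]; group
  have hb : β b = -b := by
    apply D.inj2
    rw [hβ, hm.2]; group
  have h1 : D.e1 (α c) * D.e2 (β d) = D.e1 c * D.e2 d := by
    rw [hα, hβ]
    have : s * D.e1 c * s⁻¹ * (s * D.e2 d * s⁻¹) = s * (D.e1 c * D.e2 d) * s⁻¹ := by group
    rw [this, ← h0]; group
  rcases D.mul_eq_mul h1 with ⟨h2, h3⟩ | ⟨h2, h3⟩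
  · rw [h0, mul_mul]
    rcases aut_mi_fix t1 α f.aa ha hc hc2 h2 with rfl | rfl <;>
      rcases aut_mi_fix t2 β f.bb hb hd hd2 h3 with rfl | rfl <;> simp
  · rw [h0, mul_mul, aut_mi_neg t1 α f.aa ha hc hc2 h2, aut_mi_neg t2 β f.bb hb hd hd2 h3, D.neg1, D.neg2, D.jj]

theorem x_ne (t1 : (2 : F₁) ≠ 0) : D.e1 a * D.e2 b ≠ 1 ∧ D.e1 a * D.e2 b ≠ j := by
  obtain ⟨n1, n2⟩ := sl_ne_of_sq t1 f.aa
  constructor
  · intro h
    rcases D.mul_eq_one h with h | h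
    · exact n1 h.1
    · exact n2 h.1
  · intro h
    rcases D.mul_eq_j h with h | h
    · exact n2 h.1
    · exact n1 h.1

theorem zS : D.e1 z ∈ S := f.memA z f.hz ⟨m + 1, by rw [pow_succ, pow_mul, f.hzm, neg_one_sq]⟩

theorem zS' : D.e2 z' ∈ S := f.memB z' f.hz' ⟨m' + 1, by rw [pow_succ, pow_mul, f.hzm', neg_one_sq]⟩

theorem sS : τ * D.e1 z * τ⁻¹ ∈ S := f.τS _ f.zS

theorem s_pow : (τ * D.e1 z * τ⁻¹) ^ 2 ^ m = D.e1 a * D.e2 b := by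
  rw [conj_pow_two, ← map_pow, f.hzm, D.neg1, f.τj]

theorem s_notMem (t1 : (2 : F₁) ≠ 0) (t2 : (2 : F₂) ≠ 0) (N : D.NS) : τ * D.e1 z * τ⁻¹ ∉ D.Y := by
  intro hY
  obtain ⟨n1, n2⟩ := sl_ne_of_sq t1 f.aa
  have h := f.s_pow
  rcases f.cases N f.sS with h1 | h1
  · obtain ⟨c, d, h0, hc, hd, hc2, hd2⟩ := plus_Y f.S2 f.sS hY h1
    rw [h0, (show Commute (D.e1 c) (D.e2 d) from D.comm _ _).mul_pow, ← map_pow, ← map_pow] at h
    rcases D.mul_eq_mul h with ⟨h3, -⟩ | ⟨h3, -⟩ <;> rcases f.hmax c hc hc2 with h4 | h4 <;> rw [h4] at h3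
    · exact n1 h3.symm
    · exact n2 h3.symm
    · exact n2 (by rw [h3, neg_neg])
    · exact n1 (neg_injective h3).symm
  · have h3 := minus_Y t1 t2 hY h1
    obtain ⟨k, hk⟩ : ∃ k, m = k + 1 := ⟨m - 1, by have := f.hm; omega⟩
    rw [hk, pow_succ', pow_mul, pow_two, h3, one_pow] at h
    exact (f.x_ne t1).1 h.symm

end Fus

end Duo

end Cfsg.Agent.H311
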