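import Cfsg.Agent.H311.FactA3

/-!
# Fusion inside `L₁ L₂`: the outer involution
-/

set_option autoImplicit false

namespace Cfsg.Agent.H311

open Matrix Subgroup Cfsg.Agent.GTwoOdd Cfsg.Agent.ClassicalGeometry Cfsg.Agent.Lib.SL2Mat

namespace Duo.Fus

variable {G : Type*} [Group G] {j : G} {F₁ F₂ : Type*} [Field F₁] [Field F₂]
variable {D : Duo j F₁ F₂} {S : Subgroup G} {τ : G} {a u z : SL2 F₁} {b v z' : SL2 F₂} {m m' : ℕ}
variable (f : Fus D S τ a u z b v z' m m')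
include f

/-- for `m = 1` the `2`-elements of `C(a)` are `±1`, `±a` -/
theorem one_cases (t1 : (2 : F₁) ≠ 0) (h1 : m = 1) {c : SL2 F₁} (hc : c * a = a * c) (hc2 : IsTwo c) :
    (c = 1 ∨ c = -1) ∨ (c = a ∨ c = -a) := by
  rcases f.hmax c hc hc2 with h | h <;> rw [h1, pow_one, pow_two] at h
  · left; exact SLTwoFour.eq_one_or_neg_one_of_mul_self t1 _ h
  · right; exact eq_of_sq_comm t1 f.aa h hc

theorem one_cases' (t2 : (2 : F₂) ≠ 0) (h1 : m = 1) {c : SL2 F₂} (hc : c * b = b * c) (hc2 : IsTwo c) :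
    (c = 1 ∨ c = -1) ∨ (c = b ∨ c = -b) := by
  have h1' : m' = 1 := by have := f.le; have := f.hm'; omega
  rcases f.hmax' c hc hc2 with h | h <;> rw [h1', pow_one, pow_two] at h
  · left; exact SLTwoFour.eq_one_or_neg_one_of_mul_self t2 _ h
  · right; exact eq_of_sq_comm t2 f.bb h hc

theorem one_comm (t1 : (2 : F₁) ≠ 0) (h1 : m = 1) {p : G} (hp : D.Pl a b p) (hpj : p * j = j * p) {c : SL2 F₁}
    (hc : c * a = a * c) (hc2 : IsTwo c) : p * D.e1 c = D.e1 c * p := by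
  rcases f.one_cases t1 h1 hc hc2 with (rfl | rfl) | (rfl | rfl)
  · rw [map_one, mul_one, one_mul]
  · rw [D.neg1, hpj]
  · exact hp.1
  · rw [D.e1_neg, ← mul_assoc, hp.1, mul_assoc, hpj, mul_assoc]

theorem one_comm' (t2 : (2 : F₂) ≠ 0) (h1 : m = 1) {p : G} (hp : D.Pl a b p) (hpj : p * j = j * p) {c : SL2 F₂}
    (hc : c * b = b * c) (hc2 : IsTwo c) : p * D.e2 c = D.e2 c * p := by
  rcases f.one_cases' t2 h1 hc hc2 with (rfl | rfl) | (rfl | rfl)
  · rw [map_one, mul_one, one_mul]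
  · rw [D.neg2, hpj]
  · exact hp.2
  · rw [D.e2_neg, ← mul_assoc, hp.2, mul_assoc, hpj, mul_assoc]

/-- for `m = 1` the plus part is abelian -/
theorem one_ab (t1 : (2 : F₁) ≠ 0) (t2 : (2 : F₂) ≠ 0) (N : D.NS) (h1 : m = 1) {p q : G} (hp : p ∈ S) (hq : q ∈ S)
    (hpp : D.Pl a b p) (hqq : D.Pl a b q) : p * q = q * p := by
  have key : ∀ p q : G, p ∈ S → q ∈ S → D.Pl a b p → D.Pl a b q → q ∈ D.Y → p * q = q * p := by
    intro p q hp hq hpp hqq hqY
    obtain ⟨c, d, rfl, hc, hd, hc2, hd2⟩ := plus_Y f.S2 hq hqY hqq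
    rw [← mul_assoc, f.one_comm t1 h1 hpp (f.Sj p hp) hc hc2, mul_assoc, f.one_comm' t2 h1 hpp (f.Sj p hp) hd hd2,
      mul_assoc]
  by_cases hqY : q ∈ D.Y
  · exact key p q hp hq hpp hqq hqY
  by_cases hpY : p ∈ D.Y
  · exact (key q p hq hp hqq hpp hpY).symm
  · have hr : q * p⁻¹ ∈ D.Y := f.half N hq (inv_mem hp) hqY (fun h => hpY (by simpa using inv_mem h))
    have h3 := key p (q * p⁻¹) hp (mul_mem hq (inv_mem hp)) hpp (hqq.mul hpp.inv) hr
    calc p * q = (p * (q * p⁻¹)) * p := by group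
      _ = q * p := by rw [h3]; group

/-- `s` is plus -/
theorem s_plus [Finite F₁] [Finite F₂] (t1 : (2 : F₁) ≠ 0) (t2 : (2 : F₂) ≠ 0) (N : D.NS) :
    D.Pl a b (τ * D.e1 z * τ⁻¹) := by
  have hsS := f.sS
  have hsY := f.s_notMem t1 t2 N
  have hpow := f.s_pow
  generalize hs : τ * D.e1 z * τ⁻¹ = s at *
  refine (f.cases N hsS).resolve_right fun hmi => ?_
  have hx := f.x_ne t1
  have h4 := f.four t1 t2 N hsS hmi
  by_cases h1 : m = 1
  · rw [h1, pow_one, pow_two] at hpow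
    have hxj := f.Sj s hsS
    -- elements of `S` with square `j` are plus
    have key : ∀ t ∈ S, t * t = j → D.Pl a b t := by
      intro t ht htt
      refine (f.cases N ht).resolve_right fun htm => ?_
      have htY : t ∉ D.Y := by
        intro h
        have := minus_Y t1 t2 h htm
        rw [htt] at this
        exact D.j_ne_one t1 this
      have hαY : s⁻¹ * t ∈ D.Y := f.half N (inv_mem hsS) ht (fun h => hsY (by simpa using inv_mem h)) htY
      have hαS : s⁻¹ * t ∈ S := mul_mem (inv_mem hsS) ht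
      have hαp : D.Pl a b (s⁻¹ * t) :=
        (hmi.inv hxj).mul htm (by rw [inv_mul_eq_iff_eq_mul, ← mul_assoc, hxj, mul_inv_cancel_right])
      obtain ⟨c, d, h0, hc, hd, hc2, hd2⟩ := plus_Y f.S2 hαS hαY hαp
      -- `s` inverts `e₁(c) e₂(d)`
      have i1 : s * D.e1 c = D.e1 c⁻¹ * s := by
        rcases f.one_cases t1 h1 hc hc2 with (rfl | rfl) | (rfl | rfl)
        · simp
        · rw [show (-1 : SL2 F₁)⁻¹ = -1 by rw [inv_eq_iff_mul_eq_one]; simp, D.neg1, hxj]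
        · rw [show c⁻¹ = -c by rw [inv_eq_iff_mul_eq_one, mul_neg, f.aa, neg_neg]]
          exact hmi.1
        · rw [show (-a)⁻¹ = a by rw [inv_eq_iff_mul_eq_one, neg_mul, f.aa, neg_neg]]
          exact hmi.neg1 hxj
      have i2 : s * D.e2 d = D.e2 d⁻¹ * s := by
        rcases f.one_cases' t2 h1 hd hd2 with (rfl | rfl) | (rfl | rfl)
        · simp
        · rw [show (-1 : SL2 F₂)⁻¹ = -1 by rw [inv_eq_iff_mul_eq_one]; simp, D.neg2, hxj]
        · rw [show d⁻¹ = -d by rw [inv_eq_iff_mul_eq_one, mul_neg, f.bb, neg_neg]]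
          exact hmi.2
        · rw [show (-b)⁻¹ = b by rw [inv_eq_iff_mul_eq_one, neg_mul, f.bb, neg_neg]]
          exact hmi.neg2 hxj
      have i3 : s * (D.e1 c * D.e2 d) = (D.e1 c * D.e2 d)⁻¹ * s := by
        rw [D.mul_inv, ← mul_assoc, i1, mul_assoc, i2, mul_assoc]
      have h5 : t = s * (D.e1 c * D.e2 d) := by rw [← h0]; group
      have hαx := f.Sx _ hαS
      rw [h0] at hαx
      apply hx.2
      calc D.e1 a * D.e2 b = (D.e1 c * D.e2 d)⁻¹ * ((D.e1 c * D.e2 d) * (D.e1 a * D.e2 b)) := by group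
        _ = (D.e1 c * D.e2 d)⁻¹ * (s * s) * (D.e1 c * D.e2 d) := by rw [hαx, hpow]; group
        _ = ((D.e1 c * D.e2 d)⁻¹ * s) * (s * (D.e1 c * D.e2 d)) := by group
        _ = (s * (D.e1 c * D.e2 d)) * (s * (D.e1 c * D.e2 d)) := by rw [← i3]
        _ = j := by rw [← h5, htt]
    have haS : D.e1 a ∈ S := f.memA a rfl ⟨2, by
      rw [show (2 : ℕ) ^ 2 = 2 * 2 from rfl, pow_mul, pow_two a, f.aa, neg_one_sq]⟩
    have k1 : D.Pl a b (τ * s * τ⁻¹) := by
      apply key _ (f.τS _ hsS)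
      have : τ * s * τ⁻¹ * (τ * s * τ⁻¹) = τ * (s * s) * τ⁻¹ := by group
      rw [this, hpow, f.τx]
    have hsa : (s * D.e1 a) * (s * D.e1 a) = D.e1 a * D.e2 b := by
      have e1 : (s * D.e1 a) * (s * D.e1 a) = (s * D.e1 a) * s * D.e1 a := by group
      rw [e1, hmi.1, mul_assoc (D.e1 (-a)), hpow, mul_assoc, mul_assoc, ← D.comm, ← mul_assoc (D.e1 a), ← map_mul, f.aa,
        ← mul_assoc, ← map_mul]
      congr 2
      simp
    have k2 : D.Pl a b (τ * (s * D.e1 a) * τ⁻¹) := by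
      apply key _ (f.τS _ (mul_mem hsS haS))
      have : τ * (s * D.e1 a) * τ⁻¹ * (τ * (s * D.e1 a) * τ⁻¹) = τ * ((s * D.e1 a) * (s * D.e1 a)) * τ⁻¹ := by group
      rw [this, hsa, f.τx]
    have k3 := f.one_ab t1 t2 N h1 (f.τS _ hsS) (f.τS _ (mul_mem hsS haS)) k1 k2
    have k4 : s * (s * D.e1 a) = (s * D.e1 a) * s := by
      have e1 : τ * s * τ⁻¹ * (τ * (s * D.e1 a) * τ⁻¹) = τ * (s * (s * D.e1 a)) * τ⁻¹ := by group
      have e2 : τ * (s * D.e1 a) * τ⁻¹ * (τ * s * τ⁻¹) = τ * ((s * D.e1 a) * s) * τ⁻¹ := by group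
      rw [e1, e2] at k3
      exact mul_left_cancel (mul_right_cancel k3)
    rw [mul_assoc, mul_right_inj] at k4
    rw [hmi.1] at k4
    have h5 := D.inj1 (mul_right_cancel k4)
    exact sl_eq_neg_self t1 h5.symm
  · have := f.hm
    obtain ⟨k, rfl⟩ : ∃ k, m = k + 2 := ⟨m - 2, by omega⟩
    apply hx.1
    rw [← hpow, show k + 2 = 1 + 1 + k by ring, pow_add, pow_add, pow_one, pow_mul, pow_mul, pow_two, pow_two, h4, one_pow]

end Duo.Fus

end Cfsg.Agent.H311
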