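import Cfsg.Agent.H311.FactA4

/-!
# Fusion inside `L₁ L₂`: Fact A
-/

set_option autoImplicit false

namespace Cfsg.Agent.H311

open Matrix Subgroup Cfsg.Agent.GTwoOdd Cfsg.Agent.ClassicalGeometry Cfsg.Agent.Lib.SL2Mat

namespace Duo

variable {G : Type*} [Group G] {j : G} {F₁ F₂ : Type*} [Field F₁] [Field F₂]

namespace Fus

variable {D : Duo j F₁ F₂} {S : Subgroup G} {τ : G} {a u z : SL2 F₁} {b v z' : SL2 F₂} {m m' : ℕ}
variable (f : Fus D S τ a u z b v z' m m')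
include f

theorem s_sq [Finite F₁] [Finite F₂] (t1 : (2 : F₁) ≠ 0) (t2 : (2 : F₂) ≠ 0) (N : D.NS) :
    ∃ c d, (τ * D.e1 z * τ⁻¹) * (τ * D.e1 z * τ⁻¹) = D.e1 c * D.e2 d ∧ c ^ 2 ^ m = -1 ∧ d ^ 2 ^ m = -1 ∧ m = m' := by
  have hsS := f.sS
  have hsp := f.s_plus t1 t2 N
  have hpow := f.s_pow
  generalize hs : τ * D.e1 z * τ⁻¹ = s at *
  obtain ⟨c, d, h0, hc, hd, hc2, hd2⟩ := f.plus_sq N hsS hsp
  obtain ⟨k, hk⟩ : ∃ k, m = k + 1 := ⟨m - 1, by have := f.hm; omega⟩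
  have h1 : D.e1 (c ^ 2 ^ k) * D.e2 (d ^ 2 ^ k) = D.e1 a * D.e2 b := by
    rw [← hpow, hk, pow_succ', pow_mul, pow_two s, h0, (show Commute (D.e1 c) (D.e2 d) from D.comm _ _).mul_pow,
      ← map_pow, ← map_pow]
  have hc' : c ^ 2 ^ m = -1 := by
    rw [hk, pow_succ, pow_mul, pow_two]
    rcases D.mul_eq_mul h1 with ⟨h, -⟩ | ⟨h, -⟩ <;> rw [h]
    · exact f.aa
    · rw [neg_mul_neg, f.aa]
  have hd' : d ^ 2 ^ m = -1 := by
    rw [hk, pow_succ, pow_mul, pow_two]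
    rcases D.mul_eq_mul h1 with ⟨-, h⟩ | ⟨-, h⟩ <;> rw [h]
    · exact f.bb
    · rw [neg_mul_neg, f.bb]
  refine ⟨c, d, h0, hc', hd', le_antisymm ?_ f.le⟩
  by_contra hcon
  push Not at hcon
  obtain ⟨i, hi⟩ := Nat.exists_eq_add_of_lt hcon
  have h9 : d ^ 2 ^ m = 1 := by
    rw [hi, show m' + i + 1 = m' + (i + 1) by ring, pow_add, pow_mul]
    rcases f.hmax' d hd hd2 with h | h <;> rw [h]
    · rw [one_pow]
    · rw [pow_succ', pow_mul, neg_one_sq, one_pow]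
  rw [hd'] at h9
  exact sl_one_ne_neg t2 h9.symm

theorem s_comm [Finite F₁] [Finite F₂] (t1 : (2 : F₁) ≠ 0) (t2 : (2 : F₂) ≠ 0) (N : D.NS) :
    (τ * D.e1 z * τ⁻¹) * D.e1 z = D.e1 z * (τ * D.e1 z * τ⁻¹) ∧
      (τ * D.e1 z * τ⁻¹) * D.e2 z' = D.e2 z' * (τ * D.e1 z * τ⁻¹) := by
  have hz2 : IsTwo z := ⟨m + 1, by rw [pow_succ, pow_mul, f.hzm, neg_one_sq]⟩
  have hz2' : IsTwo z' := ⟨m' + 1, by rw [pow_succ, pow_mul, f.hzm', neg_one_sq]⟩
  have hsp := f.s_plus t1 t2 N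
  by_cases h1 : m = 1
  · exact ⟨f.one_comm t1 h1 hsp (f.Sj _ f.sS) f.hz hz2, f.one_comm' t2 h1 hsp (f.Sj _ f.sS) f.hz' hz2'⟩
  obtain ⟨c, d, h0, hc, hd, hmm⟩ := f.s_sq t1 t2 N
  have hx := f.x_ne t1
  have hm := f.hm
  obtain ⟨k, hk⟩ : ∃ k, m = k + 2 := ⟨m - 2, by omega⟩
  -- elements with nontrivial fourth power are plus
  have hfour : ∀ t : G, t ∈ S → t ^ 2 ^ m ≠ 1 → D.Pl a b t := by
    intro t ht h
    refine (f.cases N ht).resolve_right fun hmi => h ?_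
    rw [hk, show k + 2 = 1 + 1 + k by ring, pow_add, pow_add, pow_one, pow_mul, pow_mul, pow_two, pow_two,
      f.four t1 t2 N ht hmi, one_pow]
  have hq : ∀ t : G, t ^ 2 ^ m ≠ 1 → (τ * t * τ⁻¹) ^ 2 ^ m ≠ 1 := by
    intro t h h'
    apply h
    rw [conj_pow_two] at h'
    have e : t ^ 2 ^ m = τ⁻¹ * (τ * t ^ 2 ^ m * τ⁻¹) * τ := by group
    rw [e, h']; group
  have hspow : (τ * D.e1 z * τ⁻¹) ^ 2 ^ m ≠ 1 := by rw [f.s_pow]; exact hx.1
  have ht := hfour _ (f.τS _ f.sS) (hq _ hspow)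
  have hzp : D.Pl a b (D.e1 z) := by
    have := plus_ee (b := b) D f.hz (d := 1) (by simp)
    simpa using this
  have hzp' : D.Pl a b (D.e2 z') := by
    have := plus_ee (a := a) D (c := 1) (by simp) f.hz'
    simpa using this
  have fin : ∀ q : G, q ∈ S → D.Pl a b q → D.Pl a b (τ * q * τ⁻¹) →
      (τ * D.e1 z * τ⁻¹) * q * (τ * D.e1 z * τ⁻¹)⁻¹ = q := by
    intro q hqS hqp hqp'
    refine (f.comm_pm t1 t2 N f.sS hqS hsp hqp).resolve_right fun h => ?_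
    have h5 : (τ * (τ * D.e1 z * τ⁻¹) * τ⁻¹) * (τ * q * τ⁻¹) * (τ * (τ * D.e1 z * τ⁻¹) * τ⁻¹)⁻¹ =
        (D.e1 a * D.e2 b) * (τ * q * τ⁻¹) := by
      have e1 : (τ * (τ * D.e1 z * τ⁻¹) * τ⁻¹) * (τ * q * τ⁻¹) * (τ * (τ * D.e1 z * τ⁻¹) * τ⁻¹)⁻¹ =
        τ * ((τ * D.e1 z * τ⁻¹) * q * (τ * D.e1 z * τ⁻¹)⁻¹) * τ⁻¹ := by group
      rw [e1, h]
      have e2 : τ * (j * q) * τ⁻¹ = (τ * j * τ⁻¹) * (τ * q * τ⁻¹) := by group
      rw [e2, f.τj]
    rcases f.comm_pm t1 t2 N (f.τS _ f.sS) (f.τS _ hqS) ht hqp' with h6 | h6 <;> rw [h6] at h5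
    · exact hx.1 (right_eq_mul.1 h5)
    · exact hx.2 (mul_right_cancel h5).symm
  constructor
  · have := fin _ f.zS hzp hsp
    exact mul_inv_eq_iff_eq_mul.1 this
  · have h6 : D.e2 z' ^ 2 ^ m ≠ 1 := by
      rw [hmm, ← map_pow, f.hzm', D.neg2]
      exact D.j_ne_one t1
    have := fin _ f.zS' hzp' (hfour _ (f.τS _ f.zS') (hq _ h6))
    exact mul_inv_eq_iff_eq_mul.1 this

theorem main [Fintype F₁] [Fintype F₂] (h1 : Odd (Fintype.card F₁)) (h2 : Odd (Fintype.card F₂)) (N : D.NS)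
    {g : G} (hg : g * j * g⁻¹ = D.e1 a * D.e2 b) : ∃ h : G, D.DD (h * j * h⁻¹) := by
  have t1 := SLTwoFour.two_ne_zero_of_odd (F := F₁) h1
  have t2 := SLTwoFour.two_ne_zero_of_odd (F := F₂) h2
  obtain ⟨c, d, h0, hc, hd, hmm⟩ := f.s_sq t1 t2 N
  obtain ⟨k1, k2⟩ := f.s_comm t1 t2 N
  have hsj := f.Sj _ f.sS
  have hs2 : IsTwo (τ * D.e1 z * τ⁻¹) := isTwo_of_isPGroup f.S2 f.sS
  obtain ⟨A, hA, hA2⟩ := acts_nonsq h1 f.aa f.hz f.hm f.hzm f.hmax hs2 (N.n1 _ hsj) k1 h0 hc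
  have hB : ∃ B, Acts D.e2 (τ * D.e1 z * τ⁻¹) B ∧ ¬ IsSquare B.det := by
    refine acts_nonsq (D := D.sw) h2 f.bb f.hz' f.hm' f.hzm' f.hmax' hs2 (N.n2 _ hsj) k2 (c := d) (d := c) ?_ ?_
    · change _ = D.e2 d * D.e1 c
      rw [h0, D.comm]
    · rw [← hmm]; exact hd
  obtain ⟨B, hB, hB2⟩ := hB
  have hsY := f.s_notMem t1 t2 N
  have hsS := f.sS
  have uu := sl_anti t1 f.ua
  have vv := sl_anti t2 f.vb
  -- the involution
  have key : ∀ u' : SL2 F₁, u' * u' = -1 → D.e1 u' * D.e2 v ∈ S → τ * (D.e1 u' * D.e2 v) * τ⁻¹ ∉ D.Y →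
      ∃ h : G, D.DD (h * j * h⁻¹) := by
    intro u' hu' huS hY
    obtain ⟨r, hrY, hr⟩ := D.conj_of_sq h1 h2 f.aa hu' f.bb vv
    refine ⟨τ * r * g, ?_⟩
    have e : τ * r * g * j * (τ * r * g)⁻¹ = τ * (D.e1 u' * D.e2 v) * τ⁻¹ := by
      rw [← hr, ← hg]; group
    rw [e]
    have hyS := f.τS _ huS
    have hyy : (τ * (D.e1 u' * D.e2 v) * τ⁻¹) * (τ * (D.e1 u' * D.e2 v) * τ⁻¹) = 1 := by
      have : (τ * (D.e1 u' * D.e2 v) * τ⁻¹) * (τ * (D.e1 u' * D.e2 v) * τ⁻¹) =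
        τ * ((D.e1 u' * D.e2 v) * (D.e1 u' * D.e2 v)) * τ⁻¹ := by group
      rw [this, D.mul_mul, hu', vv, D.neg1, D.neg2, D.jj]; group
    generalize τ * (D.e1 u' * D.e2 v) * τ⁻¹ = y at *
    obtain ⟨p, q, hpq⟩ := f.half N hyS hsS hY hsY
    have hy : y = (D.e1 p * D.e2 q) * (τ * D.e1 z * τ⁻¹)⁻¹ := by rw [hpq]; group
    have a1 : Acts D.e1 y ((p : M2 F₁) * A.adjugate) := by rw [hy]; exact acts_Y1.mul hA.inv
    have a2 : Acts D.e2 y ((q : M2 F₂) * B.adjugate) := by rw [hy]; exact acts_Y2.mul hB.inv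
    refine ⟨f.Sj _ hyS, hyy, _, _, a1, a2, ?_, ?_⟩
    · rw [Matrix.det_mul, sl_coe_det, one_mul, Matrix.det_adjugate]
      simpa using hA2
    · rw [Matrix.det_mul, sl_coe_det, one_mul, Matrix.det_adjugate]
      simpa using hB2
  by_cases hw : τ * (D.e1 u * D.e2 v) * τ⁻¹ ∈ D.Y
  · apply key (u * z)
    · apply sl_anti t1 (a := a)
      rw [mul_assoc, f.hz, ← mul_assoc, f.ua, neg_mul, mul_assoc]
    · have : D.e1 (u * z) * D.e2 v = (D.e1 u * D.e2 v) * D.e1 z := by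
        rw [map_mul, mul_assoc, mul_assoc, D.comm]
      rw [this]
      exact mul_mem f.memW f.zS
    · intro h
      apply hsY
      have : τ * (D.e1 (u * z) * D.e2 v) * τ⁻¹ = (τ * (D.e1 u * D.e2 v) * τ⁻¹) * (τ * D.e1 z * τ⁻¹) := by
        rw [map_mul, mul_assoc (D.e1 u), D.comm]; group
      rw [this] at h
      exact (mul_mem_cancel_left hw).1 h
  · exact key u uu f.memW hw

end Fus

/-! ### construction -/

section SL

variable {F : Type*} [Field F]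

/-- the `2`-elements commuting with `a` -/
def twoCent (a : SL2 F) (n1 : a ≠ 1) (n2 : a ≠ -1) : Subgroup (SL2 F) where
  carrier := {r | r * a = a * r ∧ IsTwo r}
  mul_mem' := by
    rintro r s ⟨h1, h2⟩ ⟨h3, h4⟩
    exact ⟨by rw [mul_assoc, h3, ← mul_assoc, h1, mul_assoc], isTwo_of_mul (sl_comm_of_comm n1 n2 h1 h3) h2 h4⟩
  one_mem' := ⟨by simp, ⟨0, by simp⟩⟩
  inv_mem' := by
    rintro r ⟨h1, n, hn⟩
    exact ⟨by rw [inv_mul_eq_iff_eq_mul, ← mul_assoc, h1, mul_inv_cancel_right], ⟨n, by rw [inv_pow, hn, inv_one]⟩⟩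

theorem mem_twoCent {a r : SL2 F} {n1 : a ≠ 1} {n2 : a ≠ -1} : r ∈ twoCent a n1 n2 ↔ r * a = a * r ∧ IsTwo r := Iff.rfl

theorem twoCent_isPGroup (a : SL2 F) (n1 : a ≠ 1) (n2 : a ≠ -1) : IsPGroup 2 (twoCent a n1 n2) :=
  isPGroup_of_isTwo _ fun _ h => h.2

/-- the `2`-group `C(a)_2 ⟨u⟩` -/
theorem twoCent_sup (h2 : (2 : F) ≠ 0) {a u : SL2 F} (n1 : a ≠ 1) (n2 : a ≠ -1) (hu : u * a = -(a * u)) :
    IsPGroup 2 (twoCent a n1 n2 ⊔ zpowers u : Subgroup (SL2 F)) := by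
  have huu := sl_anti h2 hu
  have hu2 : IsTwo u := ⟨2, by rw [show (2 : ℕ) ^ 2 = 2 * 2 from rfl, pow_mul, pow_two u, huu, neg_one_sq]⟩
  have key : ∀ g r : SL2 F, (g = u ∨ g = u⁻¹) → r ∈ twoCent a n1 n2 → g * r * g⁻¹ ∈ twoCent a n1 n2 := by
    rintro g r hg ⟨hr, hr2⟩
    refine ⟨?_, hr2.conj g⟩
    have hga : g⁻¹ * a = -(a * g⁻¹) := by
      have h3 : u⁻¹ * a = -(a * u⁻¹) := by
        rw [inv_mul_eq_iff_eq_mul, mul_neg, ← mul_assoc, hu, neg_mul, neg_neg, mul_inv_cancel_right]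
      rcases hg with rfl | rfl
      · exact h3
      · rw [inv_inv]; exact hu
    have hga' : g * a = -(a * g) := by
      have h3 : a * g = -(g * a) := by
        have h4 : g * (g⁻¹ * a) * g = -(g * (a * g⁻¹) * g) := by rw [hga]; simp
        have h5 : g * (g⁻¹ * a) * g = a * g := by group
        have h6 : g * (a * g⁻¹) * g = g * a := by group
        rw [h5, h6] at h4
        exact h4
      rw [h3, neg_neg]
    calc g * r * g⁻¹ * a = g * r * (g⁻¹ * a) := by group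
      _ = -(g * (r * a) * g⁻¹) := by rw [hga, mul_neg]; simp only [mul_assoc]
      _ = -(g * a * r * g⁻¹) := by rw [hr]; simp only [mul_assoc]
      _ = a * (g * r * g⁻¹) := by rw [hga']; simp only [neg_mul, neg_neg, mul_assoc]
  apply IsPGroup.to_sup_of_normal_left' (twoCent_isPGroup a n1 n2) (isPGroup_zpowers hu2)
  rw [zpowers_le, mem_normalizer_iff]
  intro r
  constructor
  · exact key u r (Or.inl rfl)
  · intro h
    have := key u⁻¹ _ (Or.inr rfl) h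
    have e : u⁻¹ * (u * r * u⁻¹) * u⁻¹⁻¹ = r := by group
    rwa [e] at this

end SL

/-- **Fact A** -/
theorem NS.factA [Finite G] [Fintype F₁] [Fintype F₂] {D : Duo j F₁ F₂} (N : D.NS) (h1 : Odd (Fintype.card F₁))
    (h2 : Odd (Fintype.card F₂)) {g : G} (hg : g * j * g⁻¹ ∈ D.Y) (hne : g * j * g⁻¹ ≠ j) :
    ∃ h : G, D.DD (h * j * h⁻¹) := by
  have t1 := SLTwoFour.two_ne_zero_of_odd (F := F₁) h1
  have t2 := SLTwoFour.two_ne_zero_of_odd (F := F₂) h2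
  have hjj : j * j = 1 := D.jj
  have hj1 : j ≠ 1 := D.j_ne_one t1
  -- involutions of `Y`
  have hinv : ∀ y ∈ D.Y, y * y = 1 → y ≠ 1 → y ≠ j → ∃ a b, D.e1 a * D.e2 b = y ∧ a * a = -1 ∧ b * b = -1 := by
    rintro _ ⟨a, b, rfl⟩ h3 h4 h5
    rcases D.sq_eq_one t1 t2 h3 with h | h | h
    · exact absurd h h4
    · exact absurd h h5
    · exact ⟨a, b, rfl, h⟩
  have hxx : (g * j * g⁻¹) * (g * j * g⁻¹) = 1 := by
    have : (g * j * g⁻¹) * (g * j * g⁻¹) = g * (j * j) * g⁻¹ := by group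
    rw [this, hjj]; group
  have hx1 : g * j * g⁻¹ ≠ 1 := by
    intro h
    apply hj1
    have : j = g⁻¹ * (g * j * g⁻¹) * g := by group
    rw [this, h]; group
  obtain ⟨a, b, hab, ha, hb⟩ := hinv _ hg hxx hx1 hne
  obtain ⟨na, na'⟩ := sl_ne_of_sq t1 ha
  obtain ⟨nb, nb'⟩ := sl_ne_of_sq t2 hb
  -- the square root of `x' = g⁻¹ j g`
  have hcc : (g⁻¹ * D.e1 a * g) * (g⁻¹ * D.e1 a * g) = g⁻¹ * j * g := by
    have : (g⁻¹ * D.e1 a * g) * (g⁻¹ * D.e1 a * g) = g⁻¹ * (D.e1 a * D.e1 a) * g := by group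
    rw [this, ← map_mul, ha, D.neg1]
  have hax : D.e1 a * (g * j * g⁻¹) = (g * j * g⁻¹) * D.e1 a := by
    rw [← hab, mul_assoc, ← D.comm]
  have hcj : (g⁻¹ * D.e1 a * g) * j = j * (g⁻¹ * D.e1 a * g) := by
    have e1 : (g⁻¹ * D.e1 a * g) * j = g⁻¹ * (D.e1 a * (g * j * g⁻¹)) * g := by group
    rw [e1, hax]; group
  have ha2 : IsTwo a := ⟨2, by rw [show (2 : ℕ) ^ 2 = 2 * 2 from rfl, pow_mul, pow_two a, ha, neg_one_sq]⟩
  have hc2 : IsTwo (g⁻¹ * D.e1 a * g) := by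
    have := (ha2.map D.e1).conj g⁻¹
    rwa [inv_inv] at this
  have hx'Y : g⁻¹ * j * g ∈ D.Y := by
    rw [← hcc]; exact N.sq_mem hcj hc2
  have hx'x' : (g⁻¹ * j * g) * (g⁻¹ * j * g) = 1 := by
    have : (g⁻¹ * j * g) * (g⁻¹ * j * g) = g⁻¹ * (j * j) * g := by group
    rw [this, hjj]; group
  have hx'1 : g⁻¹ * j * g ≠ 1 := by
    intro h
    apply hj1
    have : j = g * (g⁻¹ * j * g) * g⁻¹ := by group
    rw [this, h]; group
  have hx'j : g⁻¹ * j * g ≠ j := by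
    intro h
    apply hne
    have : g * j * g⁻¹ = g * (g⁻¹ * j * g) * g⁻¹ := by rw [h]
    rw [this]; group
  obtain ⟨a', b', hab', ha', hb'⟩ := hinv _ hx'Y hx'x' hx'1 hx'j
  obtain ⟨y, hyY, hy⟩ := D.conj_of_sq h1 h2 ha' ha hb' hb
  rw [hab, hab'] at hy
  -- the swap
  have hgx : g * j * g⁻¹ = D.e1 a * D.e2 b := hab.symm
  set x := g * j * g⁻¹ with hx
  have hyj : y * j = j * y := D.Y_j hyY
  have s1 : (g * y⁻¹) * j * (g * y⁻¹)⁻¹ = x := by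
    have : (g * y⁻¹) * j * (g * y⁻¹)⁻¹ = g * (y⁻¹ * (j * y)) * g⁻¹ := by group
    rw [this, ← hyj, inv_mul_cancel_left]
  have s2 : (g * y⁻¹) * x * (g * y⁻¹)⁻¹ = j := by
    rw [← hy]; group
  set σ := g * y⁻¹ with hσ
  have hcomm : x * j = j * x := D.Y_j hg
  let C : Subgroup G := centralizer {j} ⊓ centralizer {x}
  have hCm : ∀ c, c ∈ C ↔ c * j = j * c ∧ c * x = x * c := by
    intro c
    change c ∈ centralizer {j} ∧ c ∈ centralizer {x} ↔ _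
    rw [mem_centralizer_singleton_iff, mem_centralizer_singleton_iff]
  have hσC : ∀ c ∈ C, σ * c * σ⁻¹ ∈ C := by
    intro c hc
    obtain ⟨c2, c3⟩ := (hCm c).1 hc
    rw [hCm]
    refine ⟨?_, ?_⟩
    · rw [← s2]
      have e1 : σ * c * σ⁻¹ * (σ * x * σ⁻¹) = σ * (c * x) * σ⁻¹ := by group
      have e2 : σ * x * σ⁻¹ * (σ * c * σ⁻¹) = σ * (x * c) * σ⁻¹ := by group
      rw [e1, e2, c3]
    · rw [← s1]
      have e1 : σ * c * σ⁻¹ * (σ * j * σ⁻¹) = σ * (c * j) * σ⁻¹ := by group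
      have e2 : σ * j * σ⁻¹ * (σ * c * σ⁻¹) = σ * (j * c) * σ⁻¹ := by group
      rw [e1, e2, c2]
  obtain ⟨u, hu⟩ := Cfsg.Agent.GTwoOdd.exists_anti t1 (D := (a : M2 F₁)) (by rw [sl_coe_det]; exact one_ne_zero) (by
    rw [Matrix.trace_fin_two]; exact SLTwoFour.trace_of_mul_self a ha)
  obtain ⟨v, hv⟩ := Cfsg.Agent.GTwoOdd.exists_anti t2 (D := (b : M2 F₂)) (by rw [sl_coe_det]; exact one_ne_zero) (by
    rw [Matrix.trace_fin_two]; exact SLTwoFour.trace_of_mul_self b hb)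
  have hu' : u * a = -(a * u) := Subtype.ext (by simpa using hu)
  have hv' : v * b = -(b * v) := Subtype.ext (by simpa using hv)
  obtain ⟨S, hPS, hSC, hS2, hS⟩ := exists_sylow_stable C
    (D.pr (twoCent a na na' ⊔ zpowers u) (twoCent b nb nb' ⊔ zpowers v) ⊓ C)
    ((D.pr_isPGroup (twoCent_sup t1 na na' hu') (twoCent_sup t2 nb nb' hv')).to_le inf_le_left) inf_le_right
  obtain ⟨c, hcC, hcS⟩ := hS σ hσC
  obtain ⟨c2, c3⟩ := (hCm c).1 hcC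
  obtain ⟨m, hm1, ⟨z, hz, hzm⟩, hmax⟩ := exists_two_gen t1 a ha
  obtain ⟨m', hm1', ⟨z', hz', hzm'⟩, hmax'⟩ := exists_two_gen t2 b hb
  have hSj : ∀ s ∈ S, s * j = j * s := fun s hs => ((hCm s).1 (hSC hs)).1
  have hSx : ∀ s ∈ S, s * (D.e1 a * D.e2 b) = (D.e1 a * D.e2 b) * s := fun s hs => by
    rw [hab]; exact ((hCm s).1 (hSC hs)).2
  have memA : ∀ r, r * a = a * r → IsTwo r → D.e1 r ∈ S := by
    intro r hr hr2
    apply hPS
    refine ⟨⟨r, mem_sup_left ⟨hr, hr2⟩, 1, one_mem _, by simp⟩, (hCm _).2 ⟨D.e1_j r, ?_⟩⟩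
    rw [← hab, ← mul_assoc, ← map_mul, hr, map_mul, mul_assoc, mul_assoc, D.comm]
  have memB : ∀ r, r * b = b * r → IsTwo r → D.e2 r ∈ S := by
    intro r hr hr2
    apply hPS
    refine ⟨⟨1, one_mem _, r, mem_sup_left ⟨hr, hr2⟩, by simp⟩, (hCm _).2 ⟨D.e2_j r, ?_⟩⟩
    rw [← hab, ← mul_assoc, ← D.comm, mul_assoc, ← map_mul, hr, map_mul, mul_assoc]
  have memW : D.e1 u * D.e2 v ∈ S := by
    apply hPS
    refine ⟨⟨u, mem_sup_right (mem_zpowers u), v, mem_sup_right (mem_zpowers v), rfl⟩, (hCm _).2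
      ⟨D.Y_j ⟨u, v, rfl⟩, ?_⟩⟩
    rw [← hab, mul_mul, mul_mul, hu', hv', D.e1_neg, D.e2_neg]
    have : D.e1 (a * u) * j * (D.e2 (b * v) * j) = D.e1 (a * u) * (j * D.e2 (b * v)) * j := by group
    rw [this, ← D.e2_j]
    have : D.e1 (a * u) * (D.e2 (b * v) * j) * j = D.e1 (a * u) * D.e2 (b * v) * (j * j) := by group
    rw [this, hjj, mul_one]
  have τj : (c * σ) * j * (c * σ)⁻¹ = D.e1 a * D.e2 b := by
    rw [hab]
    have e2 : c * σ * j * (c * σ)⁻¹ = c * (σ * j * σ⁻¹) * c⁻¹ := by group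
    rw [e2, s1, c3, mul_inv_cancel_right]
  have τx : (c * σ) * (D.e1 a * D.e2 b) * (c * σ)⁻¹ = j := by
    rw [hab]
    have e2 : c * σ * x * (c * σ)⁻¹ = c * (σ * x * σ⁻¹) * c⁻¹ := by group
    rw [e2, s2, c2, mul_inv_cancel_right]
  rcases le_total m' m with hle | hle
  · have f : Fus D S (c * σ) a u z b v z' m m' :=
      { aa := ha, bb := hb, ua := hu', vb := hv', Sj := hSj, Sx := hSx, S2 := hS2, memA := memA, memB := memB,
        memW := memW, τj := τj, τx := τx, τS := hcS, hm := hm1, hz := hz, hzm := hzm, hmax := hmax, hm' := hm1',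
        hz' := hz', hzm' := hzm', hmax' := hmax', le := hle }
    exact f.main h1 h2 N hgx
  · have ecomm : D.e2 b * D.e1 a = D.e1 a * D.e2 b := (D.comm _ _).symm
    have f : Fus D.sw S (c * σ) b v z' a u z m' m :=
      { aa := hb, bb := ha, ua := hv', vb := hu', Sj := hSj,
        Sx := by
          change ∀ s ∈ S, s * (D.e2 b * D.e1 a) = (D.e2 b * D.e1 a) * s
          rw [ecomm]; exact hSx
        S2 := hS2, memA := memB, memB := memA,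
        memW := by
          change D.e2 v * D.e1 u ∈ S
          rw [← D.comm]; exact memW
        τj := by
          change _ = D.e2 b * D.e1 a
          rw [ecomm]; exact τj
        τx := by
          change _ * (D.e2 b * D.e1 a) * _ = _
          rw [ecomm]; exact τx
        τS := hcS, hm := hm1', hz := hz', hzm := hzm', hmax := hmax', hm' := hm1,
        hz' := hz, hzm' := hzm, hmax' := hmax, le := hle }
    obtain ⟨h, hh⟩ := f.main h2 h1 N.sw (g := g) (by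
      change _ = D.e2 b * D.e1 a
      rw [ecomm]; exact hgx)
    exact ⟨h, hh.sw⟩

end Duo

end Cfsg.Agent.H311
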