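import Cfsg.Agent.H311.InvAut

/-!
# Fusion, non-swap case: `j` is fused inside `L₁ L₂` if it is fused at all
-/

set_option autoImplicit false

namespace Cfsg.Agent.H311

open Matrix Subgroup Cfsg.Agent.GTwoOdd Cfsg.Agent.ClassicalGeometry Cfsg.Agent.Lib.SL2Mat

section SL

variable {F : Type*} [Field F]

/-- a `2`-element different from `1`, `-1` has a power with square `-1` -/
theorem exists_pow_sq (h2 : (2 : F) ≠ 0) {p : SL2 F} (hp : IsTwo p) (h1 : p ≠ 1) (h1' : p ≠ -1) :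
    ∃ i : ℕ, p ^ 2 ^ i * p ^ 2 ^ i = -1 := by
  obtain ⟨n, hn⟩ := hp
  induction n with
  | zero => exact absurd (by simpa using hn) h1
  | succ n ih =>
    have h3 : p ^ 2 ^ n * p ^ 2 ^ n = 1 := by rw [← pow_add, ← two_mul, ← pow_succ']; exact hn
    rcases SLTwoFour.eq_one_or_neg_one_of_mul_self h2 _ h3 with h | h
    · exact ih h
    · cases n with
      | zero => exact absurd (by simpa using h) h1'
      | succ m => exact ⟨m, by rw [← pow_add, ← two_mul, ← pow_succ']; exact h⟩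

/-- `2`-elements commuting with a matrix of trace `0` and nonsquare determinant -/
theorem eq_of_comm_nonsq (h2 : (2 : F) ≠ 0) {p : SL2 F} (hp : IsTwo p) {A : M2 F} (ht : A.trace = 0)
    (hA : ¬ IsSquare A.det) (hc : (p : M2 F) * A = A * p) : p = 1 ∨ p = -1 := by
  by_contra hcon
  push Not at hcon
  obtain ⟨i, hi⟩ := exists_pow_sq h2 hp hcon.1 hcon.2
  have d0 : A.det ≠ 0 := fun h => hA (by rw [h]; exact IsSquare.zero)
  have hcu : ((p ^ 2 ^ i : SL2 F) : M2 F) * A = A * ((p ^ 2 ^ i : SL2 F) : M2 F) := by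
    have h3 : Commute (p : M2 F) A := hc
    have h4 := h3.pow_left (2 ^ i)
    rw [Matrix.SpecialLinearGroup.coe_pow]
    exact h4.eq
  obtain ⟨a, b, hab⟩ := cent_form h2 d0 ht hcu
  have htu := SLTwoFour.trace_of_mul_self _ hi
  have h5 : ((p ^ 2 ^ i : SL2 F) : M2 F).trace = 0 := by rw [Matrix.trace_fin_two]; exact htu
  rw [hab, Matrix.trace_add, Matrix.trace_smul, Matrix.trace_smul, ht, smul_zero, add_zero] at h5
  have ha : a = 0 := by
    have : (1 : M2 F).trace = 2 := by rw [Matrix.trace_fin_two]; norm_num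
    rw [this, smul_eq_mul] at h5
    exact (mul_eq_zero.1 h5).resolve_right h2
  rw [ha, zero_smul, zero_add] at hab
  have h6 := sl_coe_det (p ^ 2 ^ i)
  rw [hab, det_smul2] at h6
  apply hA
  have hb : b ≠ 0 := by rintro rfl; simp at h6
  refine ⟨b⁻¹, ?_⟩
  field_simp
  rw [pow_two]
  linear_combination h6

end SL

/-- the product of two commuting `2`-subgroups is a `2`-group -/
theorem isPGroup_sup_comm {G : Type*} [Group G] {P Q : Subgroup G} (hP : IsPGroup 2 P) (hQ : IsPGroup 2 Q)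
    (hc : ∀ s ∈ P, ∀ t ∈ Q, s * t = t * s) : IsPGroup 2 (P ⊔ Q : Subgroup G) := by
  apply IsPGroup.to_sup_of_normal_right' hP hQ
  intro s hs
  rw [mem_normalizer_iff]
  intro h
  have h1 : ∀ t ∈ Q, s * t * s⁻¹ = t := fun t ht => by rw [hc s hs t ht, mul_inv_cancel_right]
  constructor
  · intro hh
    rw [h1 h hh]; exact hh
  · intro hh
    have h3 := h1 _ hh
    have h4 : s * h * s⁻¹ = h := by
      have := mul_left_cancel (mul_right_cancel h3)
      exact this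
    rw [h4] at hh
    exact hh

namespace Duo

variable {G : Type*} [Group G] {j : G} {F₁ F₂ : Type*} [Field F₁] [Field F₂] {D : Duo j F₁ F₂}

theorem isTwo_coord {p : SL2 F₁} {q : SL2 F₂} (_t1 : (2 : F₁) ≠ 0) (h : IsTwo (D.e1 p * D.e2 q)) : IsTwo p := by
  obtain ⟨n, hn⟩ := h
  rw [(show Commute (D.e1 p) (D.e2 q) from D.comm _ _).mul_pow, ← map_pow, ← map_pow] at hn
  refine ⟨n + 1, ?_⟩
  rw [pow_succ, pow_mul]
  rcases D.mul_eq_one hn with ⟨h, -⟩ | ⟨h, -⟩ <;> rw [h] <;> simp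

theorem isTwo_coord2 {p : SL2 F₁} {q : SL2 F₂} (_t2 : (2 : F₂) ≠ 0) (h : IsTwo (D.e1 p * D.e2 q)) : IsTwo q := by
  obtain ⟨n, hn⟩ := h
  rw [(show Commute (D.e1 p) (D.e2 q) from D.comm _ _).mul_pow, ← map_pow, ← map_pow] at hn
  refine ⟨n + 1, ?_⟩
  rw [pow_succ, pow_mul]
  rcases D.mul_eq_one hn with ⟨-, h⟩ | ⟨-, h⟩ <;> rw [h] <;> simp

theorem NS.sq_mem (N : D.NS) {c : G} (hc : c * j = j * c) (h2 : IsTwo c) : c * c ∈ D.Y := by
  by_cases h : c ∈ D.Y
  · exact mul_mem h h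
  · exact N.half.half (zpowers c) (isPGroup_zpowers h2) (isTwo_zpowers_comm hc) c (mem_zpowers c) c (mem_zpowers c) h h

/-- conjugates of `j` in `C(j)` outside `Y`, if `j` is not fused in `Y` -/
theorem NS.DD_of_conj [Fintype F₁] [Fintype F₂] (N : D.NS) (h1 : Odd (Fintype.card F₁))
    (h2 : Odd (Fintype.card F₂)) (hno : ∀ g, g * j * g⁻¹ ∈ D.Y → g * j * g⁻¹ = j) {g : G}
    (hg : (g * j * g⁻¹) * j = j * (g * j * g⁻¹)) (hne : g * j * g⁻¹ ≠ j) : D.DD (g * j * g⁻¹) := by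
  have hjj : j * j = 1 := D.jj
  set y := g * j * g⁻¹ with hy
  have hyy : y * y = 1 := by
    have : y * y = g * (j * j) * g⁻¹ := by rw [hy]; group
    rw [this, hjj]; group
  -- no element with square `j` of the factors commutes with `y`
  have key : ∀ c : G, IsTwo c → c * c = j → c * y = y * c → False := by
    intro c hc2 hcc hcy
    have h3 : (g⁻¹ * c * g) * j = j * (g⁻¹ * c * g) := by
      have e1 : (g⁻¹ * c * g) * j = g⁻¹ * (c * y) * g := by rw [hy]; group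
      have e2 : j * (g⁻¹ * c * g) = g⁻¹ * (y * c) * g := by rw [hy]; group
      rw [e1, e2, hcy]
    have h4 : IsTwo (g⁻¹ * c * g) := by
      have := hc2.conj g⁻¹
      rwa [inv_inv] at this
    have h5 := N.sq_mem h3 h4
    have e3 : (g⁻¹ * c * g) * (g⁻¹ * c * g) = g⁻¹ * j * g⁻¹⁻¹ := by rw [← hcc]; group
    rw [e3] at h5
    have h6 := hno _ h5
    apply hne
    rw [hy]
    calc g * j * g⁻¹ = g * (g⁻¹ * j * g⁻¹⁻¹) * g⁻¹ := by rw [h6]
      _ = j := by group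
  obtain ⟨α, hα⟩ := exists_aut D.inj1 (N.n1 y hg)
  obtain ⟨β, hβ⟩ := exists_aut D.inj2 (N.n2 y hg)
  have hα2 : ∀ x, α (α x) = x := by
    intro x
    apply D.inj1
    rw [hα, hα]
    have : y * (y * D.e1 x * y⁻¹) * y⁻¹ = (y * y) * D.e1 x * (y * y)⁻¹ := by group
    rw [this, hyy]; group
  have hβ2 : ∀ x, β (β x) = x := by
    intro x
    apply D.inj2
    rw [hβ, hβ]
    have : y * (y * D.e2 x * y⁻¹) * y⁻¹ = (y * y) * D.e2 x * (y * y)⁻¹ := by group
    rw [this, hyy]; group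
  obtain ⟨a, rfl, ha⟩ := gl_of_inv_aut h1 α hα2 (by
    intro r hr hfix
    refine key (D.e1 r) ⟨2, ?_⟩ (by rw [← map_mul, hr, D.neg1]) ?_
    · rw [show (2 : ℕ) ^ 2 = 2 * 2 from rfl, pow_mul, pow_two, pow_two, ← map_mul, hr, D.neg1, hjj]
    · have h3 := hα r
      rw [hfix] at h3
      exact eq_mul_inv_iff_mul_eq.1 h3)
  obtain ⟨b, rfl, hb⟩ := gl_of_inv_aut h2 β hβ2 (by
    intro r hr hfix
    refine key (D.e2 r) ⟨2, ?_⟩ (by rw [← map_mul, hr, D.neg2]) ?_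
    · rw [show (2 : ℕ) ^ 2 = 2 * 2 from rfl, pow_mul, pow_two, pow_two, ← map_mul, hr, D.neg2, hjj]
    · have h3 := hβ r
      rw [hfix] at h3
      exact eq_mul_inv_iff_mul_eq.1 h3)
  exact ⟨hg, hyy, a.1, b.1, acts_of_aut hα, acts_of_aut hβ, ha, hb⟩

/-- multiplying a `DD` involution by a commuting element of `Y` of square `1` -/
theorem DD.mul_Y {y t : G} (hy : D.DD y) (ht : t ∈ D.Y) (htt : t * t = 1) (hty : t * y = y * t) : D.DD (t * y) := by
  obtain ⟨A, B, a1, a2, a3, a4⟩ := hy.acts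
  have hsq : t * y * (t * y) = 1 := by
    have : t * y * (t * y) = t * (y * t) * y := by group
    rw [this, ← hty, ← mul_assoc, htt, one_mul, hy.sq]
  obtain ⟨p, q, rfl⟩ := ht
  refine ⟨commj_mul (D.Y_j ⟨p, q, rfl⟩) hy.comm, hsq, _, _, acts_Y1.mul a1, acts_Y2.mul a2, ?_, ?_⟩
  · rw [Matrix.det_mul, sl_coe_det, one_mul]; exact a3
  · rw [Matrix.det_mul, sl_coe_det, one_mul]; exact a4

/-- **Fact B** -/
theorem NS.factB [Finite G] [Fintype F₁] [Fintype F₂] (N : D.NS) (h1 : Odd (Fintype.card F₁))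
    (h2 : Odd (Fintype.card F₂)) (hno : ∀ g, g * j * g⁻¹ ∈ D.Y → g * j * g⁻¹ = j) (g : G)
    (hg : (g * j * g⁻¹) * j = j * (g * j * g⁻¹)) : g * j * g⁻¹ = j := by
  by_contra hne
  have t1 := SLTwoFour.two_ne_zero_of_odd (F := F₁) h1
  have t2 := SLTwoFour.two_ne_zero_of_odd (F := F₂) h2
  have hjj : j * j = 1 := D.jj
  have hy := N.DD_of_conj h1 h2 hno hg hne
  -- `y'' = g⁻¹ j g`
  have hg' : (g⁻¹ * j * g⁻¹⁻¹) * j = j * (g⁻¹ * j * g⁻¹⁻¹) := by
    have e1 : (g⁻¹ * j * g⁻¹⁻¹) * j = g⁻¹ * (j * (g * j * g⁻¹)) * g := by group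
    have e2 : j * (g⁻¹ * j * g⁻¹⁻¹) = g⁻¹ * ((g * j * g⁻¹) * j) * g := by group
    rw [e1, e2, hg]
  have hne' : g⁻¹ * j * g⁻¹⁻¹ ≠ j := by
    intro h
    apply hne
    calc g * j * g⁻¹ = g * (g⁻¹ * j * g⁻¹⁻¹) * g⁻¹ := by rw [h]
      _ = j := by group
  have hy' := N.DD_of_conj h1 h2 hno hg' hne'
  obtain ⟨d, hdY, hd⟩ := N.conj_DD t1 t2 hy' hy
  set y := g * j * g⁻¹ with hydef
  have s1 : (g * d⁻¹) * y * (g * d⁻¹)⁻¹ = j := by
    rw [← hd]; group
  have s2 : (g * d⁻¹) * j * (g * d⁻¹)⁻¹ = y := by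
    have : (g * d⁻¹) * j * (g * d⁻¹)⁻¹ = g * (d⁻¹ * (j * d)) * g⁻¹ := by group
    rw [this, ← D.Y_j hdY, inv_mul_cancel_left]
  set σ := g * d⁻¹ with hσ
  -- the element `x`
  obtain ⟨A, B, a1, a2, a3, a4⟩ := hy.acts
  have tA := acts_trace D.inj1 hy.sq a1 a3
  have tB := acts_trace D.inj2 hy.sq a2 a4
  obtain ⟨r, hr⟩ := exists_anti t1 a1.1 tA
  obtain ⟨r', hr'⟩ := exists_anti t2 a2.1 tB
  have hrr : r * r = -1 := Core.sl_sq_of_trace (trace_of_anti t1 a1.1 hr)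
  have hrr' : r' * r' = -1 := Core.sl_sq_of_trace (trace_of_anti t2 a2.1 hr')
  have y1 : y * D.e1 r = D.e1 (-r) * y := by
    apply a1.2
    rw [Matrix.SpecialLinearGroup.coe_neg, Matrix.neg_mul, hr, neg_neg]
  have y2 : y * D.e2 r' = D.e2 (-r') * y := by
    apply a2.2
    rw [Matrix.SpecialLinearGroup.coe_neg, Matrix.neg_mul, hr', neg_neg]
  set x := D.e1 r * D.e2 r' with hx
  have hxY : x ∈ D.Y := ⟨r, r', rfl⟩
  have hxj : x * j = j * x := D.Y_j hxY
  have hxx : x * x = 1 := by rw [hx, D.mul_mul, hrr, hrr', D.neg1, D.neg2, hjj]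
  have hneg : D.e1 (-r) * D.e2 (-r') = x := by
    rw [D.e1_neg, D.e2_neg, D.e2_j, hx]
    have : D.e1 r * j * (j * D.e2 r') = D.e1 r * (j * j) * D.e2 r' := by group
    rw [this, hjj, mul_one]
  have hxy : x * y = y * x := by
    symm
    calc y * x = (y * D.e1 r) * D.e2 r' := by rw [hx]; group
      _ = D.e1 (-r) * (y * D.e2 r') := by rw [y1, mul_assoc]
      _ = (D.e1 (-r) * D.e2 (-r')) * y := by rw [y2, mul_assoc]
      _ = x * y := by rw [hneg]
  -- the Sylow subgroup of `C(⟨j, y⟩)`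
  let C : Subgroup G := centralizer {j} ⊓ centralizer {y}
  have hCm : ∀ c, c ∈ C ↔ c * j = j * c ∧ c * y = y * c := by
    intro c
    change c ∈ centralizer {j} ∧ c ∈ centralizer {y} ↔ _
    rw [mem_centralizer_singleton_iff, mem_centralizer_singleton_iff]
  have hP : IsPGroup 2 ((zpowers x ⊔ zpowers y) ⊔ zpowers j : Subgroup G) := by
    apply isPGroup_sup_comm _ (isPGroup_zpowers (isTwo_of_sq hjj))
    · intro s hs t ht
      obtain ⟨m, rfl⟩ := mem_zpowers_iff.1 ht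
      have : (zpowers x ⊔ zpowers y : Subgroup G) ≤ centralizer {j} := by
        rw [sup_le_iff, zpowers_le, zpowers_le, mem_centralizer_singleton_iff, mem_centralizer_singleton_iff]
        exact ⟨hxj, hy.comm⟩
      exact ((show Commute s j from mem_centralizer_singleton_iff.1 (this hs)).zpow_right m).eq
    · apply isPGroup_sup_comm (isPGroup_zpowers (isTwo_of_sq hxx)) (isPGroup_zpowers (isTwo_of_sq hy.sq))
      intro s hs t ht
      obtain ⟨m, rfl⟩ := mem_zpowers_iff.1 ht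
      obtain ⟨n, rfl⟩ := mem_zpowers_iff.1 hs
      exact ((show Commute x y from hxy).zpow_zpow n m).eq
  have hPC : ((zpowers x ⊔ zpowers y) ⊔ zpowers j : Subgroup G) ≤ C := by
    rw [sup_le_iff, sup_le_iff, zpowers_le, zpowers_le, zpowers_le, hCm, hCm, hCm]
    exact ⟨⟨⟨hxj, hxy⟩, hy.comm, rfl⟩, rfl, hy.comm.symm⟩
  have hσC : ∀ c ∈ C, σ * c * σ⁻¹ ∈ C := by
    intro c hc
    obtain ⟨c2, c3⟩ := (hCm c).1 hc
    rw [hCm]
    constructor
    · rw [← s1]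
      have e1 : σ * c * σ⁻¹ * (σ * y * σ⁻¹) = σ * (c * y) * σ⁻¹ := by group
      have e2 : σ * y * σ⁻¹ * (σ * c * σ⁻¹) = σ * (y * c) * σ⁻¹ := by group
      rw [e1, e2, c3]
    · rw [← s2]
      have e1 : σ * c * σ⁻¹ * (σ * j * σ⁻¹) = σ * (c * j) * σ⁻¹ := by group
      have e2 : σ * j * σ⁻¹ * (σ * c * σ⁻¹) = σ * (j * c) * σ⁻¹ := by group
      rw [e1, e2, c2]
  obtain ⟨S, hPS, hSC, hS2, hS⟩ := exists_sylow_stable C _ hP hPC
  obtain ⟨c, hcC, hcS⟩ := hS σ hσC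
  have hxS : x ∈ S := hPS (mem_sup_left (mem_sup_left (mem_zpowers x)))
  have hyS : y ∈ S := hPS (mem_sup_left (mem_sup_right (mem_zpowers y)))
  have hjS : j ∈ S := hPS (mem_sup_right (mem_zpowers j))
  -- elements of `S ∩ Y`
  have hplus : ∀ p q, D.e1 p * D.e2 q ∈ S → (p : M2 F₁) * A = A * p → (q : M2 F₂) * B = B * q →
      D.e1 p * D.e2 q = 1 ∨ D.e1 p * D.e2 q = j := by
    intro p q hpq hp hq
    have hp2 := isTwo_coord t1 (isTwo_of_isPGroup hS2 hpq)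
    have hq2 := isTwo_coord2 t2 (isTwo_of_isPGroup hS2 hpq)
    rcases eq_of_comm_nonsq t1 hp2 tA a3 hp with rfl | rfl <;> rcases eq_of_comm_nonsq t2 hq2 tB a4 hq with rfl | rfl
    · left; simp
    · right; rw [map_one, one_mul, D.neg2]
    · right; rw [map_one, mul_one, D.neg1]
    · left; rw [D.neg1, D.neg2, D.jj]
  have hSY : ∀ s ∈ S, s ∈ D.Y → (s = 1 ∨ s = j) ∨ (s * x = 1 ∨ s * x = j) := by
    rintro _ hs ⟨p, q, rfl⟩
    obtain ⟨-, c3⟩ := (hCm _).1 (hSC hs)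
    obtain ⟨p', hp'⟩ := exists_cj a1.1 p
    obtain ⟨q', hq'⟩ := exists_cj a2.1 q
    have e1 : y * (D.e1 p * D.e2 q) = (D.e1 p' * D.e2 q') * y := by
      rw [← mul_assoc, a1.2 p p' hp', mul_assoc, a2.2 q q' hq', ← mul_assoc]
    rw [e1] at c3
    rcases D.mul_eq_mul (mul_right_cancel c3) with ⟨rfl, rfl⟩ | ⟨h3, h4⟩
    · left; exact hplus p q hs hp' hq'
    · right
      have hsx := mul_mem hs hxS
      rw [hx, D.mul_mul] at hsx ⊢
      have hp'' : p' = -p := by rw [h3, neg_neg]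
      have hq'' : q' = -q := by rw [h4, neg_neg]
      apply hplus _ _ hsx
      · rw [Matrix.SpecialLinearGroup.coe_mul, mul_assoc, hr, Matrix.mul_neg, ← mul_assoc, ← mul_assoc, ← hp', hp'',
          Matrix.SpecialLinearGroup.coe_neg, Matrix.neg_mul, Matrix.neg_mul]
      · rw [Matrix.SpecialLinearGroup.coe_mul, mul_assoc, hr', Matrix.mul_neg, ← mul_assoc, ← mul_assoc, ← hq', hq'',
          Matrix.SpecialLinearGroup.coe_neg, Matrix.neg_mul, Matrix.neg_mul]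
  have hyC := hy.comm
  -- elements of `S` outside `Y` are conjugate to `j`
  have hSout : ∀ s ∈ S, s ∉ D.Y → ∃ h : G, h * j * h⁻¹ = s := by
    intro s hs hsY
    have hsy : s * y ∈ D.Y := N.half.half S hS2 (fun t ht => ((hCm t).1 (hSC ht)).1) s hs y hyS hsY hy.notMem
    have hsyS : s * y ∈ S := mul_mem hs hyS
    have hs' : s = (s * y) * y := by rw [mul_assoc, hy.sq, mul_one]
    have hcomm : (s * y) * y = y * (s * y) := ((hCm _).1 (hSC hsyS)).2
    have hsq : (s * y) * (s * y) = 1 := by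
      rcases hSY _ hsyS hsy with (h | h) | (h | h)
      · rw [h, mul_one]
      · rw [h, hjj]
      · have : s * y = x := by rw [eq_inv_of_mul_eq_one_left h]; exact inv_eq_of_mul_eq_one_right hxx
        rw [this, hxx]
      · have : s * y = j * x := by
          rw [← h, mul_assoc, hxx, mul_one]
        rw [this, mul_assoc, ← mul_assoc x, hxj, mul_assoc j x, hxx, mul_one, hjj]
    have hDD : D.DD s := by
      rw [hs']
      exact hy.mul_Y hsy hsq hcomm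
    obtain ⟨c', -, hc'⟩ := N.conj_DD t1 t2 hy hDD
    refine ⟨c' * g, ?_⟩
    rw [← hc', hydef]; group
  have hτ : ∀ s ∈ S, s ∈ D.Y → s ≠ j → s ≠ 1 → (c * σ) * s * (c * σ)⁻¹ ∈ D.Y := by
    intro s hs hsY hsj hs1
    by_contra hcon
    obtain ⟨h, hh⟩ := hSout _ (hcS s hs) hcon
    apply hsj
    have e : ((c * σ)⁻¹ * h) * j * ((c * σ)⁻¹ * h)⁻¹ = s := by
      have : ((c * σ)⁻¹ * h) * j * ((c * σ)⁻¹ * h)⁻¹ = (c * σ)⁻¹ * (h * j * h⁻¹) * (c * σ) := by group
      rw [this, hh]; group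
    have h3 := hno ((c * σ)⁻¹ * h) (by rw [e]; exact hsY)
    rw [e] at h3
    exact h3
  have hx1 : x ≠ 1 := by
    intro h
    obtain ⟨n1, n2⟩ := sl_ne_of_sq t1 hrr
    rcases D.mul_eq_one h with h3 | h3
    · exact n1 h3.1
    · exact n2 h3.1
  have hxj' : x ≠ j := by
    intro h
    obtain ⟨n1, n2⟩ := sl_ne_of_sq t1 hrr
    rcases D.mul_eq_j h with h3 | h3
    · exact n2 h3.1
    · exact n1 h3.1
  have k1 := hτ x hxS hxY hxj' hx1
  have k2 := hτ (x * j) (mul_mem hxS hjS) (mul_mem hxY D.j_mem)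
    (fun h => hx1 (mul_eq_right.1 h)) (fun h => hxj' (by
      rw [eq_inv_of_mul_eq_one_left h]; exact inv_eq_of_mul_eq_one_right hjj))
  have k3 := mul_mem k1 k2
  have e : (c * σ) * x * (c * σ)⁻¹ * ((c * σ) * (x * j) * (c * σ)⁻¹) = y := by
    have e1 : (c * σ) * x * (c * σ)⁻¹ * ((c * σ) * (x * j) * (c * σ)⁻¹) = c * (σ * ((x * x) * j) * σ⁻¹) * c⁻¹ := by group
    rw [e1, hxx, one_mul, s2, ((hCm c).1 hcC).2, mul_inv_cancel_right]
  rw [e] at k3
  exact hy.notMem k3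

end Duo

end Cfsg.Agent.H311
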