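import Cfsg.Agent.H311.SwapW
import Cfsg.Agent.S3221

/-!
# The swap case, `q = 3`
-/

set_option autoImplicit false

namespace Cfsg.Agent.H311

open Matrix Subgroup Cfsg.Agent.GTwoOdd Cfsg.Agent.ClassicalGeometry Cfsg.Agent.Lib.SL2Mat
open Cfsg.Agent.Lib.AutSL2Out

theorem aut_sq_inner {F : Type*} [Field F] [Fintype F] (hF : Fintype.card F = 3) (α : MulAut (SL2 F)) :
    ∃ s : SL2 F, ∀ x, (α * α) x = s * x * s⁻¹ := by
  obtain ⟨g, σ, rfl⟩ := exists_eq α
  have h3 : ∀ x : F, x = 0 ∨ x = 1 ∨ x = -1 := by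
    intro x
    have h := FiniteField.pow_card x
    rw [hF] at h
    have h4 : x * (x - 1) * (x + 1) = 0 := by linear_combination h
    rcases mul_eq_zero.1 h4 with h5 | h5
    · rcases mul_eq_zero.1 h5 with h6 | h6
      · exact Or.inl h6
      · exact Or.inr (Or.inl (sub_eq_zero.1 h6))
    · exact Or.inr (Or.inr (eq_neg_of_add_eq_zero_left h5))
  have hσ : σ = 1 := by
    ext x
    rcases h3 x with rfl | rfl | rfl
    · simp
    · simp
    · simp
  rw [hσ, map_one, mul_one, ← map_mul]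
  refine conjGL_of_det_sq (g * g) g.1.det ?_ ?_
  · exact (Matrix.GeneralLinearGroup.det g).ne_zero
  · rw [Units.val_mul, Matrix.det_mul, pow_two]

namespace Duo

namespace SW

variable {G : Type*} [Group G] [Finite G] {j : G} {F : Type*} [Field F] [Fintype F] {D : Duo j F F} {n : G}

/-- squares of elements of `C(j)` normalizing both factors are in `Y` -/
theorem sq_mem (N : D.SW n) (t2 : (2 : F) ≠ 0) (hF : Fintype.card F = 3) {c : G} (hc : c * j = j * c)
    (hcn : D.Nm c) : c * c ∈ D.Y := by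
  obtain ⟨α, hα⟩ := exists_aut D.inj1 hcn.1
  obtain ⟨γ, hγ⟩ := exists_aut D.inj2 hcn.2
  obtain ⟨s, hs⟩ := aut_sq_inner hF α
  obtain ⟨r, hr⟩ := aut_sq_inner hF γ
  have h1 := aut_mul hα hα
  have h2 := aut_mul hγ hγ
  set k := c * c with hk
  have hkj : k * j = j * k := commj_mul hc hc
  have hyj : (D.e1 s * D.e2 r) * j = j * (D.e1 s * D.e2 r) := D.Y_j ⟨s, r, rfl⟩
  have h3 : (D.e1 s * D.e2 r)⁻¹ * k = 1 ∨ (D.e1 s * D.e2 r)⁻¹ * k = j := by
    apply N.cent_eq t2 (commj_mul (commj_inv hyj) hkj)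
    · intro x
      have e1 : k * D.e1 x = D.e1 (s * x * s⁻¹) * k := by rw [← hs, h1]; group
      have e2 : D.e1 (s * x * s⁻¹) = (D.e1 s * D.e2 r) * D.e1 x * (D.e1 s * D.e2 r)⁻¹ := by
        have := D.conj_conj s x r 1
        rw [map_one, mul_one] at this
        rw [this]; simp
      rw [mul_assoc, e1, e2]; group
    · intro x
      have e1 : k * D.e2 x = D.e2 (r * x * r⁻¹) * k := by rw [← hr, h2]; group
      have e2 : D.e2 (r * x * r⁻¹) = (D.e1 s * D.e2 r) * D.e2 x * (D.e1 s * D.e2 r)⁻¹ := by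
        have := D.conj_conj s 1 r x
        rw [map_one, one_mul] at this
        rw [this]; simp
      rw [mul_assoc, e1, e2]; group
  have h4 : (D.e1 s * D.e2 r)⁻¹ * k ∈ D.Y := by
    rcases h3 with h | h <;> rw [h]
    · exact one_mem _
    · exact D.j_mem
  exact (mul_mem_cancel_left (inv_mem (show D.e1 s * D.e2 r ∈ D.Y from ⟨s, r, rfl⟩))).1 h4

/-- for `q = 3`, `C(j) = Y⟨n⟩` and `δ = 1` -/
theorem cent_three (N : D.SW n) (t2 : (2 : F) ≠ 0) (hF : Fintype.card F = 3) {δ : ℕ} (hδ : Odd δ)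
    (hidx : D.Y.relIndex (centralizer ({j} : Set G)) = 2 * δ) :
    δ = 1 ∧ N.W = centralizer ({j} : Set G) := by
  set C := centralizer ({j} : Set G) with hC
  have hn : (D.Y.subgroupOf C).Normal :=
    ⟨fun y hy c => N.half.norm c (mem_centralizer_singleton_iff.1 c.2) y hy⟩
  have hP : IsPGroup 2 (C ⧸ D.Y.subgroupOf C) := by
    intro x
    obtain ⟨⟨c, hcC⟩, rfl⟩ := QuotientGroup.mk_surjective x
    refine ⟨2, ?_⟩
    rw [← QuotientGroup.mk_pow, QuotientGroup.eq_one_iff]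
    change c ^ 2 ^ 2 ∈ D.Y
    have hc := mem_centralizer_singleton_iff.1 hcC
    rcases N.nms c hc with h | h
    · have h3 := N.sq_mem t2 hF hc h
      rw [show 2 ^ 2 = 2 * 2 by norm_num, pow_mul, pow_two c]
      exact pow_mem h3 2
    · have h3 := N.sq_mem t2 hF (commj_mul hc hc) (sw_mul_sw h h)
      rw [show 2 ^ 2 = 2 * 2 by norm_num, pow_mul, pow_two c, pow_two]
      exact h3
  have : Fact (Nat.Prime 2) := ⟨Nat.prime_two⟩
  obtain ⟨k, hk⟩ := IsPGroup.iff_card.1 hP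
  have h3 : Nat.card (C ⧸ D.Y.subgroupOf C) = 2 * δ := hidx
  rw [hk] at h3
  have hδ1 : δ = 1 := by
    have h4 : δ ∣ 2 ^ k := ⟨2, by rw [h3]; ring⟩
    exact (Nat.Coprime.eq_one_of_dvd (Nat.Coprime.pow_right k (Nat.coprime_two_right.2 hδ)) h4)
  refine ⟨hδ1, ?_⟩
  apply eq_of_le_of_card_ge N.W_le
  have h5 := Lib.SylowNormalInf.card_mul_relIndex D.Y N.W N.Y_le_W
  have h6 := Lib.SylowNormalInf.card_mul_relIndex D.Y C D.Y_le
  rw [N.relIndex_W] at h5
  rw [hidx, hδ1, mul_one] at h6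
  rw [← h5, ← h6]

/-- **the case `q = 3`** -/
theorem three (N : D.SW n) (hF : Fintype.card F = 3) {δ : ℕ} (hδ : Odd δ)
    (hidx : D.Y.relIndex (centralizer ({j} : Set G)) = 2 * δ)
    (hnot : Subgroup.centralizer ({j} : Set G) ⊔ Cfsg.oddCore G ≠ ⊤) :
    δ = 1 ∧ Nonempty (G ≃* Cfsg.PSp 2 F) := by
  have h1 : Odd (Fintype.card F) := by rw [hF]; decide
  have t1 := SLTwoFour.two_ne_zero_of_odd (F := F) h1
  obtain ⟨hδ1, hW⟩ := N.cent_three t1 hF hδ hidx
  refine ⟨hδ1, ?_⟩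
  obtain ⟨z, D0, m, N0, hz, hW0⟩ := model F h1
  obtain ⟨U, hUz, hU⟩ := N0.half.two_central t1 t1 (zpowers z) (isPGroup_zpowers (isTwo_of_sq D0.jj))
    (isTwo_zpowers_comm rfl)
  obtain ⟨e, -⟩ := equivW N N0
  have hj2 := D.orderOf_j t1
  have hev : Even (Nat.card G) := by
    have h3 : orderOf j ∣ Nat.card G := orderOf_dvd_natCard j
    rw [hj2] at h3
    exact even_iff_two_dvd.2 h3
  exact S3221.result hev (N.index_ne_two h1 hnot) hF U z hz (hU (mem_zpowers z)) hUz j hj2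
    (((MulEquiv.subgroupCongr hW).symm.trans e).trans (MulEquiv.subgroupCongr hW0))

end SW

end Duo

end Cfsg.Agent.H311
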