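import Cfsg.Agent.H311.SwapBig
import Cfsg.Agent.H311.SwapThree

/-!
# S3212: the two cases
-/

set_option autoImplicit false

namespace Cfsg.Agent.H311

open Matrix Subgroup Cfsg.Agent.GTwoOdd Cfsg.Agent.ClassicalGeometry

namespace Duo

section alg

variable {G : Type*} [Group G] {j : G} {F₁ F₂ : Type*} [Field F₁] [Field F₂] {D : Duo j F₁ F₂}

theorem not_nm1_sw1 {c : G} (hc : ∀ x, ∃ y, c * D.e1 x = D.e1 y * c) (hc' : ∀ x, ∃ y, c * D.e1 x = D.e2 y * c) :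
    False := by
  apply sl_noncomm (F := F₁)
  intro a b
  have key : ∀ x : SL2 F₁, c * D.e1 x * c⁻¹ = 1 ∨ c * D.e1 x * c⁻¹ = j := by
    intro x
    obtain ⟨y, hy⟩ := hc x
    obtain ⟨z, hz⟩ := hc' x
    have h : D.e1 y = D.e2 z := by
      rw [hy] at hz
      exact mul_right_cancel hz
    have e : c * D.e1 x * c⁻¹ = D.e1 y := by rw [hy]; group
    rw [e]
    rcases D.eq_cases h with ⟨rfl, -⟩ | ⟨rfl, -⟩
    · left; exact map_one _
    · right; exact D.neg1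
  apply D.inj1
  rw [map_mul, map_mul]
  have h1 : (c * D.e1 a * c⁻¹) * (c * D.e1 b * c⁻¹) = (c * D.e1 b * c⁻¹) * (c * D.e1 a * c⁻¹) := by
    rcases key a with h | h <;> rcases key b with h' | h' <;> rw [h, h'] <;> simp
  have h2 : c * (D.e1 a * D.e1 b) * c⁻¹ = c * (D.e1 b * D.e1 a) * c⁻¹ := by
    have e1 : c * (D.e1 a * D.e1 b) * c⁻¹ = (c * D.e1 a * c⁻¹) * (c * D.e1 b * c⁻¹) := by group
    have e2 : c * (D.e1 b * D.e1 a) * c⁻¹ = (c * D.e1 b * c⁻¹) * (c * D.e1 a * c⁻¹) := by group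
    rw [e1, e2, h1]
  exact mul_left_cancel (mul_right_cancel h2)

theorem normal1_iff (D : Duo j F₁ F₂) : (D.e1.range.subgroupOf (centralizer ({j} : Set G))).Normal ↔
    ∀ c, c * j = j * c → ∀ x, ∃ y, c * D.e1 x = D.e1 y * c := by
  constructor
  · intro h c hc x
    have h3 := h.conj_mem ⟨D.e1 x, D.Y_le (D.e1_mem x)⟩ ⟨x, rfl⟩ ⟨c, mem_centralizer_singleton_iff.2 hc⟩
    obtain ⟨y, hy⟩ := h3
    change D.e1 y = c * D.e1 x * c⁻¹ at hy
    exact ⟨y, by rw [hy]; group⟩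
  · intro h
    refine ⟨fun y hy c => ?_⟩
    obtain ⟨y, hyC⟩ := y
    obtain ⟨c, hc⟩ := c
    obtain ⟨x, rfl⟩ : y ∈ D.e1.range := hy
    obtain ⟨y', hy'⟩ := h c (mem_centralizer_singleton_iff.1 hc) x
    exact ⟨y', by change D.e1 y' = c * D.e1 x * c⁻¹; rw [hy']; group⟩

end alg

universe u v w

variable {G : Type u} [Group G] [Finite G] {j : G} {F₁ : Type v} {F₂ : Type w} [Field F₁] [Field F₂] [Fintype F₁]
  [Fintype F₂] {D : Duo j F₁ F₂}

/-- **the swap case** -/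
theorem swap_final (HP : PspOut.{u, v}) (H : D.Half) (h1 : Odd (Fintype.card F₁)) (h2 : Odd (Fintype.card F₂)) {c0 : G}
    (hcj : c0 * j = j * c0) (hc0 : D.Sw c0)
    (nms : ∀ c, c * j = j * c → D.Nm c ∨ D.Sw c)
    (cent : ∀ c, c * j = j * c → (∀ x, c * D.e1 x = D.e1 x * c) → (∀ y, c * D.e2 y = D.e2 y * c) → IsTwo c)
    (hO : Cfsg.oddCore ↥(centralizer ({j} : Set G)) = ⊥) {δ : ℕ} (hδ : Odd δ)
    (hidx : D.Y.relIndex (centralizer ({j} : Set G)) = 2 * δ)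
    (hnot : Subgroup.centralizer ({j} : Set G) ⊔ Cfsg.oddCore G ≠ ⊤) :
    Fintype.card F₁ = Fintype.card F₂ ∧ ∃ K : Subgroup G, K.Normal ∧ K.index = δ ∧ Nonempty (K ≃* Cfsg.PSp 2 F₁) := by
  obtain ⟨D', n, N, hY, ⟨e⟩⟩ := exists_SW h1 h2 H hcj hc0 nms cent hnot
  refine ⟨SLNormal.card_eq_of_equiv e, ?_⟩
  rw [← hY] at hidx
  by_cases h3 : Fintype.card F₁ = 3
  · obtain ⟨hδ1, ⟨e⟩⟩ := N.three h3 hδ hidx hnot
    exact ⟨⊤, inferInstance, by rw [index_top, hδ1], ⟨topEquiv.trans e⟩⟩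
  · have h4 : 3 < Fintype.card F₁ := by
      have := Fintype.one_lt_card (α := F₁)
      obtain ⟨k, hk⟩ := h1
      omega
    exact SW.big HP N h1 h4 hO hidx hnot

end Duo

end Cfsg.Agent.H311
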