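import Cfsg.Agent.H311.SwapJ
import Cfsg.Agent.GTwoOdd.BridgeField
import Cfsg.Agent.GTwoOdd.BridgeHyp
import Cfsg.Agent.GTwoOdd.Calc

/-!
# The case where both factors are normal in `C(j)`: the local structure

`NS D`: `L₁`, `L₂` are normal in `C(j)`, the centralizer of `L₁ L₂` in `C(j)` is a `2`-group.
`toHyp`: if some involution outside `L₁ L₂` acts with nonsquare determinants, then `LocalSL` and `Hyp` hold.
-/

set_option autoImplicit false

namespace Cfsg.Agent.H311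

open Matrix Subgroup Cfsg.Agent.GTwoOdd Cfsg.Agent.ClassicalGeometry Cfsg.Agent.Lib.SL2Mat
open Cfsg.Agent.Lib.AutSL2Out

section aut

variable {G : Type*} [Group G] {F : Type*} [Field F] {e : SL2 F →* G}

theorem exists_aut [Finite F] (he : Function.Injective e) {c : G} (h : ∀ x, ∃ y, c * e x = e y * c) :
    ∃ α : MulAut (SL2 F), ∀ x, e (α x) = c * e x * c⁻¹ := by
  choose f hf using h
  have hf' : ∀ x, e (f x) = c * e x * c⁻¹ := fun x => by rw [hf]; group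
  have hmul : ∀ x y, f (x * y) = f x * f y := by
    intro x y
    apply he
    rw [map_mul, hf', hf', hf', map_mul]; group
  have hinj : Function.Injective f := by
    intro x y hxy
    apply he
    have h1 := hf' x
    rw [hxy, hf'] at h1
    exact (mul_left_cancel (mul_right_cancel h1)).symm
  refine ⟨MulEquiv.ofBijective (MonoidHom.mk' f hmul) ⟨hinj, Finite.surjective_of_injective hinj⟩, hf'⟩

theorem aut_mul {c d : G} {α β : MulAut (SL2 F)} (hα : ∀ x, e (α x) = c * e x * c⁻¹)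
    (hβ : ∀ x, e (β x) = d * e x * d⁻¹) : ∀ x, e ((α * β) x) = (c * d) * e x * (c * d)⁻¹ := by
  intro x
  rw [MulAut.mul_apply, hα, hβ]; group

theorem aut_inv {c : G} {α : MulAut (SL2 F)} (hα : ∀ x, e (α x) = c * e x * c⁻¹) :
    ∀ x, e (α⁻¹ x) = c⁻¹ * e x * c⁻¹⁻¹ := by
  intro x
  have h := hα (α⁻¹ x)
  rw [MulAut.apply_inv_self] at h
  rw [h]; group

theorem aut_pow {c : G} {α : MulAut (SL2 F)} (hα : ∀ x, e (α x) = c * e x * c⁻¹) (n : ℕ) :
    ∀ x, e ((α ^ n) x) = c ^ n * e x * (c ^ n)⁻¹ := by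
  induction n with
  | zero => intro x; simp
  | succ n ih => rw [pow_succ, pow_succ]; exact aut_mul ih hα

theorem aut_unique (he : Function.Injective e) {c : G} {α β : MulAut (SL2 F)} (hα : ∀ x, e (α x) = c * e x * c⁻¹)
    (hβ : ∀ x, e (β x) = c * e x * c⁻¹) : α = β := by
  apply MulEquiv.ext
  intro x
  apply he
  rw [hα, hβ]

theorem acts_of_aut {c : G} {g : GL (Fin 2) F} (h : ∀ x, e (conjGL g x) = c * e x * c⁻¹) : Acts e c g.1 := by
  refine ⟨(Matrix.GeneralLinearGroup.det g).ne_zero, fun x y hxy => ?_⟩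
  have h1 : conjGL g x = y := by
    apply Subtype.ext
    rw [conjGL_val, ← hxy, Matrix.mul_assoc, show g.1 * g⁻¹.1 = 1 from Units.mul_inv g, Matrix.mul_one]
  rw [← h1, h]
  group

theorem aut_of_acts (he : Function.Injective e) {c : G} {A : M2 F} {α : MulAut (SL2 F)} (hα : ∀ x, e (α x) = c * e x * c⁻¹)
    (h : Acts e c A) : ∃ g : GL (Fin 2) F, g.1 = A ∧ α = conjGL g := by
  refine ⟨Matrix.GeneralLinearGroup.mkOfDetNeZero A h.1, rfl, ?_⟩
  apply MulEquiv.ext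
  intro x
  apply he
  rw [hα]
  set g := Matrix.GeneralLinearGroup.mkOfDetNeZero A h.1 with hg
  have h1 : ((conjGL g x : SL2 F) : M2 F) * A = A * x := by
    have h2 : ((conjGL g x : SL2 F) : M2 F) = g.1 * x.1 * g⁻¹.1 := conjGL_val g x
    have h3 : A = g.1 := rfl
    rw [h2, h3, Matrix.mul_assoc, inv_val_mul_val, Matrix.mul_one]
  rw [h.2 x _ h1]
  group

end aut

/-- an odd power of an element of a finite group which is a `2`-element -/
theorem exists_odd_pow {G : Type*} [Group G] [Finite G] (c : G) : ∃ m : ℕ, Odd m ∧ IsTwo (c ^ m) := by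
  obtain ⟨k, m, hm, h⟩ := Nat.exists_eq_two_pow_mul_odd (n := orderOf c) (orderOf_pos c).ne'
  refine ⟨m, hm, k, ?_⟩
  rw [← pow_mul, mul_comm, ← h, pow_orderOf_eq_one]

theorem isSquare_of_odd_pow' {F : Type*} [Field F] {a : F} {m : ℕ} (hm : Odd m) : IsSquare (a ^ m) ↔ IsSquare a :=
  ⟨fun h => BridgeHyp.isSquare_of_odd_pow hm h, fun h => h.pow m⟩

theorem acts_det_iff {G : Type*} [Group G] {F : Type*} [Field F] {e : SL2 F →* G} (he : Function.Injective e) {c : G}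
    {A B : M2 F} (h : Acts e c A) (k : Acts e c B) : IsSquare A.det ↔ IsSquare B.det := by
  obtain ⟨a, ha, rfl⟩ := h.proportional he k
  rw [det_smul2]
  constructor
  · intro h1
    exact (IsSquare.mul_self a).mul h1
  · intro h1
    have : A.det = (a⁻¹ * a⁻¹) * (a * a * A.det) := by field_simp
    rw [this]
    exact (IsSquare.mul_self _).mul h1

namespace Duo

variable {G : Type*} [Group G] {j : G} {F₁ F₂ : Type*} [Field F₁] [Field F₂] (D : Duo j F₁ F₂)

/-- both factors are normal in `C(j)` -/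
structure NS : Prop where
  half : D.Half
  n1 : ∀ c, c * j = j * c → ∀ x, ∃ y, c * D.e1 x = D.e1 y * c
  n2 : ∀ c, c * j = j * c → ∀ x, ∃ y, c * D.e2 x = D.e2 y * c
  cent : ∀ c, c * j = j * c → (∀ x, c * D.e1 x = D.e1 x * c) → (∀ y, c * D.e2 y = D.e2 y * c) → IsTwo c

/-- an involution acting with nonsquare determinants on both factors -/
structure DD (y : G) : Prop where
  comm : y * j = j * y
  sq : y * y = 1
  acts : ∃ A B, Acts D.e1 y A ∧ Acts D.e2 y B ∧ ¬ IsSquare A.det ∧ ¬ IsSquare B.det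

variable {D}

theorem acts_Y1 {p : SL2 F₁} {q : SL2 F₂} : Acts D.e1 (D.e1 p * D.e2 q) (p : M2 F₁) := by
  have h := (Acts.self (e := D.e1) p).mul (Acts.of_comm (e := D.e1) (c := D.e2 q) fun x => (D.comm x q).symm)
  rwa [mul_one] at h

theorem acts_Y2 {p : SL2 F₁} {q : SL2 F₂} : Acts D.e2 (D.e1 p * D.e2 q) (q : M2 F₂) := by
  have h := (Acts.of_comm (e := D.e2) (c := D.e1 p) fun x => D.comm p x).mul (Acts.self (e := D.e2) q)
  rwa [one_mul] at h

theorem sq_of_mem1 {y : G} (hy : y ∈ D.Y) {A : M2 F₁} (h : Acts D.e1 y A) : IsSquare A.det := by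
  obtain ⟨p, q, rfl⟩ := hy
  rw [← acts_det_iff D.inj1 acts_Y1 h, sl_coe_det]
  exact IsSquare.one

theorem sq_of_mem2 {y : G} (hy : y ∈ D.Y) {B : M2 F₂} (h : Acts D.e2 y B) : IsSquare B.det := by
  obtain ⟨p, q, rfl⟩ := hy
  rw [← acts_det_iff D.inj2 acts_Y2 h, sl_coe_det]
  exact IsSquare.one

theorem DD.notMem {y : G} (h : D.DD y) : y ∉ D.Y := by
  intro hy
  obtain ⟨A, B, h1, h2, h3, h4⟩ := h.acts
  exact h3 (sq_of_mem1 hy h1)

theorem Acts.conj {G : Type*} [Group G] {F : Type*} [Field F] [Finite F] {e : SL2 F →* G} {c d : G}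
    (he : Function.Injective e) (hn : ∀ x, ∃ y, d * e x = e y * d) {A : M2 F} (h : Acts e c A) :
    ∃ B, Acts e (d * c * d⁻¹) B ∧ (IsSquare B.det ↔ IsSquare A.det) := by
  obtain ⟨δ, hδ⟩ := exists_aut he hn
  obtain ⟨g, σ, rfl⟩ := exists_eq δ
  obtain ⟨α, hα⟩ := exists_aut he (c := c) (fun x => by
    obtain ⟨y, hy⟩ := exists_cj h.1 x
    exact ⟨y, h.2 x y hy⟩)
  obtain ⟨a, ha, rfl⟩ := aut_of_acts he hα h
  have h1 := aut_mul (aut_mul hδ hα) (aut_inv hδ)
  have h2 : (conjGL g * fieldAut σ) * conjGL a * (conjGL g * fieldAut σ)⁻¹ =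
      conjGL (g * Matrix.GeneralLinearGroup.map σ.toRingHom a * g⁻¹) := by
    rw [_root_.mul_inv_rev, mul_assoc (conjGL g), fieldAut_mul_conjGL]
    simp only [map_mul, map_inv, mul_assoc, mul_inv_cancel_left]
  rw [h2] at h1
  refine ⟨_, acts_of_aut h1, ?_⟩
  have h3 : (g * Matrix.GeneralLinearGroup.map σ.toRingHom a * g⁻¹).1.det = σ a.1.det := by
    have e1 : (g * Matrix.GeneralLinearGroup.map σ.toRingHom a * g⁻¹).1.det =
        g.1.det * (Matrix.GeneralLinearGroup.map σ.toRingHom a).1.det * g⁻¹.1.det := by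
      rw [Units.val_mul, Units.val_mul, Matrix.det_mul, Matrix.det_mul]
    have e2 : g.1.det * g⁻¹.1.det = 1 := by
      rw [← Matrix.det_mul, ← Units.val_mul, mul_inv_cancel, Units.val_one, Matrix.det_one]
    have e3 : (Matrix.GeneralLinearGroup.map σ.toRingHom a).1.det = σ a.1.det := by
      change (σ.toRingHom.mapMatrix a.1).det = _
      rw [← RingHom.map_det]; rfl
    rw [e1, e3, mul_right_comm, e2, one_mul]
  rw [h3, ha]
  constructor
  · rintro ⟨r, hr⟩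
    exact ⟨σ.symm r, by rw [← map_mul, ← hr, RingEquiv.symm_apply_apply]⟩
  · rintro ⟨r, hr⟩
    exact ⟨σ r, by rw [← map_mul, ← hr]⟩

theorem commj_inv {c j : G} (h : c * j = j * c) : c⁻¹ * j = j * c⁻¹ := by
  rw [inv_mul_eq_iff_eq_mul, ← mul_assoc, h, mul_inv_cancel_right]

theorem commj_mul {c d j : G} (h : c * j = j * c) (h' : d * j = j * d) : (c * d) * j = j * (c * d) := by
  rw [mul_assoc, h', ← mul_assoc, h, mul_assoc]

theorem commj_conj {c d j : G} (h : c * j = j * c) (h' : d * j = j * d) : (c * d * c⁻¹) * j = j * (c * d * c⁻¹) :=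
  commj_mul (commj_mul h h') (commj_inv h)

theorem NS.conjDD [Finite F₁] [Finite F₂] (N : D.NS) {y d : G} (hy : D.DD y) (hd : d * j = j * d) : D.DD (d * y * d⁻¹) := by
  obtain ⟨A, B, h1, h2, h3, h4⟩ := hy.acts
  obtain ⟨A', h5, h6⟩ := Acts.conj D.inj1 (N.n1 d hd) h1
  obtain ⟨B', h7, h8⟩ := Acts.conj D.inj2 (N.n2 d hd) h2
  refine ⟨commj_conj hd hy.comm, ?_, A', B', h5, h7, fun h => h3 (h6.1 h), fun h => h4 (h8.1 h)⟩
  have : d * y * d⁻¹ * (d * y * d⁻¹) = d * (y * y) * d⁻¹ := by group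
  rw [this, hy.sq]; group

theorem isTwo_zpowers_comm {c : G} (hcj : c * j = j * c) : ∀ q ∈ zpowers c, q * j = j * q := by
  intro q hq
  obtain ⟨k, rfl⟩ := mem_zpowers_iff.1 hq
  exact ((show Commute c j from hcj).zpow_left k).eq

/-- a `2`-element and a conjugate of a `DD`-involution in the same `2`-subgroup -/
theorem NS.exists_common [Finite G] [Finite F₁] [Finite F₂] (N : D.NS) (t1 : (2 : F₁) ≠ 0) (t2 : (2 : F₂) ≠ 0)
    {y : G} (hy : D.DD y) {c : G} (hcj : c * j = j * c) (hc : IsTwo c) :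
    ∃ d, d * j = j * d ∧ D.DD (d * y * d⁻¹) ∧ (c ∉ D.Y → c * (d * y * d⁻¹) ∈ D.Y) := by
  obtain ⟨S, hSj, hSc⟩ := N.half.two_central t1 t2 (zpowers c) (isPGroup_zpowers hc) (isTwo_zpowers_comm hcj)
  have hSC : (S : Subgroup G) ≤ centralizer ({j} : Set G) := by
    intro s hs
    rw [mem_centralizer_singleton_iff]
    exact hSj s hs
  obtain ⟨d, hd, hdn⟩ := conj_into S hSC (mem_centralizer_singleton_iff.2 hy.comm) (isTwo_of_sq hy.sq)
  have hdj : d * j = j * d := mem_centralizer_singleton_iff.1 hd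
  have hdd := N.conjDD hy hdj
  exact ⟨d, hdj, hdd, fun hcY => N.half.half S S.2 hSj c (hSc (mem_zpowers c)) _ hdn hcY hdd.notMem⟩

/-- the centralizer of `L₁ L₂` -/
theorem NS.cent_eq [Finite G] [Finite F₁] [Finite F₂] (N : D.NS) (t1 : (2 : F₁) ≠ 0) (t2 : (2 : F₂) ≠ 0)
    {y : G} (hy : D.DD y) {c : G} (hcj : c * j = j * c) (hc1 : ∀ x, c * D.e1 x = D.e1 x * c)
    (hc2 : ∀ y, c * D.e2 y = D.e2 y * c) : c = 1 ∨ c = j := by
  have hc := N.cent c hcj hc1 hc2
  obtain ⟨d, hdj, hdd, himp⟩ := N.exists_common t1 t2 hy hcj hc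
  have hcY : c ∈ D.Y := by
    by_contra hcY
    obtain ⟨A, B, h1, h2, h3, h4⟩ := hdd.acts
    have h5 := (Acts.of_comm (e := D.e1) hc1).mul h1
    rw [one_mul] at h5
    exact h3 (sq_of_mem1 (himp hcY) h5)
  obtain ⟨p, q, rfl⟩ := hcY
  have hp : p = 1 ∨ p = -1 := by
    apply sl_center
    intro x
    apply D.inj1
    have h := hc1 x
    rw [mul_assoc, ← D.comm, ← mul_assoc, ← mul_assoc] at h
    rw [map_mul, map_mul]
    exact mul_right_cancel h
  have hq : q = 1 ∨ q = -1 := by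
    apply sl_center
    intro x
    apply D.inj2
    have h := hc2 x
    rw [mul_assoc, ← mul_assoc (D.e2 x), ← D.comm, mul_assoc] at h
    rw [map_mul, map_mul]
    exact mul_left_cancel h
  rcases hp with rfl | rfl <;> rcases hq with rfl | rfl
  · left; simp
  · right; rw [map_one, one_mul, D.neg2]
  · right; rw [map_one, mul_one, D.neg1]
  · left; rw [D.neg1, D.neg2, D.jj]

/-- the local structure -/
def NS.toLocal [Finite G] [Finite F₁] [Finite F₂] (N : D.NS) (t1 : (2 : F₁) ≠ 0) (t2 : (2 : F₂) ≠ 0)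
    {y : G} (hy : D.DD y) : LocalSL j F₁ F₂ where
  e1 := D.e1
  e2 := D.e2
  inj1 := D.inj1
  inj2 := D.inj2
  comm := D.comm
  neg1 := D.neg1
  neg2 := D.neg2
  cent _ hc h1 h2 := N.cent_eq t1 t2 hy hc h1 h2

/-- commutators are in `Y` -/
theorem NS.comm_mem [Finite G] [Finite F₁] [Finite F₂] (N : D.NS) (t1 : (2 : F₁) ≠ 0) (t2 : (2 : F₂) ≠ 0)
    {y : G} (hy : D.DD y) {c d : G} (hc : c * j = j * c) (hd : d * j = j * d) : c * d * c⁻¹ * d⁻¹ ∈ D.Y := by
  obtain ⟨α, hα⟩ := exists_aut D.inj1 (N.n1 c hc)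
  obtain ⟨β, hβ⟩ := exists_aut D.inj1 (N.n1 d hd)
  obtain ⟨γ, hγ⟩ := exists_aut D.inj2 (N.n2 c hc)
  obtain ⟨δ, hδ⟩ := exists_aut D.inj2 (N.n2 d hd)
  obtain ⟨s, hs⟩ := commutator_inner α β
  obtain ⟨r, hr⟩ := commutator_inner γ δ
  have h1 := aut_mul (aut_mul (aut_mul hα hβ) (aut_inv hα)) (aut_inv hβ)
  have h2 := aut_mul (aut_mul (aut_mul hγ hδ) (aut_inv hγ)) (aut_inv hδ)
  set k := c * d * c⁻¹ * d⁻¹ with hk
  have hkj : k * j = j * k := commj_mul (commj_conj hc hd) (commj_inv hd)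
  have hyj : (D.e1 s * D.e2 r) * j = j * (D.e1 s * D.e2 r) := D.Y_j ⟨s, r, rfl⟩
  have h3 : (D.e1 s * D.e2 r)⁻¹ * k = 1 ∨ (D.e1 s * D.e2 r)⁻¹ * k = j := by
    apply N.cent_eq t1 t2 hy (commj_mul (commj_inv hyj) hkj)
    · intro x
      have e1 : k * D.e1 x = D.e1 (s * x * s⁻¹) * k := by rw [← hs, h1]; group
      have e2 : D.e1 (s * x * s⁻¹) = (D.e1 s * D.e2 r) * D.e1 x * (D.e1 s * D.e2 r)⁻¹ := by
        have := D.conj_conj s x r 1
        rw [map_one, mul_one] at this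
        rw [this]; simp
      rw [mul_assoc, e1, e2]; group
    · intro x
      have e1 : k * D.e2 x = D.e2 (r * x * r⁻¹) * k := by rw [← hr, h2]; group
      have e2 : D.e2 (r * x * r⁻¹) = (D.e1 s * D.e2 r) * D.e2 x * (D.e1 s * D.e2 r)⁻¹ := by
        have := D.conj_conj s 1 r x
        rw [map_one, one_mul] at this
        rw [this]; simp
      rw [mul_assoc, e1, e2]; group
  have h4 : (D.e1 s * D.e2 r)⁻¹ * k ∈ D.Y := by
    rcases h3 with h | h <;> rw [h]
    · exact one_mem _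
    · exact D.j_mem
  exact (mul_mem_cancel_left (inv_mem (show D.e1 s * D.e2 r ∈ D.Y from ⟨s, r, rfl⟩))).1 h4

/-- `2`-elements act as matrices, with determinants of the same type -/
theorem NS.two_acts [Finite G] [Finite F₁] [Finite F₂] (N : D.NS) (t1 : (2 : F₁) ≠ 0) (t2 : (2 : F₂) ≠ 0)
    {y : G} (hy : D.DD y) {c : G} (hcj : c * j = j * c) (hc : IsTwo c) :
    ∃ A B, Acts D.e1 c A ∧ Acts D.e2 c B ∧ (IsSquare A.det ↔ IsSquare B.det) ∧ (IsSquare A.det → c ∈ D.Y) := by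
  obtain ⟨d, hdj, hdd, himp⟩ := N.exists_common t1 t2 hy hcj hc
  by_cases hcY : c ∈ D.Y
  · obtain ⟨p, q, rfl⟩ := hcY
    exact ⟨p, q, acts_Y1, acts_Y2, by rw [sl_coe_det, sl_coe_det]; exact ⟨fun _ => IsSquare.one, fun _ => IsSquare.one⟩,
      fun _ => ⟨p, q, rfl⟩⟩
  · obtain ⟨p, q, hpq⟩ := himp hcY
    obtain ⟨A, B, h1, h2, h3, h4⟩ := hdd.acts
    have e : c = (D.e1 p * D.e2 q) * (d * y * d⁻¹)⁻¹ := by rw [hpq]; group
    have a1 : Acts D.e1 c ((p : M2 F₁) * A.adjugate) := by rw [e]; exact acts_Y1.mul h1.inv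
    have a2 : Acts D.e2 c ((q : M2 F₂) * B.adjugate) := by rw [e]; exact acts_Y2.mul h2.inv
    have d1 : ((p : M2 F₁) * A.adjugate).det = A.det := by
      rw [Matrix.det_mul, sl_coe_det, one_mul, Matrix.det_adjugate]; simp
    have d2 : ((q : M2 F₂) * B.adjugate).det = B.det := by
      rw [Matrix.det_mul, sl_coe_det, one_mul, Matrix.det_adjugate]; simp
    refine ⟨_, _, a1, a2, ?_, ?_⟩
    · rw [d1, d2]; exact ⟨fun h => absurd h h3, fun h => absurd h h4⟩
    · rw [d1]; exact fun h => absurd h h3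

/-- an element of `C(j)` whose square acts as a matrix acts as a matrix -/
theorem acts_of_sq [Finite G] {F : Type*} [Field F] [Finite F] {e : SL2 F →* G} (he : Function.Injective e) {c : G}
    (hn : ∀ x, ∃ y, c * e x = e y * c) (h2 : ∀ m, IsTwo (c ^ m) → ∃ A, Acts e (c ^ m) A)
    (hA : ∃ A, Acts e (c * c) A) : ∃ A, Acts e c A := by
  obtain ⟨α, hα⟩ := exists_aut he hn
  obtain ⟨g, σ, rfl⟩ := exists_eq α
  obtain ⟨m, hm, hcm⟩ := exists_odd_pow c
  obtain ⟨A, hA⟩ := hA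
  obtain ⟨B, hB⟩ := h2 m hcm
  have p2 := aut_pow hα 2
  have pm := aut_pow hα m
  rw [← pow_two] at hA
  obtain ⟨a, -, ha⟩ := aut_of_acts he p2 hA
  obtain ⟨b, -, hb⟩ := aut_of_acts he pm hB
  obtain ⟨g2, hg2⟩ := BridgeField.pow_form g σ 2
  obtain ⟨gm, hgm⟩ := BridgeField.pow_form g σ m
  have s2 : σ ^ 2 = 1 := by
    apply BridgeField.eq_one_of_conjGL _ (g2⁻¹ * a)
    rw [map_mul, map_inv, ← ha, hg2]; group
  have sm : σ ^ m = 1 := by
    apply BridgeField.eq_one_of_conjGL _ (gm⁻¹ * b)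
    rw [map_mul, map_inv, ← hb, hgm]; group
  have s1 : σ = 1 := by
    obtain ⟨k, rfl⟩ := hm
    rw [pow_succ, pow_mul, s2, one_pow, one_mul] at sm
    exact sm
  subst s1
  rw [map_one, mul_one] at hα
  exact ⟨_, acts_of_aut hα⟩

/-- the hypotheses on `C(j)` -/
theorem NS.toHyp [Finite G] [Finite F₁] [Finite F₂] (N : D.NS) (t1 : (2 : F₁) ≠ 0) (t2 : (2 : F₂) ≠ 0)
    {y : G} (hy : D.DD y) : (N.toLocal t1 t2 hy).Hyp := by
  refine ⟨N.n1, N.n2, ?_, ?_, ?_, ?_⟩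
  · intro c d hc hd
    obtain ⟨p, q, hpq⟩ := N.comm_mem t1 t2 hy hc hd
    refine ⟨p, q, ?_⟩
    change c * d = D.e1 p * D.e2 q * d * c
    rw [hpq]; group
  · rintro c hc ⟨A, B, hAB⟩
    obtain ⟨A', hA'⟩ := acts_of_sq D.inj1 (N.n1 c hc) (fun m hm => by
      obtain ⟨A, B, h, -⟩ := N.two_acts t1 t2 hy ((show Commute c j from hc).pow_left m).eq hm
      exact ⟨A, h⟩) ⟨A, hAB.acts1⟩
    obtain ⟨B', hB'⟩ := acts_of_sq D.inj2 (N.n2 c hc) (fun m hm => by
      obtain ⟨A, B, -, h, -⟩ := N.two_acts t1 t2 hy ((show Commute c j from hc).pow_left m).eq hm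
      exact ⟨B, h⟩) ⟨B, hAB.acts2⟩
    exact ⟨A', B', hc, hA', hB'⟩
  · intro c A B hAB
    obtain ⟨m, hm, hcm⟩ := exists_odd_pow c
    have hcj : c * j = j * c := hAB.comm
    obtain ⟨A', B', h1, h2, h3, -⟩ := N.two_acts t1 t2 hy ((show Commute c j from hcj).pow_left m).eq hcm
    have hA := BridgeHyp.acts_pow hAB.acts1 m
    have hB := BridgeHyp.acts_pow hAB.acts2 m
    rw [← isSquare_of_odd_pow' (a := A.det) hm, ← isSquare_of_odd_pow' (a := B.det) hm, ← Matrix.det_pow, ← Matrix.det_pow,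
      acts_det_iff D.inj1 hA h1, acts_det_iff D.inj2 hB h2, h3]
  · obtain ⟨A, B, h1, h2, h3, h4⟩ := hy.acts
    exact ⟨y, A, B, ⟨hy.comm, h1, h2⟩, h3, h4, hy.sq⟩

end Duo

end Cfsg.Agent.H311
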