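import Cfsg.Agent.H311.NS

/-!
# Conjugacy of the outer involutions of `C(j)`
-/

set_option autoImplicit false

namespace Cfsg.Agent.H311

open Matrix Subgroup Cfsg.Agent.GTwoOdd Cfsg.Agent.ClassicalGeometry

section acts

variable {G : Type*} [Group G] {F : Type*} [Field F] {e : SL2 F →* G}

theorem acts_trace (he : Function.Injective e) {y : G} (hy : y * y = 1) {A : M2 F} (h : Acts e y A)
    (hA : ¬ IsSquare A.det) : A.trace = 0 := by
  have h1 := h.mul h
  rw [hy] at h1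
  obtain ⟨a, -, ha⟩ := (Acts.one (e := e)).proportional he h1
  refine trace_of_sq_scalar ha fun b hb => hA ?_
  rw [hb]
  exact isSquare_det_scalar b

theorem exists_conj_acts [Finite F] (h2 : (2 : F) ≠ 0) {y : G} {A A' : M2 F} (h : Acts e y A)
    (ht : A.trace = 0) (ht' : A'.trace = 0) (hA : ¬ IsSquare A.det) (hA' : ¬ IsSquare A'.det) :
    ∃ (p : SL2 F) (k : F), k ≠ 0 ∧ Acts e (e p * y * (e p)⁻¹) (k • A') := by
  obtain ⟨r, hr⟩ := mul_isSquare_of_not hA hA'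
  have d1 : A.det ≠ 0 := fun h0 => hA (by rw [h0]; exact IsSquare.zero)
  have d2 : A'.det ≠ 0 := fun h0 => hA' (by rw [h0]; exact IsSquare.zero)
  have hr0 : r ≠ 0 := by
    rintro rfl
    rw [mul_zero] at hr
    rcases mul_eq_zero.1 hr with h0 | h0
    · exact d1 h0
    · exact d2 h0
  have hk : A.det / r ≠ 0 := div_ne_zero d1 hr0
  obtain ⟨p, hp⟩ := exists_sl_conj h2 (D := A) (D' := (A.det / r) • A') d1 ht (by rw [Matrix.trace_smul, ht', smul_zero])
    (by rw [det_smul2]; field_simp; rw [pow_two, ← hr])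
  refine ⟨p, A.det / r, hk, ?_⟩
  have h3 := ((Acts.self (e := e) p).mul h).mul (Acts.self (e := e) p).inv
  rw [hp] at h3
  have h4 : (A.det / r) • A' * (p : M2 F) * (p : M2 F).adjugate = (A.det / r) • A' := by
    rw [mul_assoc, Matrix.mul_adjugate, sl_coe_det, one_smul, mul_one]
  rwa [h4] at h3

end acts

namespace Duo

variable {G : Type*} [Group G] {j : G} {F₁ F₂ : Type*} [Field F₁] [Field F₂] {D : Duo j F₁ F₂}

/-- the outer involutions are conjugate in `Y` -/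
theorem NS.conj_DD [Finite G] [Finite F₁] [Finite F₂] (N : D.NS) (t1 : (2 : F₁) ≠ 0) (t2 : (2 : F₂) ≠ 0)
    {y y' : G} (hy : D.DD y) (hy' : D.DD y') : ∃ c ∈ D.Y, c * y * c⁻¹ = y' := by
  obtain ⟨A, B, a1, a2, a3, a4⟩ := hy.acts
  obtain ⟨A', B', b1, b2, b3, b4⟩ := hy'.acts
  have tA := acts_trace D.inj1 hy.sq a1 a3
  have tB := acts_trace D.inj2 hy.sq a2 a4
  have tA' := acts_trace D.inj1 hy'.sq b1 b3
  have tB' := acts_trace D.inj2 hy'.sq b2 b4
  obtain ⟨p, k, hk, hp⟩ := exists_conj_acts t1 a1 tA tA' a3 b3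
  obtain ⟨q, l, hl, hq⟩ := exists_conj_acts t2 a2 tB tB' a4 b4
  set c := D.e1 p * D.e2 q with hc
  have hcY : c ∈ D.Y := ⟨p, q, rfl⟩
  have hcj : c * j = j * c := D.Y_j hcY
  have c1 : Acts D.e1 (c * y * c⁻¹) (k • A') := by
    have h1 : Acts D.e1 (D.e2 q) (1 : M2 F₁) := Acts.of_comm fun x => (D.comm x q).symm
    have e : c * y * c⁻¹ = D.e2 q * (D.e1 p * y * (D.e1 p)⁻¹) * (D.e2 q)⁻¹ := by
      rw [hc, D.comm]; group
    rw [e]
    have h2 := (h1.mul hp).mul h1.inv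
    simpa using h2
  have c2 : Acts D.e2 (c * y * c⁻¹) (l • B') := by
    have h1 : Acts D.e2 (D.e1 p) (1 : M2 F₂) := Acts.of_comm fun x => D.comm p x
    have e : c * y * c⁻¹ = D.e1 p * (D.e2 q * y * (D.e2 q)⁻¹) * (D.e1 p)⁻¹ := by
      rw [hc]; group
    rw [e]
    have h2 := (h1.mul hq).mul h1.inv
    simpa using h2
  have k1 := c1.mul b1.inv
  have k2 := c2.mul b2.inv
  rw [Matrix.smul_mul, Matrix.mul_adjugate, smul_smul] at k1 k2
  have hcyj : (c * y * c⁻¹) * j = j * (c * y * c⁻¹) := commj_conj hcj hy.comm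
  rcases N.cent_eq t1 t2 hy (commj_mul hcyj (commj_inv hy'.comm)) (fun x => k1.comm_of_one x) (fun x => k2.comm_of_one x)
    with h | h
  · exact ⟨c, hcY, mul_inv_eq_one.1 h⟩
  · -- conjugate by an anticommuting element
    obtain ⟨r, hr⟩ := exists_anti t1 b1.1 tA'
    have h1 : y' * D.e1 r = D.e1 (-r) * y' := by
      apply b1.2
      rw [Matrix.SpecialLinearGroup.coe_neg, Matrix.neg_mul, hr, neg_neg]
    have h2 : c * y * c⁻¹ = j * y' := mul_inv_eq_iff_eq_mul.1 h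
    refine ⟨D.e1 r * c, mul_mem (D.e1_mem r) hcY, ?_⟩
    have e : D.e1 r * c * y * (D.e1 r * c)⁻¹ = D.e1 r * (c * y * c⁻¹) * (D.e1 r)⁻¹ := by group
    rw [e, h2]
    have h3 : D.e1 r * y' = j * y' * D.e1 r := by
      have h4 : y' * D.e1 r = D.e1 r * j * y' := by rw [h1, D.e1_neg]
      rw [mul_assoc, h4, ← mul_assoc, ← mul_assoc, ← D.e1_j, mul_assoc (D.e1 r), D.jj, mul_one]
    have h5 : D.e1 r * (j * y') = y' * D.e1 r := by
      rw [← mul_assoc, D.e1_j, mul_assoc, h3, ← mul_assoc, ← mul_assoc, D.jj, one_mul]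
    rw [h5]; group

end Duo

end Cfsg.Agent.H311
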