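import Cfsg.Agent.H311.HexCard

/-!
# The non-swap case of S3212
-/

set_option autoImplicit false

namespace Cfsg.Agent.H311

open Matrix Subgroup Cfsg.Agent.GTwoOdd Cfsg.Agent.ClassicalGeometry

theorem card_inf_cent {G : Type*} [Group G] {j : G} (K : Subgroup G) (hj : j ∈ K) :
    Nat.card (K ⊓ centralizer ({j} : Set G) : Subgroup G) = Nat.card (centralizer ({⟨j, hj⟩} : Set K)) := by
  apply Nat.card_congr
  refine ⟨fun x => ⟨⟨x, x.2.1⟩, ?_⟩, fun y => ⟨y, y.1.2, ?_⟩, fun x => rfl, fun y => rfl⟩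
  · rw [mem_centralizer_singleton_iff]
    exact Subtype.ext (mem_centralizer_singleton_iff.1 x.2.2)
  · change ((y : K) : G) ∈ centralizer ({j} : Set G)
    rw [mem_centralizer_singleton_iff]
    exact congrArg Subtype.val (mem_centralizer_singleton_iff.1 y.2)

namespace Duo

variable {G : Type*} [Group G] {j : G} {F₁ F₂ : Type*} [Field F₁] [Field F₂] {D : Duo j F₁ F₂}

/-- the index of a normal subgroup in which the centralizer of `j` has the expected order -/
theorem index_eq [Finite G] [Finite F₁] [Finite F₂] (t1 : (2 : F₁) ≠ 0) {K : Subgroup G} (hK : K.Normal)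
    (hYK : D.Y ≤ K) (hone : ∀ g : G, ∃ k ∈ K, g * j * g⁻¹ = k * j * k⁻¹) {δ : ℕ}
    (hidx : D.Y.relIndex (centralizer ({j} : Set G)) = 2 * δ)
    (hcard : Nat.card (centralizer ({⟨j, hYK D.j_mem⟩} : Set K)) ≤ Nat.card (SL2 F₁) * Nat.card (SL2 F₂))
    (hout : ∃ y ∈ K, y * j = j * y ∧ y ∉ D.Y) : K.index = δ := by
  set C := centralizer ({j} : Set G) with hC
  have htop : C ⊔ K = ⊤ := by
    rw [eq_top_iff]
    intro g _
    obtain ⟨k, hk, hgk⟩ := hone g
    have h1 : k⁻¹ * g ∈ C := by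
      rw [hC, mem_centralizer_singleton_iff]
      have h3 : g * j = (k * j * k⁻¹) * g := by rw [← hgk]; group
      rw [mul_assoc, h3]; group
    have e : g = k * (k⁻¹ * g) := by group
    rw [e]
    exact mul_mem (mem_sup_right hk) (mem_sup_left h1)
  have h1 : K.index = K.relIndex C := by
    rw [← relIndex_sup_right (H := C) (K := K), htop, relIndex_top_right]
  rw [h1, ← inf_relIndex_right]
  have hYC : D.Y ≤ K ⊓ C := le_inf hYK D.Y_le
  have h3 := relIndex_mul_relIndex D.Y (K ⊓ C) C hYC inf_le_right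
  rw [hidx] at h3
  have h4 := Lib.SylowNormalInf.card_mul_relIndex D.Y (K ⊓ C) hYC
  have h5 := D.card_Y t1
  have h6 : D.Y.relIndex (K ⊓ C) = 2 := by
    have hpos : 0 < Nat.card D.Y := Nat.card_pos
    have hle : D.Y.relIndex (K ⊓ C) ≤ 2 := by
      rw [← card_inf_cent K (hYK D.j_mem), ← h4, ← h5] at hcard
      exact Nat.le_of_mul_le_mul_left hcard hpos
    have hne0 : D.Y.relIndex (K ⊓ C) ≠ 0 := by
      intro h
      rw [h, mul_zero] at h4
      have : 0 < Nat.card (K ⊓ C : Subgroup G) := Nat.card_pos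
      omega
    have hne1 : D.Y.relIndex (K ⊓ C) ≠ 1 := by
      intro h
      rw [relIndex_eq_one] at h
      obtain ⟨y, hy, hyj, hyY⟩ := hout
      exact hyY (h ⟨hy, mem_centralizer_singleton_iff.2 hyj⟩)
    omega
  rw [h6] at h3
  exact Nat.eq_of_mul_eq_mul_left (by norm_num : 0 < 2) h3

/-- **the non-swap case** -/
theorem NS.final [Finite G] [Fintype F₁] [Fintype F₂] (N : D.NS) (h1 : Odd (Fintype.card F₁))
    (h2 : Odd (Fintype.card F₂)) (hO : Cfsg.oddCore ↥(centralizer ({j} : Set G)) = ⊥)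
    (hnot : Subgroup.centralizer ({j} : Set G) ⊔ Cfsg.oddCore G ≠ ⊤) {δ : ℕ}
    (hidx : D.Y.relIndex (centralizer ({j} : Set G)) = 2 * δ) :
    ∃ K : Subgroup G, K.Normal ∧ K.index = δ ∧ (Out K F₁ F₂ ∨ Out K F₂ F₁) := by
  have t1 := SLTwoFour.two_ne_zero_of_odd (F := F₁) h1
  have t2 := SLTwoFour.two_ne_zero_of_odd (F := F₂) h2
  obtain ⟨hD, hY⟩ := N.fusion h1 h2 hnot
  obtain ⟨K, hKn, hYK, hs, hinv, hone⟩ := N.simple h1 h2 hD hY hO
  have hout := N.out h1 h2 hD hY hYK hs hinv hone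
  refine ⟨K, hKn, ?_, hout⟩
  have hjj : (⟨j, hYK D.j_mem⟩ : K) * ⟨j, hYK D.j_mem⟩ = 1 := Subtype.ext D.jj
  have hj1 : (⟨j, hYK D.j_mem⟩ : K) ≠ 1 := fun h => D.j_ne_one t1 (congrArg Subtype.val h)
  obtain ⟨g, hg⟩ := hD
  refine D.index_eq t1 hKn hYK hone hidx ?_ ⟨_, hinv _ hg.sq, hg.comm, hg.notMem⟩
  rcases hout with h | h
  · exact h.card_cent t1 t2 hjj hj1
  · rw [mul_comm]
    exact h.card_cent t2 t1 hjj hj1

end Duo

end Cfsg.Agent.H311
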