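import Cfsg.Agent.H311.FactA5
import Cfsg.Agent.GTwoOdd.CloseCent

/-!
# `L₁ L₂` is contained in the subgroup generated by the involutions
-/

set_option autoImplicit false

namespace Cfsg.Agent.H311

open Matrix Subgroup Cfsg.Agent.GTwoOdd Cfsg.Agent.ClassicalGeometry

section SL

variable {F : Type*} [Field F]

theorem sl_inv_mul' (p : SL2 F) : ((p⁻¹ : SL2 F) : M2 F) * (p : M2 F) = 1 := sl_inv_mul p

theorem sl_mul_inv' (p : SL2 F) : (p : M2 F) * ((p⁻¹ : SL2 F) : M2 F) = 1 := sl_mul_inv p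

/-- a normal subgroup of `SL(2,F)` containing all `r α(r)⁻¹`, where `α` is the conjugation by a matrix of trace `0` and
nonsquare determinant -/
theorem sl_top_of_comm [Finite F] (h2 : (2 : F) ≠ 0) (M : Subgroup (SL2 F)) [hM : M.Normal] {A : M2 F} (ht : A.trace = 0)
    (hA : ¬ IsSquare A.det) (h : ∀ r r' : SL2 F, (r' : M2 F) * A = A * r → r * r'⁻¹ ∈ M) : M = ⊤ := by
  have d0 : A.det ≠ 0 := fun h => hA (by rw [h]; exact IsSquare.zero)
  set e : F := -A.det with he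
  have e0 : e ≠ 0 := neg_ne_zero.2 d0
  have e1 : 1 + e ≠ 0 := by
    intro h
    apply hA
    have : A.det = 1 := by rw [he] at h; linear_combination -h
    rw [this]; exact IsSquare.one
  set B : M2 F := !![0, e; 1, 0] with hB
  obtain ⟨p, hp⟩ := exists_sl_conj h2 (D := A) (D' := B) d0 ht (by rw [hB, Matrix.trace_fin_two]; simp)
    (by rw [hB, Matrix.det_fin_two_of, he]; ring)
  have hp' : A * ((p⁻¹ : SL2 F) : M2 F) = ((p⁻¹ : SL2 F) : M2 F) * B := by
    calc A * ((p⁻¹ : SL2 F) : M2 F) = ((p⁻¹ : SL2 F) : M2 F) * ((p : M2 F) * A) * ((p⁻¹ : SL2 F) : M2 F) := by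
          rw [← mul_assoc, sl_inv_mul', one_mul]
      _ = ((p⁻¹ : SL2 F) : M2 F) * B := by rw [hp, mul_assoc, mul_assoc, sl_mul_inv', mul_one]
  have key : ∀ t : F, up t * (lo (t / e))⁻¹ ∈ M := by
    intro t
    have hlu : ((lo (t / e) : SL2 F) : M2 F) * B = B * (up t : SL2 F) := by
      rw [lo_coe, up_coe, hB]
      apply m2_ext <;> simp [Matrix.mul_apply, Fin.sum_univ_two]
      field_simp
    have h1 := h (p⁻¹ * up t * p) (p⁻¹ * lo (t / e) * p) (by
      rw [Matrix.SpecialLinearGroup.coe_mul, Matrix.SpecialLinearGroup.coe_mul, Matrix.SpecialLinearGroup.coe_mul,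
        Matrix.SpecialLinearGroup.coe_mul, mul_assoc, hp, mul_assoc, ← mul_assoc _ B, hlu, ← mul_assoc A, ← mul_assoc A,
        hp', mul_assoc, mul_assoc, mul_assoc])
    have h3 : p⁻¹ * up t * p * (p⁻¹ * lo (t / e) * p)⁻¹ = p⁻¹ * (up t * (lo (t / e))⁻¹) * p⁻¹⁻¹ := by group
    rw [h3] at h1
    have h4 := hM.conj_mem _ h1 p
    have h5 : p * (p⁻¹ * (up t * (lo (t / e))⁻¹) * p⁻¹⁻¹) * p⁻¹ = up t * (lo (t / e))⁻¹ := by group
    rwa [h5] at h4
  let q := QuotientGroup.mk' M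
  have hq : ∀ t : F, q (up t) = q (lo (t / e)) := by
    intro t
    have h1 : q (up t * (lo (t / e))⁻¹) = 1 := (QuotientGroup.eq_one_iff _).2 (key t)
    rw [map_mul, map_inv] at h1
    exact mul_inv_eq_one.1 h1
  have hql : ∀ s : F, q (lo s) = q (up (s * e)) := by
    intro s
    rw [hq, mul_div_cancel_right₀ _ e0]
  have hw : q (up 1 * lo (-1) * up 1) = q (up (1 + -1 * e + 1)) := by
    rw [map_mul, map_mul, hql, ← map_mul, ← map_mul, up_mul, up_mul]
  have hc : ∀ t : F, (up 1 * lo (-1) * up 1 : SL2 F) * up t = lo (-t) * (up 1 * lo (-1) * up 1) := by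
    intro t
    apply Subtype.ext
    simp only [Matrix.SpecialLinearGroup.coe_mul]
    rw [up_coe, up_coe, lo_coe, lo_coe]
    apply m2_ext <;> simp [Matrix.mul_apply, Fin.sum_univ_two]
  have h3 : ∀ t : F, q (up t) = q (lo (-t)) := by
    intro t
    have h4 := congrArg q (hc t)
    generalize (up 1 * lo (-1) * up 1 : SL2 F) = w at h4 hw
    rw [map_mul, map_mul, hw, ← map_mul, up_mul, add_comm, ← up_mul, map_mul] at h4
    exact mul_right_cancel h4
  have hlo : ∀ s : F, lo s ∈ M := by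
    intro s
    have h4 : q (lo (s * e / (1 + e) / e) * (lo (-(s * e / (1 + e))))⁻¹) = 1 := by
      rw [map_mul, map_inv, ← hq, ← h3, mul_inv_cancel]
    have h5 := (QuotientGroup.eq_one_iff _).1 h4
    have h6 : (lo (-(s * e / (1 + e))))⁻¹ = (lo (s * e / (1 + e)) : SL2 F) := by
      rw [inv_eq_iff_mul_eq_one, lo_mul, neg_add_cancel, lo_zero]
    rw [h6, lo_mul] at h5
    have h7 : s * e / (1 + e) / e + s * e / (1 + e) = s := by field_simp
    rwa [h7] at h5
  rw [eq_top_iff]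
  intro x _
  refine mem_of_up_lo M (fun a => ?_) hlo x
  have h4 := mul_mem (key a) (hlo (a / e))
  rwa [inv_mul_cancel_right] at h4

end SL

namespace Duo

variable {G : Type*} [Group G] {j : G} {F₁ F₂ : Type*} [Field F₁] [Field F₂] {D : Duo j F₁ F₂}

/-- the first factor is contained in a normal subgroup containing a `DD` involution -/
theorem e1_mem_of_DD [Finite F₁] (t1 : (2 : F₁) ≠ 0) (K : Subgroup G) [hK : K.Normal] {y : G} (hy : D.DD y) (hyK : y ∈ K)
    (r : SL2 F₁) : D.e1 r ∈ K := by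
  obtain ⟨A, B, a1, a2, a3, a4⟩ := hy.acts
  have h : K.comap D.e1 = ⊤ := by
    have hn : (K.comap D.e1).Normal := hK.comap _
    refine sl_top_of_comm t1 _ (acts_trace D.inj1 hy.sq a1 a3) a3 fun r r' h => ?_
    rw [mem_comap, map_mul, map_inv]
    have h1 := a1.2 r r' h
    have h3 : D.e1 r * (D.e1 r')⁻¹ = (D.e1 r * y * (D.e1 r)⁻¹) * y⁻¹ := by
      have : D.e1 r' = y * D.e1 r * y⁻¹ := eq_mul_inv_of_mul_eq h1.symm
      rw [this]
      have hyi : y⁻¹ = y := inv_eq_of_mul_eq_one_right hy.sq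
      rw [_root_.mul_inv_rev, _root_.mul_inv_rev, inv_inv]
      simp only [hyi, mul_assoc]
    rw [h3]
    exact mul_mem (hK.conj_mem y hyK _) (inv_mem hyK)
  have : r ∈ K.comap D.e1 := by rw [h]; trivial
  exact this

theorem DD.toSw {y : G} (h : D.DD y) : D.sw.DD y := by
  obtain ⟨A, B, h1, h2, h3, h4⟩ := h.acts
  exact ⟨h.comm, h.sq, B, A, h2, h1, h4, h3⟩

theorem Y_le_of_DD [Finite F₁] [Finite F₂] (t1 : (2 : F₁) ≠ 0) (t2 : (2 : F₂) ≠ 0) (K : Subgroup G) [hK : K.Normal] {y : G}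
    (hy : D.DD y) (hyK : y ∈ K) : D.Y ≤ K := by
  rintro _ ⟨r, s, rfl⟩
  exact mul_mem (e1_mem_of_DD t1 K hy hyK r) (e1_mem_of_DD (D := D.sw) t2 K hy.toSw hyK s)

end Duo

end Cfsg.Agent.H311
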