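import Cfsg.Agent.H311.NSGen
import Cfsg.Agent.Lib.SylowNormalInf
import Mathlib.GroupTheory.FixedPointFree

/-!
# The case where both factors are normal in `C(j)`: one class of involutions, the simple normal subgroup
-/

set_option autoImplicit false

namespace Cfsg.Agent.H311

open Matrix Subgroup Cfsg.Agent.GTwoOdd Cfsg.Agent.ClassicalGeometry

section core

variable {G : Type*} [Group G] [Finite G]

/-- an involution with trivial centralizer in a normal subgroup inverts it -/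
theorem inv_of_cent (N : Subgroup G) [hN : N.Normal] {v : G} (hv : v * v = 1) (h : ∀ u ∈ N, u * v = v * u → u = 1) :
    ∀ u ∈ N, v * u * v⁻¹ = u⁻¹ := by
  let φ : N →* N :=
    { toFun := fun u => ⟨v * u * v⁻¹, hN.conj_mem u u.2 v⟩
      map_one' := by apply Subtype.ext; simp
      map_mul' := by
        intro a b
        apply Subtype.ext
        change v * (a * b) * v⁻¹ = (v * a * v⁻¹) * (v * b * v⁻¹)
        group }
  have hφ : MonoidHom.FixedPointFree φ := by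
    intro u hu
    have h1 : v * (u : G) * v⁻¹ = u := congrArg Subtype.val hu
    exact Subtype.ext (h u u.2 (eq_mul_inv_iff_mul_eq.1 h1.symm))
  have h2 : Function.Involutive φ := by
    intro u
    apply Subtype.ext
    change v * (v * (u : G) * v⁻¹) * v⁻¹ = u
    have : v * (v * (u : G) * v⁻¹) * v⁻¹ = (v * v) * (u : G) * (v * v)⁻¹ := by group
    rw [this, hv]; group
  have h3 := hφ.coe_eq_inv_of_involutive h2
  intro u hu
  have h4 := congrFun h3 ⟨u, hu⟩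
  exact congrArg Subtype.val h4

theorem odd_core (u : G) (hu : u ∈ Cfsg.oddCore G) (h : u * u = 1) : u = 1 := by
  have hc := Lib.Cores.pPrimeCore_coprime (G := G) 2
  have h1 : orderOf (⟨u, hu⟩ : Cfsg.oddCore G) ∣ Nat.card (Cfsg.oddCore G) := orderOf_dvd_natCard _
  have h2 : orderOf (⟨u, hu⟩ : Cfsg.oddCore G) ∣ 2 := by
    apply orderOf_dvd_of_pow_eq_one
    apply Subtype.ext
    change u ^ 2 = 1
    rw [pow_two, h]
  have h3 : orderOf (⟨u, hu⟩ : Cfsg.oddCore G) ∣ 1 := by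
    rw [← Nat.coprime_iff_gcd_eq_one.1 hc]
    exact Nat.dvd_gcd h1 h2
  have h4 : (⟨u, hu⟩ : Cfsg.oddCore G) = 1 := orderOf_eq_one_iff.1 (Nat.dvd_one.1 h3)
  exact congrArg Subtype.val h4

/-- `O(C(j)) = 1` implies `C_{O(G)}(j) = 1` -/
theorem core_cent {j : G} (hO : Cfsg.oddCore ↥(centralizer ({j} : Set G)) = ⊥) (u : G) (hu : u ∈ Cfsg.oddCore G)
    (h : u * j = j * u) : u = 1 := by
  have hn := Lib.Cores.pPrimeCore_normal (G := G) 2
  have h1 : (Cfsg.oddCore G).subgroupOf (centralizer ({j} : Set G)) ≤ Cfsg.oddCore ↥(centralizer ({j} : Set G)) := by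
    refine Lib.Cores.le_pPrimeCore (hn.comap _) ?_
    refine (Lib.Cores.pPrimeCore_coprime (G := G) 2).coprime_dvd_left ?_
    rw [← card_map_of_injective (centralizer ({j} : Set G)).subtype_injective, subgroupOf_map_subtype]
    exact card_dvd_of_le inf_le_left
  rw [hO, le_bot_iff] at h1
  have h2 : (⟨u, mem_centralizer_singleton_iff.2 h⟩ : centralizer ({j} : Set G)) ∈
      (Cfsg.oddCore G).subgroupOf (centralizer ({j} : Set G)) := hu
  rw [h1, mem_bot] at h2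
  exact congrArg Subtype.val h2

theorem core_cent_conj {j : G} (hO : Cfsg.oddCore ↥(centralizer ({j} : Set G)) = ⊥) (g : G) (u : G)
    (hu : u ∈ Cfsg.oddCore G) (h : u * (g * j * g⁻¹) = (g * j * g⁻¹) * u) : u = 1 := by
  have hn := Lib.Cores.pPrimeCore_normal (G := G) 2
  have h1 := core_cent hO (g⁻¹ * u * g) (by
    have := hn.conj_mem u hu g⁻¹
    rwa [inv_inv] at this) (by
    have e1 : g⁻¹ * u * g * j = g⁻¹ * (u * (g * j * g⁻¹)) * g := by group
    rw [e1, h]; group)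
  have e : u = g * (g⁻¹ * u * g) * g⁻¹ := by group
  rw [e, h1]; group

/-- two commuting conjugates of `j` whose product is a conjugate of `j`: then `O(G) = 1` -/
theorem core_bot {j : G} (hjj : j * j = 1) (hO : Cfsg.oddCore ↥(centralizer ({j} : Set G)) = ⊥) {g h : G}
    (hgh : j * (g * j * g⁻¹) = h * j * h⁻¹) : Cfsg.oddCore G = ⊥ := by
  have hn := Lib.Cores.pPrimeCore_normal (G := G) 2
  have hsq : ∀ g : G, (g * j * g⁻¹) * (g * j * g⁻¹) = 1 := by
    intro g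
    have : (g * j * g⁻¹) * (g * j * g⁻¹) = g * (j * j) * g⁻¹ := by group
    rw [this, hjj]; group
  rw [eq_bot_iff]
  intro u hu
  have i1 := inv_of_cent (Cfsg.oddCore G) hjj (core_cent hO)
  have i2 := inv_of_cent (Cfsg.oddCore G) (hsq g) (core_cent_conj hO g)
  have i3 := inv_of_cent (Cfsg.oddCore G) (hsq h) (core_cent_conj hO h)
  rw [mem_bot]
  apply odd_core u hu
  have h1 := i3 u hu
  rw [← hgh] at h1
  have h2 : j * (g * j * g⁻¹) * u * (j * (g * j * g⁻¹))⁻¹ = j * ((g * j * g⁻¹) * u * (g * j * g⁻¹)⁻¹) * j⁻¹ := by group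
  rw [h2, i2 u hu] at h1
  have h3 := i1 u⁻¹ (inv_mem hu)
  rw [h3, inv_inv] at h1
  nth_rewrite 2 [h1]
  exact mul_inv_cancel u

end core

namespace Duo

variable {G : Type*} [Group G] [Finite G] {j : G} {F₁ F₂ : Type*} [Field F₁] [Field F₂] {D : Duo j F₁ F₂}

include D in
theorem orderOf_j (t1 : (2 : F₁) ≠ 0) : orderOf j = 2 :=
  orderOf_eq_prime (by rw [pow_two]; exact D.jj) (D.j_ne_one t1)

/-- a noncentral conjugate of `j` in `C(j)` -/
theorem Half.exists_fused [Finite F₁] [Finite F₂] (H : D.Half) (t1 : (2 : F₁) ≠ 0) (t2 : (2 : F₂) ≠ 0)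
    (hnot : Subgroup.centralizer ({j} : Set G) ⊔ Cfsg.oddCore G ≠ ⊤) :
    ∃ g, (g * j * g⁻¹) * j = j * (g * j * g⁻¹) ∧ g * j * g⁻¹ ≠ j := by
  obtain ⟨S, hS, hjS⟩ := H.two_central t1 t2 (zpowers j) (isPGroup_zpowers (isTwo_of_sq D.jj)) (isTwo_zpowers_comm rfl)
  by_contra hcon
  push Not at hcon
  exact hnot (zstar_form S j (D.orderOf_j t1) (hjS (mem_zpowers j)) fun g hg => hcon g (hS _ hg))

/-- the fusion of `j` -/
theorem NS.fusion [Fintype F₁] [Fintype F₂] (N : D.NS) (h1 : Odd (Fintype.card F₁)) (h2 : Odd (Fintype.card F₂))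
    (hnot : Subgroup.centralizer ({j} : Set G) ⊔ Cfsg.oddCore G ≠ ⊤) :
    (∃ g, D.DD (g * j * g⁻¹)) ∧ ∃ g, g * j * g⁻¹ ∈ D.Y ∧ g * j * g⁻¹ ≠ j := by
  have t1 := SLTwoFour.two_ne_zero_of_odd (F := F₁) h1
  have t2 := SLTwoFour.two_ne_zero_of_odd (F := F₂) h2
  have h3 : ∃ g, g * j * g⁻¹ ∈ D.Y ∧ g * j * g⁻¹ ≠ j := by
    by_contra hcon
    push Not at hcon
    obtain ⟨g, hg, hgj⟩ := N.half.exists_fused t1 t2 hnot
    exact hgj (N.factB h1 h2 hcon g hg)
  obtain ⟨g, hg, hgj⟩ := h3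
  exact ⟨N.factA h1 h2 hg hgj, g, hg, hgj⟩

/-- **all involutions are conjugate** -/
theorem NS.one_class [Fintype F₁] [Fintype F₂] (N : D.NS) (h1 : Odd (Fintype.card F₁)) (h2 : Odd (Fintype.card F₂))
    (hD : ∃ g, D.DD (g * j * g⁻¹)) (hY : ∃ g, g * j * g⁻¹ ∈ D.Y ∧ g * j * g⁻¹ ≠ j) (t : G) (ht : t * t = 1)
    (ht1 : t ≠ 1) : ∃ g, g * j * g⁻¹ = t := by
  have t1 := SLTwoFour.two_ne_zero_of_odd (F := F₁) h1
  have t2 := SLTwoFour.two_ne_zero_of_odd (F := F₂) h2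
  have hjj : j * j = 1 := D.jj
  obtain ⟨S, hS, -⟩ := N.half.two_central t1 t2 (zpowers j) (isPGroup_zpowers (isTwo_of_sq D.jj)) (isTwo_zpowers_comm rfl)
  obtain ⟨d, -, hd⟩ := conj_into (C := ⊤) S le_top (mem_top t) (isTwo_of_sq ht)
  obtain ⟨g1, hg1⟩ := hD
  obtain ⟨g2, hg2, hg2'⟩ := hY
  suffices h : ∃ g, g * j * g⁻¹ = d * t * d⁻¹ by
    obtain ⟨g, hg⟩ := h
    refine ⟨d⁻¹ * g, ?_⟩
    have : d⁻¹ * g * j * (d⁻¹ * g)⁻¹ = d⁻¹ * (g * j * g⁻¹) * d := by group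
    rw [this, hg]; group
  have hdd : (d * t * d⁻¹) * (d * t * d⁻¹) = 1 := by
    have : (d * t * d⁻¹) * (d * t * d⁻¹) = d * (t * t) * d⁻¹ := by group
    rw [this, ht]; group
  have hd1 : d * t * d⁻¹ ≠ 1 := by
    intro h
    apply ht1
    have : t = d⁻¹ * (d * t * d⁻¹) * d := by group
    rw [this, h]; group
  have hdj := hS _ hd
  generalize d * t * d⁻¹ = s at *
  by_cases hsY : s ∈ D.Y
  · by_cases hsj : s = j
    · exact ⟨1, by rw [hsj]; group⟩
    · have hgg : (g2 * j * g2⁻¹) * (g2 * j * g2⁻¹) = 1 := by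
        have : (g2 * j * g2⁻¹) * (g2 * j * g2⁻¹) = g2 * (j * j) * g2⁻¹ := by group
        rw [this, hjj]; group
      have hg1' : g2 * j * g2⁻¹ ≠ 1 := by
        intro h
        apply D.j_ne_one t1
        have : j = g2⁻¹ * (g2 * j * g2⁻¹) * g2 := by group
        rw [this, h]; group
      have hinv : ∀ y ∈ D.Y, y * y = 1 → y ≠ 1 → y ≠ j → ∃ a b, D.e1 a * D.e2 b = y ∧ a * a = -1 ∧ b * b = -1 := by
        rintro _ ⟨a, b, rfl⟩ h3 h4 h5
        rcases D.sq_eq_one t1 t2 h3 with h | h | h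
        · exact absurd h h4
        · exact absurd h h5
        · exact ⟨a, b, rfl, h⟩
      obtain ⟨a, b, hab, ha, hb⟩ := hinv _ hg2 hgg hg1' hg2'
      obtain ⟨a', b', hab', ha', hb'⟩ := hinv _ hsY hdd hd1 hsj
      obtain ⟨r, -, hr⟩ := D.conj_of_sq h1 h2 ha ha' hb hb'
      refine ⟨r * g2, ?_⟩
      rw [← hab', ← hr, hab]; group
  · obtain ⟨A, B, a1, a2, a3, a4⟩ := N.two_acts t1 t2 hg1 hdj (isTwo_of_sq hdd)
    have hs : D.DD s := ⟨hdj, hdd, A, B, a1, a2, fun h => hsY (a4 h), fun h => hsY (a4 (a3.2 h))⟩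
    obtain ⟨c, -, hc⟩ := N.conj_DD t1 t2 hg1 hs
    refine ⟨c * g1, ?_⟩
    rw [← hc]; group

/-- `O(G) = 1` -/
theorem NS.core_bot [Fintype F₁] [Fintype F₂] (_N : D.NS) (h1 : Odd (Fintype.card F₁)) (h2 : Odd (Fintype.card F₂))
    (hY : ∃ g, g * j * g⁻¹ ∈ D.Y ∧ g * j * g⁻¹ ≠ j) (hO : Cfsg.oddCore ↥(centralizer ({j} : Set G)) = ⊥) :
    Cfsg.oddCore G = ⊥ := by
  have t1 := SLTwoFour.two_ne_zero_of_odd (F := F₁) h1
  have t2 := SLTwoFour.two_ne_zero_of_odd (F := F₂) h2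
  have hjj : j * j = 1 := D.jj
  obtain ⟨g, hg, hgj⟩ := hY
  have hgg : (g * j * g⁻¹) * (g * j * g⁻¹) = 1 := by
    have : (g * j * g⁻¹) * (g * j * g⁻¹) = g * (j * j) * g⁻¹ := by group
    rw [this, hjj]; group
  have hg1' : g * j * g⁻¹ ≠ 1 := by
    intro h
    apply D.j_ne_one t1
    have : j = g⁻¹ * (g * j * g⁻¹) * g := by group
    rw [this, h]; group
  obtain ⟨a, b, hab⟩ := hg
  rcases D.sq_eq_one t1 t2 (by rw [hab]; exact hgg) with h | h | ⟨ha, hb⟩
  · exact absurd (hab.symm.trans h) hg1'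
  · exact absurd (hab.symm.trans h) hgj
  · obtain ⟨r, -, hr⟩ := D.conj_of_sq h1 h2 ha (a' := -a) (by rw [neg_mul_neg, ha]) hb hb
    refine H311.core_bot hjj hO (g := g) (h := r * g) ?_
    have : r * g * j * (r * g)⁻¹ = r * (g * j * g⁻¹) * r⁻¹ := by group
    rw [this, ← hab, hr, ← j_e1, mul_assoc]

/-- the only involution of `S ∩ K` centralizing `S ∩ K` is `j` -/
theorem NS.central_eq [Fintype F₁] [Fintype F₂] (N : D.NS) (h1 : Odd (Fintype.card F₁)) (h2 : Odd (Fintype.card F₂))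
    {y : G} (hy : D.DD y) {x n : SL2 F₁} {x' n' : SL2 F₂} (hx : x * x = -1) (hn : n * x = -(x * n))
    (hx' : x' * x' = -1) (hn' : n' * x' = -(x' * n')) {z : G} (hzj : z * j = j * z) (hzz : z * z = 1) (hz1 : z ≠ 1)
    (c1 : z * D.e1 x = D.e1 x * z) (c2 : z * D.e1 n = D.e1 n * z) (c3 : z * D.e2 x' = D.e2 x' * z)
    (c4 : z * D.e2 n' = D.e2 n' * z) : z = j := by
  have t1 := SLTwoFour.two_ne_zero_of_odd (F := F₁) h1
  have t2 := SLTwoFour.two_ne_zero_of_odd (F := F₂) h2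
  by_cases hzY : z ∈ D.Y
  · exact (D.eq_of_comm_pairs t1 t2 hx hn hx' hn' hzY c1 c2 c3 c4).resolve_left hz1
  · exfalso
    obtain ⟨A, B, a1, a2, a3, a4⟩ := N.two_acts t1 t2 hy hzj (isTwo_of_sq hzz)
    have hA : ¬ IsSquare A.det := fun h => hzY (a4 h)
    have comm : ∀ r : SL2 F₁, z * D.e1 r = D.e1 r * z → (r : M2 F₁) * A = A * r := by
      intro r hr
      obtain ⟨r', hr'⟩ := exists_cj a1.1 r
      have h3 := a1.2 r r' hr'
      rw [hr] at h3
      have h4 := D.inj1 (mul_right_cancel h3)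
      rw [← h4] at hr'
      exact hr'
    have hsc : ∀ c : F₁, A ≠ c • (1 : M2 F₁) := by
      rintro c rfl
      exact hA (isSquare_det_scalar c)
    have h3 := m2_comm_of_comm hsc (comm x c1) (comm n c2)
    have h4 : x * n = n * x := Subtype.ext (by simpa using h3)
    rw [hn] at h4
    exact sl_eq_neg_self t1 h4

/-- **the normal subgroup generated by the involutions is simple** -/
theorem NS.simple [Fintype F₁] [Fintype F₂] (N : D.NS) (h1 : Odd (Fintype.card F₁)) (h2 : Odd (Fintype.card F₂))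
    (hD : ∃ g, D.DD (g * j * g⁻¹)) (hY : ∃ g, g * j * g⁻¹ ∈ D.Y ∧ g * j * g⁻¹ ≠ j)
    (hO : Cfsg.oddCore ↥(centralizer ({j} : Set G)) = ⊥) :
    ∃ K : Subgroup G, K.Normal ∧ D.Y ≤ K ∧ IsSimpleGroup K ∧ (∀ t : G, t * t = 1 → t ∈ K) ∧
      ∀ g : G, ∃ k ∈ K, g * j * g⁻¹ = k * j * k⁻¹ := by
  have t1 := SLTwoFour.two_ne_zero_of_odd (F := F₁) h1
  have t2 := SLTwoFour.two_ne_zero_of_odd (F := F₂) h2
  have hjj : j * j = 1 := D.jj
  have hj1 := D.j_ne_one t1
  have hcore := N.core_bot h1 h2 hY hO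
  have hcl := N.one_class h1 h2 hD hY
  let K : Subgroup G := normalClosure {j}
  have hKn : K.Normal := inferInstance
  have hjK : j ∈ K := subset_normalClosure rfl
  have hinv : ∀ t : G, t * t = 1 → t ∈ K := by
    intro t ht
    by_cases ht1 : t = 1
    · rw [ht1]; exact one_mem _
    · obtain ⟨g, hg⟩ := hcl t ht ht1
      rw [← hg]
      exact hKn.conj_mem j hjK g
  obtain ⟨g1, hg1⟩ := hD
  have hYK : D.Y ≤ K := Y_le_of_DD t1 t2 K hg1 (hinv _ hg1.sq)
  -- the Sylow subgroup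
  obtain ⟨P₁⟩ : Nonempty (Sylow 2 (SL2 F₁)) := inferInstance
  obtain ⟨P₂⟩ : Nonempty (Sylow 2 (SL2 F₂)) := inferInstance
  obtain ⟨x, n, hx, hn, hxx, hnx⟩ := sl_sylow_pair t1 P₁
  obtain ⟨x', n', hx', hn', hxx', hnx'⟩ := sl_sylow_pair t2 P₂
  obtain ⟨S, hSj, hS⟩ := N.half.two_central t1 t2 (D.pr (P₁ : Subgroup (SL2 F₁)) P₂) (D.pr_isPGroup P₁.2 P₂.2) (by
    rintro q hq
    exact D.Y_j (D.pr_le _ _ hq))
  have hprS : ∀ p ∈ (P₁ : Subgroup (SL2 F₁)), ∀ q ∈ (P₂ : Subgroup (SL2 F₂)), D.e1 p * D.e2 q ∈ (S : Subgroup G) ⊓ K := by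
    intro p hp q hq
    exact ⟨hS ⟨p, hp, q, hq, rfl⟩, hYK ⟨p, q, rfl⟩⟩
  have hone : ∀ g : G, ∃ k ∈ K, g * j * g⁻¹ = k * j * k⁻¹ := by
    intro g
    have hF := Lib.SylowNormalInf.normalizer_inf_sup_eq_top S K
    have hg : g ∈ normalizer (((S : Subgroup G) ⊓ K : Subgroup G) : Set G) ⊔ K := by rw [hF]; trivial
    rw [sup_comm] at hg
    obtain ⟨k, hk, m, hm, rfl⟩ := mem_sup_of_normal_left.1 hg
    refine ⟨k, hk, ?_⟩
    have hz : m * j * m⁻¹ = j := by
      have hmn : ∀ s, s ∈ (S : Subgroup G) ⊓ K → m⁻¹ * s * m ∈ (S : Subgroup G) ⊓ K := by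
        intro s hs
        have h3 := (mem_normalizer_iff.1 (inv_mem hm) s).1 hs
        rwa [inv_inv] at h3
      have hcomm : ∀ s, s ∈ (S : Subgroup G) ⊓ K → (m * j * m⁻¹) * s = s * (m * j * m⁻¹) := by
        intro s hs
        have h3 := hSj _ (hmn s hs).1
        have e1 : (m * j * m⁻¹) * s = m * (j * (m⁻¹ * s * m)) * m⁻¹ := by group
        rw [e1, ← h3]; group
      have hjS : j ∈ (S : Subgroup G) ⊓ K := by
        refine ⟨?_, hjK⟩
        have := hS ⟨x * x, mul_mem hx hx, 1, one_mem _, rfl⟩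
        rwa [hxx, D.neg1, map_one, mul_one] at this
      apply N.central_eq h1 h2 hg1 hxx hnx hxx' hnx'
      · exact hcomm j hjS
      · have : m * j * m⁻¹ * (m * j * m⁻¹) = m * (j * j) * m⁻¹ := by group
        rw [this, hjj]; group
      · intro h
        apply hj1
        have : j = m⁻¹ * (m * j * m⁻¹) * m := by group
        rw [this, h]; group
      · have := hcomm _ (hprS x hx 1 (one_mem _))
        simpa using this
      · have := hcomm _ (hprS n hn 1 (one_mem _))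
        simpa using this
      · have := hcomm _ (hprS 1 (one_mem _) x' hx')
        simpa using this
      · have := hcomm _ (hprS 1 (one_mem _) n' hn')
        simpa using this
    have : k * m * j * (k * m)⁻¹ = k * (m * j * m⁻¹) * k⁻¹ := by group
    rw [this, hz]
  refine ⟨K, hKn, hYK, ?_, hinv, hone⟩
  have hnt : Nontrivial K := ⟨⟨j, hjK⟩, 1, fun h => hj1 (congrArg Subtype.val h)⟩
  refine { toNontrivial := hnt, eq_bot_or_eq_top_of_normal := fun N' hN' => ?_ }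
  by_cases hodd : (Nat.card N').Coprime 2
  · left
    have h3 : N' ≤ Cfsg.pPrimeCore 2 K := Lib.Cores.le_pPrimeCore hN' hodd
    have h4 := Lib.Cores.map_subtype_pPrimeCore (G := G) 2 hKn
    have h5 : Cfsg.pPrimeCore 2 G = ⊥ := hcore
    rw [h5, inf_bot_eq, (map_eq_bot_iff_of_injective _ K.subtype_injective)] at h4
    rw [h4, le_bot_iff] at h3
    exact h3
  · right
    -- an involution of `N'`
    have h2 : 2 ∣ Nat.card N' := by
      rw [Nat.coprime_two_right, Nat.not_odd_iff_even] at hodd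
      exact hodd.two_dvd
    have : Fact (Nat.Prime 2) := ⟨Nat.prime_two⟩
    obtain ⟨t, ht⟩ := exists_prime_orderOf_dvd_card' 2 h2
    have htt : ((t : K) : G) * ((t : K) : G) = 1 := by
      have h3 := pow_orderOf_eq_one t
      rw [ht, pow_two] at h3
      exact congrArg (fun z : N' => ((z : K) : G)) h3
    have ht1 : ((t : K) : G) ≠ 1 := by
      intro h
      have : t = 1 := Subtype.ext (Subtype.ext h)
      rw [this, orderOf_one] at ht
      omega
    obtain ⟨g, hg⟩ := hcl _ htt ht1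
    obtain ⟨k, hk, hgk⟩ := hone g
    -- `j ∈ N'`
    have hjN : (⟨j, hjK⟩ : K) ∈ N' := by
      have h3 := hN'.conj_mem (t : K) t.2 (⟨k, hk⟩ : K)⁻¹
      have e : (⟨k, hk⟩ : K)⁻¹ * (t : K) * (⟨k, hk⟩ : K)⁻¹⁻¹ = ⟨j, hjK⟩ := by
        apply Subtype.ext
        change k⁻¹ * ((t : K) : G) * k⁻¹⁻¹ = j
        rw [← hg, hgk]; group
      rwa [e] at h3
    have hall : ∀ g : G, g * j * g⁻¹ ∈ N'.map K.subtype := by
      intro g
      obtain ⟨k, hk, hgk⟩ := hone g
      refine ⟨⟨k, hk⟩ * ⟨j, hjK⟩ * (⟨k, hk⟩ : K)⁻¹, hN'.conj_mem _ hjN _, ?_⟩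
      rw [hgk]; rfl
    have hle : K ≤ N'.map K.subtype := by
      change closure (Group.conjugatesOfSet {j}) ≤ _
      rw [closure_le]
      intro t ht
      rw [Group.mem_conjugatesOfSet_iff] at ht
      obtain ⟨a, ha, hc⟩ := ht
      rw [Set.mem_singleton_iff] at ha
      subst ha
      obtain ⟨c, hc⟩ := isConj_iff.1 hc
      rw [← hc]
      exact hall c
    rw [eq_top_iff]
    rintro ⟨k, hk⟩ -
    obtain ⟨k', hk', hkk⟩ := hle hk
    have : k' = ⟨k, hk⟩ := Subtype.ext hkk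
    rw [← this]; exact hk'

end Duo

end Cfsg.Agent.H311
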