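import Cfsg.Agent.GTwoOdd.Plug
import Cfsg.Agent.GTwoOdd.HexIdent
import Cfsg.Agent.S0507
import Cfsg.Agent.S0523

/-!
# Recognition of `G₂(q)` and `³D₄(q)` with the given fields
-/

set_option autoImplicit false

namespace Cfsg.Agent.H311

open Cfsg Cfsg.Lie Cfsg.Agent.GTwoOdd Cfsg.Agent.GTwoOdd.Assemble Cfsg.Agent.GTwoOdd.LocalSL Cfsg.Agent.GTwoOdd.MCore
open Cfsg.Agent.GTwoOdd.Hex Cfsg.Agent.GTwoOdd.HexPosOf Cfsg.Agent.TitsThree.RankTwoIdx

universe u

/-- the conclusion with the fields `F`, `K` -/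
def Out (G : Type*) [Group G] (F K : Type*) [Field F] [Field K] : Prop :=
  (Nat.card F = Nat.card K ∧ Nonempty (G ≃* ↥(chevG2.group F))) ∨
    (∃ _ : Fintype K, Nat.card K = Nat.card F ^ 3 ∧ Nonempty (G ≃* ↥(twistedD4 K (Nat.card F))))

theorem out_of_hexDat {G : Type*} [Group G] {F K : Type*} [Field F] [Field K] [Finite F] [Finite K] [IsSimpleGroup G]
    (D : HexDat G F K) (hbr : Commute D.nI (D.nJ * D.nI * D.nJ * D.nI⁻¹ * D.nJ⁻¹))
    (hgen : (D.r2 hbr).U ⊔ ((D.r2 hbr).XI' ⊔ (D.r2 hbr).XJ') = ⊤) : Out G F K := by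
  have hG : ¬ IsMulCommutative G := by
    intro h
    have h1 := D.rel26 1 1
    rw [commutatorElement_eq_one_iff_mul_comm.2 (mul_comm' _ _)] at h1
    have h2 := D.x4_inj (h1.symm.trans D.x4_zero.symm)
    rw [one_mul, neg_eq_zero] at h2
    exact one_ne_zero h2
  obtain ⟨φ, h⟩ := exists_auto D
  by_cases h1 : ∀ t, φ t = t
  · left
    have hF : ∃ a : F, a ≠ 0 ∧ a ≠ 1 := by
      refine ⟨-1, neg_ne_zero.2 one_ne_zero, fun h => D.two ?_⟩
      linear_combination -h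
    refine ⟨?_, HexLie.g2 hG hF D h h1 hbr hgen⟩
    exact Nat.card_congr (Equiv.ofBijective D.βh ⟨D.βh.injective, fun t => by
      obtain ⟨u, hu⟩ := h.fixed t (h1 t)
      exact ⟨u, hu⟩⟩)
  · right
    push Not at h1
    let i := Fintype.ofFinite K
    have hc : Nat.card K = Nat.card F ^ 3 := by
      let _ := D.βh.toAlgebra
      let ψ : K ≃ₐ[F] K := AlgEquiv.ofRingEquiv (f := φ) (fun u => h.beta u)
      rcases HexIdent.frob_cases ψ h.three (fun t ht => by
        obtain ⟨u, hu⟩ := h.fixed t ht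
        exact ⟨u, hu⟩) with h2 | ⟨h2, -⟩
      · obtain ⟨t, ht⟩ := h1
        exact absurd (h2 t) ht
      · exact h2
    have key : ∃ q : ℕ, Fintype.card K = q ^ 3 ∧ Nonempty (G ≃* ↥(twistedD4 K q)) := by
      obtain ⟨q, hq, hK, h2 | h2⟩ := Cfsg.Agent.Hexagon.CubeAut.cube_aut φ h.three h1
      · exact ⟨q, hK, HexLie.d4 hG D h hq hK h2 hbr hgen⟩
      · exact ⟨q, hK, HexLie.d4 hG D (h.inv (ψ := φ.trans φ) fun _ => rfl) hq hK h2 hbr hgen⟩
    obtain ⟨q, hK, e⟩ := key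
    have hq : q = Nat.card F := by
      rw [Nat.card_eq_fintype_card (α := K), hK] at hc
      exact Nat.pow_left_injective (n := 3) (by norm_num) hc
    subst hq
    exact ⟨i, hc, e⟩

theorem out_of_full {G : Type*} [Group G] {t : G} {F1 F2 : Type*} [Field F1] [Field F2] [Finite F1] [Finite F2]
    [Finite G] [IsSimpleGroup G] {L : LocalSL t F1 F2} (h : FullF L) : Out G F1 F2 := by
  obtain ⟨L', s, g, R, S, hR⟩ := FullEnd.exists_full h
  have h1 := S.GG_eq_top fun H hH => Cfsg.Agent.StrongEmb.Strong.exists_isSplit (FullEnd.noncomm L) H hH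
  exact out_of_hexDat (HexFrame.dat S (HexFull.rels S hR)) (HexFrame.br S) (HexLieMain.gen S (HexFull.rels S hR) h1)

theorem out_of_three {G : Type u} [Group G] [Finite G] [IsSimpleGroup G] {t : G} {F1 F2 : Type} [Field F1]
    [Field F2] [Finite F1] [Finite F2] (L : LocalSL t F1 F2) (H : L.Hyp) (h1 : Nat.card F1 = 3)
    (h2 : Nat.card F2 = 3) : Out G F1 F2 := by
  obtain ⟨Q, i, j, k, l, x₁, x₂, y, h⟩ := QThree.exists_case9c L H h1 h2
  obtain ⟨F, i1, i2, hF, ⟨e⟩⟩ := Cfsg.Agent.GTwoThree.recognize h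
  left
  refine ⟨by rw [h1, h2], ?_⟩
  let _ := Fintype.ofFinite F1
  have hc : Fintype.card F = Fintype.card F1 := by rw [hF, ← Nat.card_eq_fintype_card, h1]
  exact ⟨e.trans (Cfsg.Agent.ChevalleyStructure.FieldIso.groupEquiv chevG2 (FiniteField.ringEquivOfCardEq hc))⟩

/-- **recognition** with the given fields -/
theorem recog_out {G : Type u} [Group G] [Finite G] [IsSimpleGroup G] {t : G} {F1 F2 : Type} [Field F1]
    [Field F2] [Finite F1] [Finite F2] (L : LocalSL t F1 F2) (H : L.Hyp) (hcl : OneClass G) :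
    Out G F1 F2 ∨ Out G F2 F1 := by
  have hR : RankTwoTypes.{u} := RankTypes.rankTwoTypes
  have hC : MCore.CentTypes.{u} := MCore.centTypes (fun _ _ _ _ S h => Cfsg.Agent.S0507.result S h)
    (fun _ _ _ _ S h => Cfsg.Agent.S0523.result S h)
  have h1 : ∀ x : G, x * x = 1 → x ≠ 1 → ∃ g, g * t = x * g := by
    intro x hx hx1
    obtain ⟨c, hc⟩ := isConj_iff.1 (hcl t x (AsmRec.orderOf_eq_two L.t_sq H.t_ne_one) (AsmRec.orderOf_eq_two hx hx1))
    refine ⟨c, ?_⟩
    rw [← hc]; group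
  rcases H.final' h1 (AsmRec.mcl hR hC G F1 (odd_card_field H.two_ne1)) (AsmRec.mcl hR hC G F2 (odd_card_field H.two_ne2)) with
    h | h | ⟨hc, h3, hb⟩
  · exact Or.inl (out_of_full h)
  · exact Or.inr (out_of_full h)
  · by_cases h4 : 3 < Nat.card F1
    · exfalso
      obtain ⟨s, g, S⟩ := H.exists_split (isSquare_neg_one_iff hc) h1
      obtain ⟨h5, h6⟩ := hb h4 s g S
      have h7 : ∀ x, ¬ XIn L s (dg F1) (dg F2) (wn F1) (wn F2) g x := by
        intro x X
        obtain ⟨r, hr, -, hrA⟩ := X.exists_rc (AsmRec.mcl hR hC G F1 (odd_card_field H.two_ne1))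
        exact hrA (S.toFrame.rc_le_A1 h5 hr)
      have h8 : ∀ x, ¬ XIn L.sw s (dg F2) (dg F1) (wn F2) (wn F1) g x := by
        intro x X
        obtain ⟨r, hr, -, hrA⟩ := X.exists_rc (AsmRec.mcl hR hC G F2 (odd_card_field H.two_ne2))
        exact hrA (S.toFrame.sw.rc_le_A1 h6 hr)
      exact S.toFrame.not_dvd_index h5 Nat.prime_three h3 (GamPropMain.gamProp G t s g F1 F2 L S h1 hc h3 h4 h5 h6 h7 h8)
    · have h5 : Nat.card F1 = 3 := by
        obtain ⟨k, hk⟩ := h3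
        have h6 : 0 < Nat.card F1 := Nat.card_pos
        omega
      exact Or.inl (out_of_three L H h5 (hc ▸ h5))

end Cfsg.Agent.H311
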