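import Cfsg.Agent.H311.NSMain
import Cfsg.Agent.H311.RecNS

/-!
# The simple normal subgroup is `G₂(q)` or `³D₄(q)`
-/

set_option autoImplicit false

namespace Cfsg.Agent.H311

open Matrix Subgroup Cfsg.Agent.GTwoOdd Cfsg.Agent.ClassicalGeometry

theorem IsTwo.coe_iff {G : Type*} [Group G] {K : Subgroup G} {x : K} : IsTwo x ↔ IsTwo (x : G) := by
  constructor
  · rintro ⟨n, hn⟩
    exact ⟨n, congrArg Subtype.val hn⟩
  · rintro ⟨n, hn⟩
    exact ⟨n, Subtype.ext hn⟩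

/-- transport of `Out` along field isomorphisms -/
theorem Out.congr {G : Type*} [Group G] {E₁ E₂ F₁ F₂ : Type*} [Field E₁] [Field E₂] [Field F₁] [Field F₂]
    (h : Out G E₁ E₂) (f : E₁ ≃+* F₁) (g : E₂ ≃+* F₂) : Out G F₁ F₂ := by
  have c1 : Nat.card E₁ = Nat.card F₁ := Nat.card_congr f.toEquiv
  have c2 : Nat.card E₂ = Nat.card F₂ := Nat.card_congr g.toEquiv
  rcases h with ⟨h1, ⟨e⟩⟩ | ⟨i, h1, ⟨e⟩⟩
  · left
    exact ⟨by rw [← c1, ← c2, h1], ⟨e.trans (Cfsg.Agent.ChevalleyStructure.FieldIso.groupEquiv Cfsg.Lie.chevG2 f)⟩⟩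
  · right
    refine ⟨Fintype.ofEquiv E₂ g.toEquiv, by rw [← c1, ← c2, h1], ?_⟩
    rw [← c1]
    let _ := Fintype.ofEquiv E₂ g.toEquiv
    exact ⟨e.trans (Cfsg.Agent.Hexagon.D4Field.equiv g (Nat.card E₁))⟩

theorem sl_map_coe {E F : Type*} [Field E] [Field F] (f : E ≃+* F) (x : SL2 E) (i k : Fin 2) :
    ((Matrix.SpecialLinearGroup.map f.toRingHom x : SL2 F) : M2 F) i k = f ((x : M2 E) i k) := rfl

theorem sl_map_neg_one {E F : Type*} [Field E] [Field F] (f : E ≃+* F) :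
    Matrix.SpecialLinearGroup.map f.toRingHom (-1 : SL2 E) = (-1 : SL2 F) := by
  apply Subtype.ext
  apply Matrix.ext
  intro i k
  rw [sl_map_coe, Matrix.SpecialLinearGroup.coe_neg, Matrix.SpecialLinearGroup.coe_neg, Matrix.neg_apply,
    Matrix.neg_apply, map_neg, Matrix.SpecialLinearGroup.coe_one, Matrix.SpecialLinearGroup.coe_one]
  congr 1
  by_cases h : i = k
  · subst h; simp
  · rw [Matrix.one_apply_ne h, Matrix.one_apply_ne h, map_zero]

theorem acts_map {G : Type*} [Group G] {E F : Type*} [Field E] [Field F] (f : E ≃+* F) (e : SL2 F →* G) {y : G}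
    {A : M2 F} (hA : Acts e y A) (hA2 : ¬ IsSquare A.det) :
    ∃ A' : M2 E, Acts (e.comp (Matrix.SpecialLinearGroup.map f.toRingHom)) y A' ∧ ¬ IsSquare A'.det := by
  have hd : f (A.map f.symm).det = A.det := by
    rw [Matrix.det_fin_two, Matrix.det_fin_two]
    simp
  refine ⟨A.map f.symm, ⟨?_, ?_⟩, ?_⟩
  · intro h
    apply hA.1
    rw [← hd, h, map_zero]
  · intro x z hxz
    apply hA.2
    have h1 := congrArg (fun M : M2 E => M.map f) hxz
    simp only [Matrix.map_mul] at h1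
    have h2 : (A.map f.symm).map f = A := by
      ext i j
      simp
    rw [h2] at h1
    exact h1
  · rintro ⟨r, hr⟩
    apply hA2
    rw [← hd, hr, map_mul]
    exact ⟨_, rfl⟩

namespace Duo

variable {G : Type*} [Group G] {j : G} {F₁ F₂ : Type*} [Field F₁] [Field F₂]

/-- change of the fields -/
def mapF (D : Duo j F₁ F₂) {E₁ E₂ : Type*} [Field E₁] [Field E₂] (f : E₁ ≃+* F₁) (g : E₂ ≃+* F₂) : Duo j E₁ E₂ where
  e1 := D.e1.comp (Matrix.SpecialLinearGroup.map f.toRingHom)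
  e2 := D.e2.comp (Matrix.SpecialLinearGroup.map g.toRingHom)
  inj1 := by
    intro x y h
    have h1 := D.inj1 h
    apply Subtype.ext
    apply Matrix.map_injective f.injective
    exact congrArg Subtype.val h1
  inj2 := by
    intro x y h
    have h1 := D.inj2 h
    apply Subtype.ext
    apply Matrix.map_injective g.injective
    exact congrArg Subtype.val h1
  comm x y := D.comm _ _
  neg1 := by
    change D.e1 _ = _
    exact (congrArg D.e1 (sl_map_neg_one f)).trans D.neg1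
  neg2 := by
    change D.e2 _ = _
    exact (congrArg D.e2 (sl_map_neg_one g)).trans D.neg2

theorem map_surj {E F : Type*} [Field E] [Field F] (f : E ≃+* F) (y : SL2 F) :
    ∃ x : SL2 E, Matrix.SpecialLinearGroup.map f.toRingHom x = y := by
  refine ⟨Matrix.SpecialLinearGroup.map f.symm.toRingHom y, ?_⟩
  apply Subtype.ext
  apply Matrix.ext
  intro i k
  rw [sl_map_coe, sl_map_coe, RingEquiv.apply_symm_apply]

theorem mapF_Y (D : Duo j F₁ F₂) {E₁ E₂ : Type*} [Field E₁] [Field E₂] (f : E₁ ≃+* F₁) (g : E₂ ≃+* F₂) :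
    (D.mapF f g).Y = D.Y := by
  apply le_antisymm
  · rintro _ ⟨x, y, rfl⟩
    exact ⟨_, _, rfl⟩
  · rintro _ ⟨x, y, rfl⟩
    obtain ⟨x, rfl⟩ := map_surj f x
    obtain ⟨y, rfl⟩ := map_surj g y
    exact ⟨x, y, rfl⟩

theorem NS.mapF {D : Duo j F₁ F₂} (N : D.NS) {E₁ E₂ : Type*} [Field E₁] [Field E₂] (f : E₁ ≃+* F₁) (g : E₂ ≃+* F₂) :
    (D.mapF f g).NS where
  half := ⟨fun c hc y hy => by
      rw [mapF_Y] at hy ⊢
      exact N.half.norm c hc y hy, fun T hT hTj a ha b hb h1 h2 => by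
      rw [mapF_Y] at h1 h2 ⊢
      exact N.half.half T hT hTj a ha b hb h1 h2⟩
  n1 c hc x := by
    obtain ⟨y, hy⟩ := N.n1 c hc (Matrix.SpecialLinearGroup.map f.toRingHom x)
    obtain ⟨y, rfl⟩ := map_surj f y
    exact ⟨y, hy⟩
  n2 c hc x := by
    obtain ⟨y, hy⟩ := N.n2 c hc (Matrix.SpecialLinearGroup.map g.toRingHom x)
    obtain ⟨y, rfl⟩ := map_surj g y
    exact ⟨y, hy⟩
  cent c hc h1 h2 := N.cent c hc (fun x => by
      obtain ⟨x, rfl⟩ := map_surj f x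
      exact h1 x) (fun x => by
      obtain ⟨x, rfl⟩ := map_surj g x
      exact h2 x)

/-- restriction to a subgroup -/
def res (D : Duo j F₁ F₂) (K : Subgroup G) (hK : D.Y ≤ K) : Duo (⟨j, hK D.j_mem⟩ : K) F₁ F₂ where
  e1 := D.e1.codRestrict K fun x => hK (D.e1_mem x)
  e2 := D.e2.codRestrict K fun x => hK (D.e2_mem x)
  inj1 := fun x y h => D.inj1 (congrArg Subtype.val h)
  inj2 := fun x y h => D.inj2 (congrArg Subtype.val h)
  comm x y := Subtype.ext (D.comm x y)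
  neg1 := Subtype.ext D.neg1
  neg2 := Subtype.ext D.neg2

theorem mem_res_Y {D : Duo j F₁ F₂} {K : Subgroup G} {hK : D.Y ≤ K} {x : K} : x ∈ (D.res K hK).Y ↔ (x : G) ∈ D.Y := by
  constructor
  · rintro ⟨a, b, rfl⟩
    exact ⟨a, b, rfl⟩
  · rintro ⟨a, b, h⟩
    exact ⟨a, b, Subtype.ext h⟩

theorem NS.res {D : Duo j F₁ F₂} (N : D.NS) {K : Subgroup G} (hK : D.Y ≤ K) : (D.res K hK).NS where
  half := ⟨fun c hc y hy => by
      rw [mem_res_Y] at hy ⊢
      exact N.half.norm c (congrArg Subtype.val hc) y hy, fun T hT hTj a ha b hb h1 h2 => by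
      rw [mem_res_Y] at h1 h2 ⊢
      refine N.half.half (T.map K.subtype) (hT.map _) ?_ a ⟨a, ha, rfl⟩ b ⟨b, hb, rfl⟩ h1 h2
      rintro _ ⟨t, ht, rfl⟩
      exact congrArg Subtype.val (hTj t ht)⟩
  n1 c hc x := by
    obtain ⟨y, hy⟩ := N.n1 c (congrArg Subtype.val hc) x
    exact ⟨y, Subtype.ext hy⟩
  n2 c hc x := by
    obtain ⟨y, hy⟩ := N.n2 c (congrArg Subtype.val hc) x
    exact ⟨y, Subtype.ext hy⟩
  cent c hc h1 h2 := IsTwo.coe_iff.2 (N.cent c (congrArg Subtype.val hc)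
    (fun x => congrArg Subtype.val (h1 x)) (fun x => congrArg Subtype.val (h2 x)))

/-- an involution outside `Y` is of type `DD` -/
theorem NS.DD_of_invol [Finite G] [Finite F₁] [Finite F₂] {D : Duo j F₁ F₂} (N : D.NS) (t1 : (2 : F₁) ≠ 0)
    (t2 : (2 : F₂) ≠ 0) {y : G} (hy : D.DD y) {s : G} (hsj : s * j = j * s) (hss : s * s = 1) (hsY : s ∉ D.Y) : D.DD s := by
  obtain ⟨A, B, a1, a2, a3, a4⟩ := N.two_acts t1 t2 hy hsj (isTwo_of_sq hss)
  exact ⟨hsj, hss, A, B, a1, a2, fun h => hsY (a4 h), fun h => hsY (a4 (a3.2 h))⟩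

theorem DD.res {D : Duo j F₁ F₂} {K : Subgroup G} (hK : D.Y ≤ K) {y : G} (hy : D.DD y) (hyK : y ∈ K) :
    (D.res K hK).DD ⟨y, hyK⟩ := by
  obtain ⟨A, B, a1, a2, a3, a4⟩ := hy.acts
  refine ⟨Subtype.ext hy.comm, Subtype.ext hy.sq, A, B, ⟨a1.1, fun x z hxz => Subtype.ext (a1.2 x z hxz)⟩,
    ⟨a2.1, fun x z hxz => Subtype.ext (a2.2 x z hxz)⟩, a3, a4⟩

theorem DD.mapF {D : Duo j F₁ F₂} {E₁ E₂ : Type*} [Field E₁] [Field E₂] (f : E₁ ≃+* F₁) (g : E₂ ≃+* F₂) {y : G}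
    (hy : D.DD y) : (D.mapF f g).DD y := by
  obtain ⟨A, B, a1, a2, a3, a4⟩ := hy.acts
  obtain ⟨A', b1, b3⟩ := acts_map f D.e1 a1 a3
  obtain ⟨B', b2, b4⟩ := acts_map g D.e2 a2 a4
  exact ⟨hy.comm, hy.sq, A', B', b1, b2, b3, b4⟩

/-- **recognition of `K`** -/
theorem NS.out [Finite G] [Fintype F₁] [Fintype F₂] {D : Duo j F₁ F₂} (N : D.NS) (h1 : Odd (Fintype.card F₁))
    (h2 : Odd (Fintype.card F₂)) (hD : ∃ g, D.DD (g * j * g⁻¹)) (hY : ∃ g, g * j * g⁻¹ ∈ D.Y ∧ g * j * g⁻¹ ≠ j)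
    {K : Subgroup G} (hYK : D.Y ≤ K) (hs : IsSimpleGroup K) (hinv : ∀ t : G, t * t = 1 → t ∈ K)
    (hone : ∀ g : G, ∃ k ∈ K, g * j * g⁻¹ = k * j * k⁻¹) : Out K F₁ F₂ ∨ Out K F₂ F₁ := by
  have t1 := SLTwoFour.two_ne_zero_of_odd (F := F₁) h1
  have t2 := SLTwoFour.two_ne_zero_of_odd (F := F₂) h2
  obtain ⟨E₁, i1, i2, ⟨f⟩⟩ := Cfsg.Agent.PermutationGroups.FieldCoord.exists_small_field F₁
  obtain ⟨E₂, i3, i4, ⟨g⟩⟩ := Cfsg.Agent.PermutationGroups.FieldCoord.exists_small_field F₂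
  have s1 : (2 : E₁) ≠ 0 := by
    intro h
    apply t1
    have := congrArg f h
    rwa [map_zero, map_ofNat] at this
  have s2 : (2 : E₂) ≠ 0 := by
    intro h
    apply t2
    have := congrArg g h
    rwa [map_zero, map_ofNat] at this
  obtain ⟨g1, hg1⟩ := hD
  have hcl := N.one_class h1 h2 ⟨g1, hg1⟩ hY
  let D' := (D.res K hYK).mapF f g
  have N' : D'.NS := (N.res hYK).mapF f g
  have hy' : D'.DD ⟨g1 * j * g1⁻¹, hinv _ hg1.sq⟩ := (hg1.res hYK _).mapF f g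
  have hOC : Assemble.OneClass K := by
    intro x y hx hy
    have key : ∀ x : K, orderOf x = 2 → IsConj (⟨j, hYK D.j_mem⟩ : K) x := by
      intro x hx
      have hxx : (x : G) * x = 1 := by
        have h3 := pow_orderOf_eq_one x
        rw [hx, pow_two] at h3
        exact congrArg Subtype.val h3
      have hx1 : (x : G) ≠ 1 := by
        intro h
        have : x = 1 := Subtype.ext h
        rw [this, orderOf_one] at hx
        omega
      obtain ⟨c, hc⟩ := hcl _ hxx hx1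
      obtain ⟨k, hk, hck⟩ := hone c
      rw [isConj_iff]
      refine ⟨⟨k, hk⟩, Subtype.ext ?_⟩
      change k * j * k⁻¹ = x
      rw [← hck, hc]
    exact (key x hx).symm.trans (key y hy)
  rcases recog_out (N'.toLocal s1 s2 hy') (N'.toHyp s1 s2 hy') hOC with h | h
  · exact Or.inl (h.congr f g)
  · exact Or.inr (h.congr g f)

end Duo

end Cfsg.Agent.H311
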