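import Cfsg.Agent.H311.NSMain
import Cfsg.Agent.TypeLFive.CentThree
import Cfsg.Agent.Classification.DihTypeAExists

/-!
# The local structure from the hypotheses of S3212
-/

set_option autoImplicit false

namespace Cfsg.Agent.H311

open Matrix Subgroup Cfsg.Agent.GTwoOdd Cfsg.Agent.ClassicalGeometry

/-- `SL(2,F)` with a noncentral... : the field has odd characteristic if there is a central involution -/
theorem two_ne_of_central {G : Type*} [Group G] {F : Type*} [Field F] {L : Subgroup G} (e : ↥L ≃* SL2 F) {j : G}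
    (hjL : j ∈ L) (hj1 : j ≠ 1) (hjc : ∀ x ∈ L, j * x = x * j) : (2 : F) ≠ 0 := by
  intro h2
  have h1 : e ⟨j, hjL⟩ = 1 ∨ e ⟨j, hjL⟩ = -1 := by
    apply sl_center
    intro y
    obtain ⟨x, rfl⟩ := e.surjective y
    rw [← map_mul, ← map_mul]
    congr 1
    exact Subtype.ext (hjc x x.2)
  have h3 : (-1 : SL2 F) = 1 := by
    apply Subtype.ext
    rw [Matrix.SpecialLinearGroup.coe_neg, Matrix.SpecialLinearGroup.coe_one]
    have h4 : (1 : F) = -1 := by linear_combination h2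
    apply m2_ext <;> simp [← h4]
  have h5 : e ⟨j, hjL⟩ = 1 := by
    rcases h1 with h | h
    · exact h
    · rw [h, h3]
  apply hj1
  have h6 : (⟨j, hjL⟩ : L) = 1 := e.injective (by rw [h5, map_one])
  exact congrArg Subtype.val h6

theorem odd_of_two_ne {F : Type*} [Field F] [Fintype F] (h : (2 : F) ≠ 0) : Odd (Fintype.card F) := by
  rw [Nat.odd_iff]
  apply FiniteField.odd_card_of_char_ne_two
  intro hc
  apply h
  have := ringChar.Nat.cast_ringChar (R := F)
  rw [hc] at this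
  exact_mod_cast this

/-- odd powers of a `2`-element generate it -/
theorem mem_of_odd_pow {G : Type*} [Group G] {x : G} (hx : IsTwo x) {m : ℕ} (hm : Odd m) (H : Subgroup G)
    (h : x ^ m ∈ H) : x ∈ H := by
  obtain ⟨n, hn⟩ := hx
  have hc : Nat.Coprime m (2 ^ n) := Nat.Coprime.pow_right _ (Nat.coprime_two_right.2 hm)
  have h1 : x ^ (Nat.gcd m (2 ^ n)) ∈ H := by
    rw [← zpow_natCast, Nat.gcd_eq_gcd_ab, _root_.zpow_add, _root_.zpow_mul, _root_.zpow_mul, zpow_natCast, zpow_natCast, hn,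
      _root_.one_zpow, mul_one]
    exact H.zpow_mem h _
  rwa [Nat.coprime_iff_gcd_eq_one.1 hc, pow_one] at h1

/-- in a group with a normal subgroup of index `2 δ`, `δ` odd -/
theorem mul_mem_of_index {C : Type*} [Group C] [Finite C] (N : Subgroup C) [N.Normal] {δ : ℕ} (hδ : Odd δ)
    (hN : N.index = 2 * δ) (T : Subgroup C) (hT : IsPGroup 2 T) {a b : C} (ha : a ∈ T) (hb : b ∈ T) (haN : a ∉ N)
    (hbN : b ∉ N) : a * b ∈ N := by
  let π := QuotientGroup.mk' N
  have hP : IsPGroup 2 (T.map π) := hT.map _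
  have : Fact (Nat.Prime 2) := ⟨Nat.prime_two⟩
  obtain ⟨k, hk⟩ := IsPGroup.iff_card.1 hP
  have h1 : Nat.card (T.map π) ∣ 2 * δ := by
    rw [← hN]
    exact Subgroup.card_subgroup_dvd_card _
  rw [hk] at h1
  have hk1 : k ≤ 1 := by
    by_contra hcon
    push Not at hcon
    have h2 : 2 ^ 2 ∣ 2 * δ := (pow_dvd_pow 2 hcon).trans h1
    obtain ⟨c, hc⟩ := h2
    obtain ⟨d, hd⟩ := hδ
    omega
  have hne : ∀ x : C, π x = 1 ↔ x ∈ N := fun x => QuotientGroup.eq_one_iff x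
  have hk2 : Nat.card (T.map π) = 2 := by
    interval_cases k
    · exfalso
      rw [pow_zero] at hk
      have h3 := Subgroup.eq_bot_of_card_eq _ hk
      have h4 : π a ∈ T.map π := ⟨a, ha, rfl⟩
      rw [h3, mem_bot, hne] at h4
      exact haN h4
    · rw [hk, pow_one]
  have h3 : (⊥ : Subgroup (T.map π)).index = 2 := by rw [index_bot, hk2]
  have h4 := Subgroup.mul_mem_iff_of_index_two h3 (a := ⟨π a, ⟨a, ha, rfl⟩⟩) (b := ⟨π b, ⟨b, hb, rfl⟩⟩)
  have h5 : (⟨π a, ⟨a, ha, rfl⟩⟩ : T.map π) ∉ (⊥ : Subgroup (T.map π)) := by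
    rw [mem_bot]
    intro h
    exact haN ((hne a).1 (congrArg Subtype.val h))
  have h6 : (⟨π b, ⟨b, hb, rfl⟩⟩ : T.map π) ∉ (⊥ : Subgroup (T.map π)) := by
    rw [mem_bot]
    intro h
    exact hbN ((hne b).1 (congrArg Subtype.val h))
  have h7 := h4.2 ⟨fun h => absurd h h5, fun h => absurd h h6⟩
  rw [mem_bot] at h7
  have h8 : π a * π b = 1 := congrArg Subtype.val h7
  rwa [← map_mul, hne] at h8

namespace Duo

variable {G : Type*} [Group G] {j : G} {F₁ F₂ : Type*} [Field F₁] [Field F₂] {D : Duo j F₁ F₂}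

/-- `Half` from the index -/
theorem half_of_index [Finite G] (hn : ∀ c, c * j = j * c → ∀ y ∈ D.Y, c * y * c⁻¹ ∈ D.Y) {δ : ℕ} (hδ : Odd δ)
    (hidx : D.Y.relIndex (centralizer ({j} : Set G)) = 2 * δ) : D.Half := by
  refine ⟨hn, fun T hT hTj a ha b hb haY hbY => ?_⟩
  set C := centralizer ({j} : Set G) with hC
  have hN : (D.Y.subgroupOf C).Normal := by
    refine ⟨fun y hy c => ?_⟩
    exact hn c (mem_centralizer_singleton_iff.1 c.2) y hy
  have hTC : T ≤ C := fun t ht => mem_centralizer_singleton_iff.2 (hTj t ht)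
  have h := mul_mem_of_index (D.Y.subgroupOf C) hδ hidx (T.subgroupOf C)
    (hT.comap_of_injective C.subtype C.subtype_injective) (a := ⟨a, hTC ha⟩) (b := ⟨b, hTC hb⟩) ha hb haY hbY
  exact h

theorem conj_mem_of_two [Finite G] {F : Type*} [Field F] [Fintype F] (hF : Odd (Fintype.card F)) {Y H : Subgroup G}
    (hYH : Y ≤ H) (hidx : Y.relIndex H = 2) {c : G} (hH : ∀ h ∈ H, c * h * c⁻¹ ∈ H) (e : SL2 F →* G)
    (he : ∀ x, e x ∈ Y) (x : SL2 F) : c * e x * c⁻¹ ∈ Y := by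
  have hN : (Y.subgroupOf H).Normal := normal_of_index_eq_two hidx
  have hcard : Nat.card (H ⧸ Y.subgroupOf H) = 2 := hidx
  have hP : IsPGroup 2 (H ⧸ Y.subgroupOf H) := IsPGroup.of_card (n := 1) (by rw [hcard, pow_one])
  let f : SL2 F →* H :=
    { toFun := fun x => ⟨c * e x * c⁻¹, hH _ (hYH (he x))⟩
      map_one' := by apply Subtype.ext; simp
      map_mul' := by
        intro a b
        apply Subtype.ext
        change c * e (a * b) * c⁻¹ = (c * e a * c⁻¹) * (c * e b * c⁻¹)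
        rw [map_mul]; group }
  have h3 := Cfsg.Agent.TwoFusion.SLTwoFacts.hom_eq_one hF hP ((QuotientGroup.mk' (Y.subgroupOf H)).comp f) x
  exact (QuotientGroup.eq_one_iff (f x)).1 h3

/-- a subgroup `H` normal in `C(j)` containing `Y` with index `2`: then `Y` is normal in `C(j)` -/
theorem normal_of_two [Finite G] [Fintype F₁] [Fintype F₂] (h1 : Odd (Fintype.card F₁)) (h2 : Odd (Fintype.card F₂))
    {H : Subgroup G} (hYH : D.Y ≤ H) (hidx : D.Y.relIndex H = 2) {c : G} (hH : ∀ h ∈ H, c * h * c⁻¹ ∈ H) :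
    ∀ y ∈ D.Y, c * y * c⁻¹ ∈ D.Y := by
  rintro _ ⟨x, y, rfl⟩
  have e : c * (D.e1 x * D.e2 y) * c⁻¹ = (c * D.e1 x * c⁻¹) * (c * D.e2 y * c⁻¹) := by group
  rw [e]
  exact mul_mem (conj_mem_of_two h1 hYH hidx hH D.e1 D.e1_mem x) (conj_mem_of_two h2 hYH hidx hH D.e2 D.e2_mem y)

/-- `c` normalizes both factors -/
def Nm (D : Duo j F₁ F₂) (c : G) : Prop := (∀ x, ∃ y, c * D.e1 x = D.e1 y * c) ∧ ∀ x, ∃ y, c * D.e2 x = D.e2 y * c

/-- `c` exchanges the factors -/
def Sw (D : Duo j F₁ F₂) (c : G) : Prop := (∀ x, ∃ y, c * D.e1 x = D.e2 y * c) ∧ ∀ x, ∃ y, c * D.e2 x = D.e1 y * c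

theorem Y_eq_cj (hn : ∀ c, c * j = j * c → ∀ y ∈ D.Y, c * y * c⁻¹ ∈ D.Y) (c : G) (hc : c * j = j * c) :
    D.Y = (D.cj c hc).Y := by
  rw [cj_Y]
  apply le_antisymm
  · intro y hy
    refine ⟨c⁻¹ * y * c, ?_, ?_⟩
    · have := hn c⁻¹ (commj_inv hc) y hy
      rwa [inv_inv] at this
    · change c * (c⁻¹ * y * c) * c⁻¹ = y
      group
  · rintro _ ⟨y, hy, rfl⟩
    exact hn c hc y hy

theorem nm_or_sw [Fintype F₁] [Fintype F₂] (h1 : Odd (Fintype.card F₁)) (h2 : Odd (Fintype.card F₂))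
    (hn : ∀ c, c * j = j * c → ∀ y ∈ D.Y, c * y * c⁻¹ ∈ D.Y) (c : G) (hc : c * j = j * c) : D.Nm c ∨ D.Sw c := by
  have hu := D.unique (D.cj c hc) h1 h2 h1 h2 (Y_eq_cj hn c hc)
  have e1 : ∀ x, c * D.e1 x = (D.cj c hc).e1 x * c := by
    intro x
    change c * D.e1 x = (c * D.e1 x * c⁻¹) * c
    group
  have e2 : ∀ x, c * D.e2 x = (D.cj c hc).e2 x * c := by
    intro x
    change c * D.e2 x = (c * D.e2 x * c⁻¹) * c
    group
  rcases hu with ⟨h3, h4⟩ | ⟨h3, h4⟩
  · left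
    constructor
    · intro x
      have : (D.cj c hc).e1 x ∈ D.e1.range := by rw [h3]; exact ⟨x, rfl⟩
      obtain ⟨y, hy⟩ := this
      exact ⟨y, by rw [e1, hy]⟩
    · intro x
      have : (D.cj c hc).e2 x ∈ D.e2.range := by rw [h4]; exact ⟨x, rfl⟩
      obtain ⟨y, hy⟩ := this
      exact ⟨y, by rw [e2, hy]⟩
  · right
    constructor
    · intro x
      have : (D.cj c hc).e1 x ∈ D.e2.range := by rw [h4]; exact ⟨x, rfl⟩
      obtain ⟨y, hy⟩ := this
      exact ⟨y, by rw [e1, hy]⟩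
    · intro x
      have : (D.cj c hc).e2 x ∈ D.e1.range := by rw [h3]; exact ⟨x, rfl⟩
      obtain ⟨y, hy⟩ := this
      exact ⟨y, by rw [e2, hy]⟩

/-- elements of `Y` centralizing `Y` -/
theorem eq_of_cent_Y {c : G} (hcY : c ∈ D.Y) (hc1 : ∀ x, c * D.e1 x = D.e1 x * c)
    (hc2 : ∀ y, c * D.e2 y = D.e2 y * c) : c = 1 ∨ c = j := by
  obtain ⟨p, q, rfl⟩ := hcY
  have hp : p = 1 ∨ p = -1 := sl_center fun x => D.comm1_iff.1 (hc1 x)
  have hq : q = 1 ∨ q = -1 := sl_center fun x => D.comm2_iff.1 (hc2 x)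
  rcases hp with rfl | rfl <;> rcases hq with rfl | rfl
  · left; simp
  · right; rw [map_one, one_mul, D.neg2]
  · right; rw [map_one, mul_one, D.neg1]
  · left; rw [D.neg1, D.neg2, D.jj]

/-- **elements of `C(j)` centralizing `Y` are `2`-elements** -/
theorem cent_two [Finite G] (hn : ∀ c, c * j = j * c → ∀ y ∈ D.Y, c * y * c⁻¹ ∈ D.Y)
    {δ : ℕ} (hδ : Odd δ) (hidx : D.Y.relIndex (centralizer ({j} : Set G)) = 2 * δ)
    (hO : Cfsg.oddCore ↥(centralizer ({j} : Set G)) = ⊥) (c : G) (hc : c * j = j * c)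
    (hc1 : ∀ x, c * D.e1 x = D.e1 x * c) (hc2 : ∀ y, c * D.e2 y = D.e2 y * c) : IsTwo c := by
  set C := centralizer ({j} : Set G) with hC
  let Y := D.Y.subgroupOf C
  have hN : Y.Normal := ⟨fun y hy c => hn c (mem_centralizer_singleton_iff.1 c.2) y hy⟩
  have hYidx : Y.index = 2 * δ := hidx
  obtain ⟨f, ⟨u, hu⟩, hfY, -⟩ := Classification.DihTypeAExists.exists_sign Y hδ hYidx
  have hfi : f.ker.index = 2 := by
    rw [index_ker]
    have : f.range = ⊤ := by
      rw [eq_top_iff]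
      intro s _
      rcases Int.units_eq_one_or s with rfl | rfl
      · exact one_mem _
      · exact ⟨u, hu⟩
    rw [this]
    simp
  -- the subgroup `W`
  have hjC : j ∈ C := mem_centralizer_singleton_iff.2 rfl
  let W : Subgroup C := f.ker ⊓ centralizer (Y : Set C)
  have hWn : W.Normal := inferInstance
  have hYk : Y ≤ f.ker := fun y hy => MonoidHom.mem_ker.2 (hfY y hy)
  have hrel : Y.relIndex f.ker = δ := by
    have h3 := relIndex_mul_index hYk
    rw [hfi, hYidx, mul_comm] at h3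
    exact Nat.eq_of_mul_eq_mul_left (by norm_num : 0 < 2) h3
  have hpow : ∀ w ∈ f.ker, w ^ δ ∈ Y := by
    intro w hw
    have h3 := pow_index_mem (Y.subgroupOf f.ker) ⟨w, hw⟩
    have h4 : (Y.subgroupOf f.ker).index = δ := hrel
    rw [h4] at h3
    exact h3
  have hcentW : ∀ w ∈ W, ∀ y ∈ Y, y * w = w * y := fun w hw y hy => mem_centralizer_iff.1 hw.2 y hy
  have hYW : ∀ w ∈ W, w ∈ Y → w ∈ zpowers (⟨j, hjC⟩ : C) := by
    intro w hw hwY
    have h3 : (w : G) = 1 ∨ (w : G) = j := by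
      apply D.eq_of_cent_Y hwY
      · intro x
        have h4 := hcentW w hw ⟨D.e1 x, D.Y_le (D.e1_mem x)⟩ (D.e1_mem x)
        exact (congrArg Subtype.val h4).symm
      · intro x
        have h4 := hcentW w hw ⟨D.e2 x, D.Y_le (D.e2_mem x)⟩ (D.e2_mem x)
        exact (congrArg Subtype.val h4).symm
    rcases h3 with h3 | h3
    · have : w = 1 := Subtype.ext h3
      rw [this]; exact one_mem _
    · have : w = ⟨j, hjC⟩ := Subtype.ext h3
      rw [this]; exact mem_zpowers _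
  obtain ⟨P⟩ : Nonempty (Sylow 2 W) := inferInstance
  have hPj : ∀ p : W, p ∈ (P : Subgroup W) → (p : C) ∈ zpowers (⟨j, hjC⟩ : C) := by
    intro p hp
    have h3 : IsTwo (p : C) := (isTwo_of_isPGroup P.2 hp).map W.subtype
    apply mem_of_odd_pow h3 hδ
    exact hYW _ (pow_mem p.2 _) (hpow _ p.2.1)
  have hPc : IsCyclic (P : Subgroup W) := by
    let g : (P : Subgroup W) →* zpowers (⟨j, hjC⟩ : C) :=
      { toFun := fun p => ⟨((p : W) : C), hPj p p.2⟩
        map_one' := rfl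
        map_mul' := fun _ _ => rfl }
    apply isCyclic_of_injective g
    intro a b hab
    exact Subtype.ext (Subtype.ext (congrArg (fun z : zpowers (⟨j, hjC⟩ : C) => (z : C)) hab))
  have hW2 : IsPGroup 2 W := TypeLFive.CentThree.isPGroup_of_cyclic hO hWn P hPc
  -- `c²` is in `W`
  have hcC : c ∈ C := mem_centralizer_singleton_iff.2 hc
  have hcW : (⟨c, hcC⟩ : C) * ⟨c, hcC⟩ ∈ W := by
    refine ⟨?_, ?_⟩
    · change f (⟨c, hcC⟩ * ⟨c, hcC⟩) = 1
      rw [map_mul]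
      rcases Int.units_eq_one_or (f ⟨c, hcC⟩) with h | h <;> rw [h] <;> simp
    · have h3 : (⟨c, hcC⟩ : C) ∈ centralizer (Y : Set C) := by
        rw [mem_centralizer_iff]
        rintro ⟨y, hyC⟩ hy
        obtain ⟨a, b, hab⟩ : y ∈ D.Y := hy
        apply Subtype.ext
        change y * c = c * y
        rw [← hab, mul_assoc, ← hc2, ← mul_assoc, ← hc1, mul_assoc]
      exact mul_mem h3 h3
  obtain ⟨n, hn⟩ := isTwo_of_isPGroup hW2 hcW
  refine ⟨n + 1, ?_⟩
  have h3 := congrArg Subtype.val hn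
  rw [pow_succ', pow_mul, pow_two]
  exact h3

end Duo

end Cfsg.Agent.H311
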