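import Cfsg.Agent.H311.Red

/-!
# The swap case
-/

set_option autoImplicit false

namespace Cfsg.Agent.H311

open Matrix Subgroup Cfsg.Agent.GTwoOdd Cfsg.Agent.ClassicalGeometry

namespace Duo

section alg

variable {G : Type*} [Group G] {j : G} {F₁ F₂ : Type*} [Field F₁] [Field F₂] {D : Duo j F₁ F₂}

theorem nm_mul {c d : G} (hc : D.Nm c) (hd : D.Nm d) : D.Nm (c * d) := by
  constructor
  · intro x
    obtain ⟨y, hy⟩ := hd.1 x
    obtain ⟨z, hz⟩ := hc.1 y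
    exact ⟨z, by rw [mul_assoc, hy, ← mul_assoc, hz, mul_assoc]⟩
  · intro x
    obtain ⟨y, hy⟩ := hd.2 x
    obtain ⟨z, hz⟩ := hc.2 y
    exact ⟨z, by rw [mul_assoc, hy, ← mul_assoc, hz, mul_assoc]⟩

theorem nm_mul_sw {c d : G} (hc : D.Nm c) (hd : D.Sw d) : D.Sw (c * d) := by
  constructor
  · intro x
    obtain ⟨y, hy⟩ := hd.1 x
    obtain ⟨z, hz⟩ := hc.2 y
    exact ⟨z, by rw [mul_assoc, hy, ← mul_assoc, hz, mul_assoc]⟩
  · intro x
    obtain ⟨y, hy⟩ := hd.2 x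
    obtain ⟨z, hz⟩ := hc.1 y
    exact ⟨z, by rw [mul_assoc, hy, ← mul_assoc, hz, mul_assoc]⟩

theorem sw_mul_nm {c d : G} (hc : D.Sw c) (hd : D.Nm d) : D.Sw (c * d) := by
  constructor
  · intro x
    obtain ⟨y, hy⟩ := hd.1 x
    obtain ⟨z, hz⟩ := hc.1 y
    exact ⟨z, by rw [mul_assoc, hy, ← mul_assoc, hz, mul_assoc]⟩
  · intro x
    obtain ⟨y, hy⟩ := hd.2 x
    obtain ⟨z, hz⟩ := hc.2 y
    exact ⟨z, by rw [mul_assoc, hy, ← mul_assoc, hz, mul_assoc]⟩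

theorem sw_mul_sw {c d : G} (hc : D.Sw c) (hd : D.Sw d) : D.Nm (c * d) := by
  constructor
  · intro x
    obtain ⟨y, hy⟩ := hd.1 x
    obtain ⟨z, hz⟩ := hc.2 y
    exact ⟨z, by rw [mul_assoc, hy, ← mul_assoc, hz, mul_assoc]⟩
  · intro x
    obtain ⟨y, hy⟩ := hd.2 x
    obtain ⟨z, hz⟩ := hc.1 y
    exact ⟨z, by rw [mul_assoc, hy, ← mul_assoc, hz, mul_assoc]⟩

theorem nm_of_mem {c : G} (hc : c ∈ D.Y) : D.Nm c := by
  obtain ⟨p, q, rfl⟩ := hc
  constructor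
  · intro x
    exact ⟨p * x * p⁻¹, D.comm1_iff.2 (by group)⟩
  · intro x
    exact ⟨q * x * q⁻¹, D.comm2_iff.2 (by group)⟩

theorem not_nm_sw {c : G} (hc : D.Nm c) (hc' : D.Sw c) : False := by
  apply sl_noncomm (F := F₁)
  intro a b
  -- `c e₁(x) c⁻¹` is `1` or `j`
  have key : ∀ x : SL2 F₁, c * D.e1 x * c⁻¹ = 1 ∨ c * D.e1 x * c⁻¹ = j := by
    intro x
    obtain ⟨y, hy⟩ := hc.1 x
    obtain ⟨z, hz⟩ := hc'.1 x
    have h : D.e1 y = D.e2 z := by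
      rw [hy] at hz
      exact mul_right_cancel hz
    have e : c * D.e1 x * c⁻¹ = D.e1 y := by rw [hy]; group
    rw [e]
    rcases D.eq_cases h with ⟨rfl, -⟩ | ⟨rfl, -⟩
    · left; exact map_one _
    · right; exact D.neg1
  apply D.inj1
  rw [map_mul, map_mul]
  have h1 : (c * D.e1 a * c⁻¹) * (c * D.e1 b * c⁻¹) = (c * D.e1 b * c⁻¹) * (c * D.e1 a * c⁻¹) := by
    rcases key a with h | h <;> rcases key b with h' | h' <;> rw [h, h'] <;> simp
  have h2 : c * (D.e1 a * D.e1 b) * c⁻¹ = c * (D.e1 b * D.e1 a) * c⁻¹ := by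
    have e1 : c * (D.e1 a * D.e1 b) * c⁻¹ = (c * D.e1 a * c⁻¹) * (c * D.e1 b * c⁻¹) := by group
    have e2 : c * (D.e1 b * D.e1 a) * c⁻¹ = (c * D.e1 b * c⁻¹) * (c * D.e1 a * c⁻¹) := by group
    rw [e1, e2, h1]
  exact mul_left_cancel (mul_right_cancel h2)

theorem nm_inv [Finite F₁] [Finite F₂] {c : G} (hc : D.Nm c) : D.Nm c⁻¹ := by
  obtain ⟨α, hα⟩ := exists_aut D.inj1 hc.1
  obtain ⟨β, hβ⟩ := exists_aut D.inj2 hc.2
  constructor
  · intro x
    refine ⟨α⁻¹ x, ?_⟩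
    rw [aut_inv hα]; group
  · intro x
    refine ⟨β⁻¹ x, ?_⟩
    rw [aut_inv hβ]; group

end alg

variable {G : Type*} [Group G] {j : G} {F : Type*} [Field F]

/-- the swap case, with the second factor described by the first -/
structure SW (D : Duo j F F) (n : G) : Prop where
  half : D.Half
  nn : n * n = 1
  nj : n * j = j * n
  sw : ∀ x, n * D.e1 x = D.e2 x * n
  nms : ∀ c, c * j = j * c → D.Nm c ∨ D.Sw c
  cent : ∀ c, c * j = j * c → (∀ x, c * D.e1 x = D.e1 x * c) → (∀ y, c * D.e2 y = D.e2 y * c) → IsTwo c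

namespace SW

variable {D : Duo j F F} {n : G} (N : D.SW n)
include N

theorem inv_n : n⁻¹ = n := inv_eq_of_mul_eq_one_right N.nn

theorem sw2 (x : SL2 F) : n * D.e2 x = D.e1 x * n := by
  have h := N.sw x
  have e : D.e2 x = n * D.e1 x * n := by rw [h, mul_assoc, N.nn, mul_one]
  rw [e, ← mul_assoc, ← mul_assoc, N.nn, one_mul]

theorem n_sw : D.Sw n := ⟨fun x => ⟨x, N.sw x⟩, fun x => ⟨x, N.sw2 x⟩⟩

theorem n_notMem : n ∉ D.Y := fun h => not_nm_sw (nm_of_mem h) N.n_sw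

/-- `2`-elements of `C(j)` outside `Y` swap -/
theorem two_sw [Finite G] [Finite F] (t2 : (2 : F) ≠ 0) {c : G} (hcj : c * j = j * c) (hc : IsTwo c) (hcY : c ∉ D.Y) :
    D.Sw c := by
  obtain ⟨S, hSj, hSc⟩ := N.half.two_central t2 t2 (zpowers c) (isPGroup_zpowers hc) (isTwo_zpowers_comm hcj)
  have hSC : (S : Subgroup G) ≤ centralizer ({j} : Set G) := by
    intro s hs
    rw [mem_centralizer_singleton_iff]
    exact hSj s hs
  obtain ⟨d, hd, hdn⟩ := conj_into S hSC (mem_centralizer_singleton_iff.2 N.nj) (isTwo_of_sq N.nn)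
  have hdj : d * j = j * d := mem_centralizer_singleton_iff.1 hd
  have hdY : d * n * d⁻¹ ∉ D.Y := by
    intro h
    apply N.n_notMem
    have := N.half.norm d⁻¹ (commj_inv hdj) _ h
    have e : d⁻¹ * (d * n * d⁻¹) * d⁻¹⁻¹ = n := by group
    rwa [e] at this
  have h1 : c * (d * n * d⁻¹) ∈ D.Y := N.half.half S S.2 hSj c (hSc (mem_zpowers c)) _ hdn hcY hdY
  have h2 := nm_of_mem h1
  have hnsw := N.n_sw
  have e : c = (c * (d * n * d⁻¹)) * (d * n * d⁻¹) := by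
    have : (c * (d * n * d⁻¹)) * (d * n * d⁻¹) = c * (d * (n * n) * d⁻¹) := by group
    rw [this, N.nn]; group
  rw [e]
  refine nm_mul_sw h2 ?_
  rcases N.nms d hdj with h | h <;> rcases N.nms d⁻¹ (commj_inv hdj) with h' | h'
  · exact sw_mul_nm (nm_mul_sw h hnsw) h'
  · exfalso
    have := nm_mul_sw h h'
    rw [mul_inv_cancel] at this
    exact not_nm_sw (nm_of_mem (one_mem _)) this
  · exfalso
    have := sw_mul_nm h h'
    rw [mul_inv_cancel] at this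
    exact not_nm_sw (nm_of_mem (one_mem _)) this
  · exact nm_mul_sw (sw_mul_sw h hnsw) h'

theorem cent_eq [Finite G] [Finite F] (t2 : (2 : F) ≠ 0) {c : G} (hcj : c * j = j * c)
    (hc1 : ∀ x, c * D.e1 x = D.e1 x * c) (hc2 : ∀ y, c * D.e2 y = D.e2 y * c) : c = 1 ∨ c = j := by
  have h2 := N.cent c hcj hc1 hc2
  have hcY : c ∈ D.Y := by
    by_contra hcY
    exact not_nm_sw (D := D) ⟨fun x => ⟨x, hc1 x⟩, fun x => ⟨x, hc2 x⟩⟩ (N.two_sw t2 hcj h2 hcY)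
  exact eq_of_cent_Y hcY hc1 hc2

/-- commutators of elements normalizing both factors are in `Y` -/
theorem comm_mem [Finite G] [Finite F] (t2 : (2 : F) ≠ 0) {c d : G} (hc : c * j = j * c) (hd : d * j = j * d)
    (hcn : D.Nm c) (hdn : D.Nm d) : c * d * c⁻¹ * d⁻¹ ∈ D.Y := by
  obtain ⟨α, hα⟩ := exists_aut D.inj1 hcn.1
  obtain ⟨β, hβ⟩ := exists_aut D.inj1 hdn.1
  obtain ⟨γ, hγ⟩ := exists_aut D.inj2 hcn.2
  obtain ⟨δ, hδ⟩ := exists_aut D.inj2 hdn.2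
  obtain ⟨s, hs⟩ := Cfsg.Agent.Lib.AutSL2Out.commutator_inner α β
  obtain ⟨r, hr⟩ := Cfsg.Agent.Lib.AutSL2Out.commutator_inner γ δ
  have h1 := aut_mul (aut_mul (aut_mul hα hβ) (aut_inv hα)) (aut_inv hβ)
  have h2 := aut_mul (aut_mul (aut_mul hγ hδ) (aut_inv hγ)) (aut_inv hδ)
  set k := c * d * c⁻¹ * d⁻¹ with hk
  have hkj : k * j = j * k := commj_mul (commj_conj hc hd) (commj_inv hd)
  have hyj : (D.e1 s * D.e2 r) * j = j * (D.e1 s * D.e2 r) := D.Y_j ⟨s, r, rfl⟩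
  have h3 : (D.e1 s * D.e2 r)⁻¹ * k = 1 ∨ (D.e1 s * D.e2 r)⁻¹ * k = j := by
    apply N.cent_eq t2 (commj_mul (commj_inv hyj) hkj)
    · intro x
      have e1 : k * D.e1 x = D.e1 (s * x * s⁻¹) * k := by rw [← hs, h1]; group
      have e2 : D.e1 (s * x * s⁻¹) = (D.e1 s * D.e2 r) * D.e1 x * (D.e1 s * D.e2 r)⁻¹ := by
        have := D.conj_conj s x r 1
        rw [map_one, mul_one] at this
        rw [this]; simp
      rw [mul_assoc, e1, e2]; group
    · intro x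
      have e1 : k * D.e2 x = D.e2 (r * x * r⁻¹) * k := by rw [← hr, h2]; group
      have e2 : D.e2 (r * x * r⁻¹) = (D.e1 s * D.e2 r) * D.e2 x * (D.e1 s * D.e2 r)⁻¹ := by
        have := D.conj_conj s 1 r x
        rw [map_one, one_mul] at this
        rw [this]; simp
      rw [mul_assoc, e1, e2]; group
  have h4 : (D.e1 s * D.e2 r)⁻¹ * k ∈ D.Y := by
    rcases h3 with h | h <;> rw [h]
    · exact one_mem _
    · exact D.j_mem
  exact (mul_mem_cancel_left (inv_mem (show D.e1 s * D.e2 r ∈ D.Y from ⟨s, r, rfl⟩))).1 h4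

/-- an involution of `C(j)` commuting with two anticommuting pairs is `j` -/
theorem central_eq [Finite G] [Finite F] (t2 : (2 : F) ≠ 0) {x r x' r' : SL2 F} (hx : x * x = -1) (hn : r * x = -(x * r))
    (hx' : x' * x' = -1) (hn' : r' * x' = -(x' * r')) {z : G} (hzj : z * j = j * z) (hzz : z * z = 1) (hz1 : z ≠ 1)
    (c1 : z * D.e1 x = D.e1 x * z) (c2 : z * D.e1 r = D.e1 r * z) (c3 : z * D.e2 x' = D.e2 x' * z)
    (c4 : z * D.e2 r' = D.e2 r' * z) : z = j := by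
  by_cases hzY : z ∈ D.Y
  · exact (D.eq_of_comm_pairs t2 t2 hx hn hx' hn' hzY c1 c2 c3 c4).resolve_left hz1
  · exfalso
    obtain ⟨y, hy⟩ := (N.two_sw t2 hzj (isTwo_of_sq hzz) hzY).1 x
    rw [c1] at hy
    obtain ⟨n1, n2⟩ := sl_ne_of_sq t2 hx
    rcases D.eq_cases (mul_right_cancel hy) with ⟨h, -⟩ | ⟨h, -⟩
    · exact n1 h
    · exact n2 h

end SW

end Duo

end Cfsg.Agent.H311
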