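import Cfsg.Agent.H311.SwapRec

/-!
# The swap case, `q > 3`
-/

set_option autoImplicit false

namespace Cfsg.Agent.H311

open Matrix Subgroup Cfsg.Agent.GTwoOdd Cfsg.Agent.ClassicalGeometry

/-- the conclusion of S3205, for groups in `Type u` and fields in `Type v` -/
def PspOut.{u, v} : Prop :=
  ∀ (K : Type u) [Group K] [Finite K], commutator K = ⊤ → Cfsg.oddCore K = ⊥ → Subgroup.center K = ⊥ →
    ∀ (F : Type v) [Field F] [Fintype F], Odd (Fintype.card F) → ∀ (S : Sylow 2 K) (P : Sylow 2 (Cfsg.PSp 2 F)),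
    Nonempty (↥(S : Subgroup K) ≃* ↥(P : Subgroup (Cfsg.PSp 2 F))) →
    Nonempty (K ≃* ↥(alternatingGroup (Fin 8))) ∨ Nonempty (K ≃* ↥(alternatingGroup (Fin 9))) ∨
    (∃ E L : Subgroup K, E.Normal ∧ Cfsg.IsElementaryAbelian 2 E ∧ Nat.card ↥E = 16 ∧
        Nonempty (↥L ≃* ↥(alternatingGroup (Fin 5))) ∧ Subgroup.IsComplement' E L ∧
        ¬ (L ≤ Subgroup.centralizer (E : Set K)) ∧
        ∃ e₁ ∈ E, ∃ e₂ ∈ E, e₁ ≠ 1 ∧ e₂ ≠ 1 ∧ ∀ k ∈ L, k * e₁ * k⁻¹ ≠ e₂) ∨
    (∃ E L : Subgroup K, E.Normal ∧ Cfsg.IsElementaryAbelian 2 E ∧ Nat.card ↥E = 8 ∧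
        Nonempty (↥L ≃* GL (Fin 3) (ZMod 2)) ∧ Subgroup.IsComplement' E L ∧
        L ⊓ Subgroup.centralizer (E : Set K) = ⊥) ∨
    (∃ (F' : Type) (_ : Field F') (_ : Fintype F'), Odd (Fintype.card F') ∧ Nonempty (K ≃* Cfsg.PSp 2 F'))

theorem excl {q : ℕ} (hq : Odd q) (h3 : 3 < q) {N0 : ℕ} (hN : N0 = 20160 ∨ N0 = 181440 ∨ N0 = 960 ∨ N0 = 1344)
    (h : (q * (q ^ 2 - 1)) * (q * (q ^ 2 - 1)) ∣ N0 * 2) : False := by
  have h9 : q < 9 := by
    by_contra hcon
    push Not at hcon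
    have h4 : 9 * (9 ^ 2 - 1) ≤ q * (q ^ 2 - 1) := by
      apply Nat.mul_le_mul hcon
      have : 9 ^ 2 ≤ q ^ 2 := Nat.pow_le_pow_left hcon 2
      omega
    have h5 : (9 * (9 ^ 2 - 1)) * (9 * (9 ^ 2 - 1)) ≤ (q * (q ^ 2 - 1)) * (q * (q ^ 2 - 1)) := Nat.mul_le_mul h4 h4
    have h6 := Nat.le_of_dvd (by omega) h
    omega
  have h5 : q = 5 ∨ q = 7 := by
    obtain ⟨k, hk⟩ := hq
    omega
  rcases h5 with rfl | rfl <;> rcases hN with rfl | rfl | rfl | rfl <;> revert h <;> decide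

theorem card_gl3 : Nat.card (GL (Fin 3) (ZMod 2)) = 168 := by
  rw [Matrix.card_GL_field, Fin.prod_univ_three, ZMod.card]
  norm_num

namespace Duo

namespace SW

universe u v

variable {G : Type u} [Group G] [Finite G] {j : G} {F : Type v} [Field F] [Fintype F] {D : Duo j F F} {n : G}

/-- a group of one of the excluded orders -/
theorem card_excl {K : Type*} [Group K] [Finite K] {j : K} (D : Duo j F F) (h1 : Odd (Fintype.card F))
    (h3 : 3 < Fintype.card F)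
    (hK : Nat.card K = 20160 ∨ Nat.card K = 181440 ∨ Nat.card K = 960 ∨ Nat.card K = 1344) : False := by
  have t1 := SLTwoFour.two_ne_zero_of_odd (F := F) h1
  apply excl h1 h3 hK
  have h4 := D.card_Y t1
  rw [ClassicalGeometry.PSL2Basic.card_SL2] at h4
  rw [← h4]
  exact Nat.mul_dvd_mul_right (card_subgroup_dvd_card D.Y) 2

/-- **the case `q > 3`** -/
theorem big (HP : PspOut.{u, v}) (N : D.SW n) (h1 : Odd (Fintype.card F)) (h3 : 3 < Fintype.card F)
    (hO : Cfsg.oddCore ↥(centralizer ({j} : Set G)) = ⊥) {δ : ℕ}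
    (hidx : D.Y.relIndex (centralizer ({j} : Set G)) = 2 * δ)
    (hnot : Subgroup.centralizer ({j} : Set G) ⊔ Cfsg.oddCore G ≠ ⊤) :
    ∃ K : Subgroup G, K.Normal ∧ K.index = δ ∧ Nonempty (K ≃* Cfsg.PSp 2 F) := by
  have t1 := SLTwoFour.two_ne_zero_of_odd (F := F) h1
  have hcore := N.core_bot h1 hO hnot
  obtain ⟨k, hk⟩ := exists_perfect G
  set K := derivedSeries G k with hKdef
  have hKn : K.Normal := by rw [hKdef]; infer_instance
  have p1 := TwoFusion.SLTwoFacts.commutator_eq_top h3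
  have hYK : D.Y ≤ K := by
    rintro _ ⟨a, b, rfl⟩
    exact mul_mem (perfect_mem_derived p1 D.e1 k a) (perfect_mem_derived p1 D.e2 k b)
  have hnK : n ∈ K := N.two_mem h1 hnot hKn (fun y hy _ => hYK hy) (isTwo_of_sq N.nn)
  have hone := N.hone h1 hnot hKn (fun y hy _ => hYK hy)
  have N' := N.res hYK hnK
  have hOK : Cfsg.oddCore K = ⊥ := by
    have h4 := Lib.Cores.map_subtype_pPrimeCore (G := G) 2 hKn
    have h5 : Cfsg.pPrimeCore 2 G = ⊥ := hcore
    rw [h5, inf_bot_eq, (map_eq_bot_iff_of_injective _ K.subtype_injective)] at h4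
    exact h4
  have hZK : center K = ⊥ := by
    rw [eq_bot_iff]
    intro c hc
    rw [mem_center_iff] at hc
    rcases N'.cent_eq t1 (hc _).symm (fun x => (hc _).symm) (fun y => (hc _).symm) with h | h
    · exact h
    · exfalso
      obtain ⟨g, hgc, hgj⟩ := N.half.exists_fused t1 t1 hnot
      obtain ⟨x, hx, hgx⟩ := hone g
      apply hgj
      have h4 := congrArg Subtype.val (hc ⟨x, hx⟩)
      rw [h] at h4
      change x * j = j * x at h4
      rw [hgx, h4, mul_inv_cancel_right]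
  obtain ⟨z, D0, m, N0, hz, hW0⟩ := model F h1
  obtain ⟨S⟩ : Nonempty (Sylow 2 K) := inferInstance
  obtain ⟨P⟩ : Nonempty (Sylow 2 (Cfsg.PSp 2 F)) := inferInstance
  have hS := sylow_equiv N' N0 t1 S P
  have hex := fun h => card_excl (D.res K hYK) h1 h3 h
  rcases HP K hk hOK hZK F h1 S P hS with ⟨⟨e⟩⟩ | ⟨⟨e⟩⟩ | ⟨E, K', -, -, hE, ⟨e⟩, hc, -⟩ |
    ⟨E, K', -, -, hE, ⟨e⟩, hc, -⟩ | ⟨F', _, _, h1', ⟨e⟩⟩
  · exfalso
    apply hex
    left
    rw [Nat.card_congr e.toEquiv, nat_card_alternatingGroup, Nat.card_fin]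
    norm_num [Nat.factorial]
  · exfalso
    apply hex
    right; left
    rw [Nat.card_congr e.toEquiv, nat_card_alternatingGroup, Nat.card_fin]
    norm_num [Nat.factorial]
  · exfalso
    apply hex
    right; right; left
    rw [← hc.card_mul_card, hE, Nat.card_congr e.toEquiv, nat_card_alternatingGroup, Nat.card_fin]
    norm_num [Nat.factorial]
  · exfalso
    apply hex
    right; right; right
    rw [← hc.card_mul_card, hE, Nat.card_congr e.toEquiv, card_gl3]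
  · obtain ⟨hcard, hcent⟩ := N'.recog h1 h3 h1' e
    have ef : F' ≃+* F := FiniteField.ringEquivOfCardEq hcard.symm
    refine ⟨K, hKn, ?_, ⟨e.trans (LieClassical.FieldTransfer.pspCongr 2 ef)⟩⟩
    refine D.index_eq t1 hKn hYK hone hidx ?_ ⟨n, hnK, N.nj, N.n_notMem⟩
    rw [hcent]
    have hsl : Nat.card (SL2 F') = Nat.card (SL2 F) := by
      apply card_sl_eq
      rw [Nat.card_eq_fintype_card, Nat.card_eq_fintype_card, hcard]
    rw [hsl]

end SW

end Duo

end Cfsg.Agent.H311
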