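import Cfsg.Agent.H311.Swap

/-!
# The swap case: normalization
-/

set_option autoImplicit false

namespace Cfsg.Agent.H311

open Matrix Subgroup Cfsg.Agent.GTwoOdd Cfsg.Agent.ClassicalGeometry

namespace Duo

variable {G : Type*} [Group G] {j : G} {F₁ F₂ : Type*} [Field F₁] [Field F₂] {D : Duo j F₁ F₂}

/-- `n` an involution exchanging the factors: a `Duo` over `F₁` with `e2 x = n e1 x n⁻¹` -/
theorem exists_SW_of_inv {n : G} (hnn : n * n = 1) (hnj : n * j = j * n) (hn : D.Sw n) (H : D.Half)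
    (nms : ∀ c, c * j = j * c → D.Nm c ∨ D.Sw c)
    (cent : ∀ c, c * j = j * c → (∀ x, c * D.e1 x = D.e1 x * c) → (∀ y, c * D.e2 y = D.e2 y * c) → IsTwo c) :
    ∃ D' : Duo j F₁ F₁, D'.SW n ∧ D'.Y = D.Y ∧ Nonempty (SL2 F₁ ≃* SL2 F₂) := by
  choose f hf using hn.1
  choose g hg using hn.2
  have hf' : ∀ x, D.e2 (f x) = n * D.e1 x * n⁻¹ := fun x => by rw [hf]; group
  have hg' : ∀ x, D.e1 (g x) = n * D.e2 x * n⁻¹ := fun x => by rw [hg]; group
  have hninv : n⁻¹ = n := inv_eq_of_mul_eq_one_right hnn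
  have hgf : ∀ x, g (f x) = x := by
    intro x
    apply D.inj1
    rw [hg', hf']
    have : n * (n * D.e1 x * n⁻¹) * n⁻¹ = (n * n) * D.e1 x * (n * n)⁻¹ := by group
    rw [this, hnn]; group
  have hfg : ∀ x, f (g x) = x := by
    intro x
    apply D.inj2
    rw [hf', hg']
    have : n * (n * D.e2 x * n⁻¹) * n⁻¹ = (n * n) * D.e2 x * (n * n)⁻¹ := by group
    rw [this, hnn]; group
  have hmul : ∀ x y, f (x * y) = f x * f y := by
    intro x y
    apply D.inj2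
    rw [map_mul, hf', hf', hf', map_mul]; group
  let θ : SL2 F₁ ≃* SL2 F₂ :=
    { toFun := f
      invFun := g
      left_inv := hgf
      right_inv := hfg
      map_mul' := hmul }
  let D' : Duo j F₁ F₁ :=
    { e1 := D.e1
      e2 := D.e2.comp θ.toMonoidHom
      inj1 := D.inj1
      inj2 := D.inj2.comp θ.injective
      comm := fun x y => D.comm x _
      neg1 := D.neg1
      neg2 := by
        change D.e2 (f (-1)) = j
        rw [hf', D.neg1, hnj, mul_inv_cancel_right] }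
  have hY : D'.Y = D.Y := by
    apply le_antisymm
    · rintro _ ⟨x, y, rfl⟩
      exact ⟨x, f y, rfl⟩
    · rintro _ ⟨x, y, rfl⟩
      refine ⟨x, g y, ?_⟩
      change D.e1 x * D.e2 (f (g y)) = _
      rw [hfg]
  have hnm : ∀ c, D.Nm c → D'.Nm c := by
    rintro c ⟨h1, h2⟩
    refine ⟨h1, fun x => ?_⟩
    obtain ⟨y, hy⟩ := h2 (f x)
    refine ⟨g y, ?_⟩
    change c * D.e2 (f x) = D.e2 (f (g y)) * c
    rw [hfg, hy]
  have hsw : ∀ c, D.Sw c → D'.Sw c := by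
    rintro c ⟨h1, h2⟩
    refine ⟨fun x => ?_, fun x => h2 (f x)⟩
    obtain ⟨y, hy⟩ := h1 x
    refine ⟨g y, ?_⟩
    change c * D.e1 x = D.e2 (f (g y)) * c
    rw [hfg, hy]
  refine ⟨D', ?_, hY, ⟨θ⟩⟩
  refine ⟨⟨?_, ?_⟩, hnn, hnj, ?_, ?_, ?_⟩
  · rw [hY]; exact H.norm
  · rw [hY]; exact H.half
  · intro x
    change n * D.e1 x = D.e2 (f x) * n
    exact hf x
  · intro c hc
    exact (nms c hc).imp (hnm c) (hsw c)
  · intro c hc h1 h2
    refine cent c hc h1 fun y => ?_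
    have h3 := h2 (g y)
    change c * D.e2 (f (g y)) = D.e2 (f (g y)) * c at h3
    rwa [hfg] at h3

theorem sw_pow {n : G} (hn : D.Sw n) {m : ℕ} (hm : Odd m) : D.Sw (n ^ m) := by
  obtain ⟨k, rfl⟩ := hm
  induction k with
  | zero => simpa using hn
  | succ k ih =>
    have : n ^ (2 * (k + 1) + 1) = n * n * n ^ (2 * k + 1) := by
      rw [← pow_two, ← pow_add]; congr 1; ring
    rw [this]
    exact nm_mul_sw (sw_mul_sw hn hn) ih

theorem commj_pow {c : G} (h : c * j = j * c) (n : ℕ) : c ^ n * j = j * c ^ n :=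
  ((show Commute c j from h).pow_left n).eq

/-- **the swap case** -/
theorem exists_SW [Finite G] [Fintype F₁] [Fintype F₂] (h1 : Odd (Fintype.card F₁)) (h2 : Odd (Fintype.card F₂))
    (H : D.Half) {n0 : G} (hn0j : n0 * j = j * n0) (hn0 : D.Sw n0)
    (nms : ∀ c, c * j = j * c → D.Nm c ∨ D.Sw c)
    (cent : ∀ c, c * j = j * c → (∀ x, c * D.e1 x = D.e1 x * c) → (∀ y, c * D.e2 y = D.e2 y * c) → IsTwo c)
    (hnot : Subgroup.centralizer ({j} : Set G) ⊔ Cfsg.oddCore G ≠ ⊤) :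
    ∃ (D' : Duo j F₁ F₁) (n : G), D'.SW n ∧ D'.Y = D.Y ∧ Nonempty (SL2 F₁ ≃* SL2 F₂) := by
  obtain ⟨m, hm, hm2⟩ := exists_odd_pow n0
  have hsw1 := sw_pow hn0 hm
  have hj1 : n0 ^ m * j = j * n0 ^ m := commj_pow hn0j m
  generalize n0 ^ m = n at hsw1 hm2 hj1
  have hnY : ∀ n : G, D.Sw n → n ∉ D.Y := fun n hn h => not_nm_sw (nm_of_mem h) hn
  have hn2 : n * n ∈ D.Y := by
    apply H.half (zpowers n) (isPGroup_zpowers hm2) (isTwo_zpowers_comm hj1) n (mem_zpowers n) n (mem_zpowers n)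
      (hnY n hsw1) (hnY n hsw1)
  obtain ⟨a, b, hab⟩ := hn2
  obtain ⟨a', ha'⟩ := hsw1.1 a
  obtain ⟨b', hb'⟩ := hsw1.2 b
  have ha'' : n * D.e1 a * n⁻¹ = D.e2 a' := by rw [ha']; group
  have hb'' : n * D.e2 b * n⁻¹ = D.e1 b' := by rw [hb']; group
  have h6 : D.e1 b' * D.e2 a' = D.e1 a * D.e2 b := by
    rw [← ha'', ← hb'', hab]
    have : n * D.e2 b * n⁻¹ * (n * D.e1 a * n⁻¹) = n * (D.e2 b * D.e1 a) * n⁻¹ := by group
    rw [this, ← D.comm, hab]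
    group
  have hz : a' = b ∨ a' = -b := by
    rcases D.mul_eq_mul h6 with ⟨-, h7⟩ | ⟨-, h7⟩
    · exact Or.inl h7
    · exact Or.inr h7
  have hsw2 : D.Sw (D.e1 a⁻¹ * n) := nm_mul_sw (nm_of_mem (D.e1_mem _)) hsw1
  have hj2 : (D.e1 a⁻¹ * n) * j = j * (D.e1 a⁻¹ * n) := commj_mul (D.e1_j _) hj1
  have h8 : (D.e1 a⁻¹ * n) * (D.e1 a⁻¹ * n) = 1 ∨ (D.e1 a⁻¹ * n) * (D.e1 a⁻¹ * n) = j := by
    have h8 : (D.e1 a⁻¹ * n) * (D.e1 a⁻¹ * n) = D.e1 a⁻¹ * (n * D.e1 a⁻¹ * n⁻¹) * (n * n) := by group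
    have h9 : n * D.e1 a⁻¹ * n⁻¹ = D.e2 a'⁻¹ := by
      rw [map_inv, map_inv, ← ha'']; group
    rw [h8, h9, ← hab, D.mul_mul, inv_mul_cancel]
    rcases hz with rfl | rfl
    · left
      rw [inv_mul_cancel, map_one, map_one, mul_one]
    · right
      have : (-b)⁻¹ * b = -1 := by
        rw [inv_mul_eq_iff_eq_mul]
        simp
      rw [this, map_one, one_mul, D.neg2]
  rcases h8 with h8 | h8
  · obtain ⟨D', h9, h10, h11⟩ := exists_SW_of_inv h8 hj2 hsw2 H nms cent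
    exact ⟨D', _, h9, h10, h11⟩
  · exfalso
    apply hnot
    apply swap_j H h1 h2 (D.e1 a⁻¹ * n) h8 ?_ ?_ (hnY _ hsw2)
    · intro x
      obtain ⟨y, hy⟩ := hsw2.1 x
      exact ⟨y, by rw [hy]; group⟩
    · intro x
      obtain ⟨y, hy⟩ := hsw2.2 x
      exact ⟨y, by rw [hy]; group⟩

end Duo

end Cfsg.Agent.H311
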