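import Cfsg.Agent.H311.SwapW

/-!
# The swap case: comparison of two structures on the same centralizer
-/

set_option autoImplicit false

namespace Cfsg.Agent.H311

open Matrix Subgroup Cfsg.Agent.GTwoOdd Cfsg.Agent.ClassicalGeometry

/-- the image of a perfect group is in every subgroup containing the commutators -/
theorem perfect_mem {G A : Type*} [Group G] [Group A] (hA : commutator A = ⊤) (f : A →* G) {H H' : Subgroup G}
    (h : ∀ a, f a ∈ H) (hc : ∀ x ∈ H, ∀ y ∈ H, x * y * x⁻¹ * y⁻¹ ∈ H') (a : A) : f a ∈ H' := by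
  have h1 : commutator A ≤ H'.comap f := by
    rw [commutator_def, commutator_le]
    intro x _ y _
    change f (x * y * x⁻¹ * y⁻¹) ∈ H'
    rw [map_mul, map_mul, map_mul, map_inv, map_inv]
    exact hc _ (h x) _ (h y)
  rw [hA] at h1
  exact h1 (mem_top a)

/-- the image of a perfect group is in every term of the derived series -/
theorem perfect_mem_derived {G A : Type*} [Group G] [Group A] (hA : commutator A = ⊤) (f : A →* G) (n : ℕ) (a : A) :
    f a ∈ derivedSeries G n := by
  induction n generalizing a with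
  | zero => exact mem_top _
  | succ n ih =>
    refine perfect_mem hA f ih ?_ a
    intro x hx y hy
    exact commutator_mem_commutator hx hy

/-- the solvable residual -/
theorem exists_perfect (G : Type*) [Group G] [Finite G] :
    ∃ m, commutator (derivedSeries G m) = ⊤ := by
  obtain ⟨m, hm⟩ : ∃ m, ∀ k, Nat.card (derivedSeries G m) ≤ Nat.card (derivedSeries G k) := by
    by_contra hcon
    push Not at hcon
    have : ∀ n : ℕ, ∀ m, Nat.card (derivedSeries G m) ≤ n → False := by
      intro n
      induction n with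
      | zero =>
        intro m hm
        have : 0 < Nat.card (derivedSeries G m) := Nat.card_pos
        omega
      | succ n ih =>
        intro m hm
        obtain ⟨k, hk⟩ := hcon m
        exact ih k (by omega)
    exact this _ 0 le_rfl
  refine ⟨m, ?_⟩
  have h1 : derivedSeries G (m + 1) = derivedSeries G m :=
    eq_of_le_of_card_ge (derivedSeries_antitone G (Nat.le_succ m)) (hm (m + 1))
  have h2 : (commutator (derivedSeries G m)).map (derivedSeries G m).subtype = derivedSeries G m := by
    rw [map_subtype_commutator]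
    exact h1
  rw [eq_top_iff]
  rintro ⟨x, hx⟩ -
  rw [← h2] at hx
  obtain ⟨y, hy, hyx⟩ := hx
  have : y = ⟨x, by rw [← hyx]; exact y.2⟩ := Subtype.ext hyx
  rwa [← this]

namespace Duo

section mapE

variable {G H : Type*} [Group G] [Group H] {j : G} {F₁ F₂ : Type*} [Field F₁] [Field F₂]

/-- transport by an isomorphism -/
def mapE (D : Duo j F₁ F₂) (e : G ≃* H) {j' : H} (hj : e j = j') : Duo j' F₁ F₂ where
  e1 := e.toMonoidHom.comp D.e1
  e2 := e.toMonoidHom.comp D.e2
  inj1 := e.injective.comp D.inj1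
  inj2 := e.injective.comp D.inj2
  comm x y := by
    change e (D.e1 x) * e (D.e2 y) = e (D.e2 y) * e (D.e1 x)
    rw [← map_mul, D.comm, map_mul]
  neg1 := by
    change e (D.e1 (-1)) = j'
    rw [D.neg1, hj]
  neg2 := by
    change e (D.e2 (-1)) = j'
    rw [D.neg2, hj]

theorem mem_mapE_Y {D : Duo j F₁ F₂} {e : G ≃* H} {j' : H} {hj : e j = j'} {x : G} :
    e x ∈ (D.mapE e hj).Y ↔ x ∈ D.Y := by
  constructor
  · rintro ⟨a, b, h⟩
    refine ⟨a, b, ?_⟩
    apply e.injective
    rw [map_mul]
    exact h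
  · rintro ⟨a, b, rfl⟩
    refine ⟨a, b, ?_⟩
    rw [map_mul]; rfl

end mapE

namespace SW

section alg

variable {G H : Type*} [Group G] [Group H] {j : G} {F : Type*} [Field F] {D : Duo j F F} {n : G}

theorem mapE (N : D.SW n) (e : G ≃* H) {j' : H} (hj : e j = j') : (D.mapE e hj).SW (e n) where
  half :=
    { norm := by
        intro c hc y hy
        obtain ⟨c, rfl⟩ := e.surjective c
        obtain ⟨y, rfl⟩ := e.surjective y
        rw [mem_mapE_Y] at hy
        rw [← map_mul, ← map_inv, ← map_mul, mem_mapE_Y]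
        apply N.half.norm c ?_ y hy
        apply e.injective
        rw [map_mul, map_mul, hj]; exact hc
      half := by
        intro T hT hTj a ha b hb haY hbY
        obtain ⟨a, rfl⟩ := e.surjective a
        obtain ⟨b, rfl⟩ := e.surjective b
        rw [mem_mapE_Y] at haY hbY
        rw [← map_mul, mem_mapE_Y]
        refine N.half.half (T.comap e.toMonoidHom) (hT.comap_of_injective _ e.injective) ?_ a ha b hb haY hbY
        intro t ht
        apply e.injective
        rw [map_mul, map_mul, hj]; exact hTj _ ht }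
  nn := by rw [← map_mul, N.nn, map_one]
  nj := by rw [← hj, ← map_mul, N.nj, map_mul]
  sw x := by
    change e n * e (D.e1 x) = e (D.e2 x) * e n
    rw [← map_mul, N.sw, map_mul]
  nms := by
    intro c hc
    obtain ⟨c, rfl⟩ := e.surjective c
    have hc' : c * j = j * c := by
      apply e.injective
      rw [map_mul, map_mul, hj]; exact hc
    rcases N.nms c hc' with ⟨h1, h2⟩ | ⟨h1, h2⟩
    · left
      constructor
      · intro x
        obtain ⟨y, hy⟩ := h1 x
        refine ⟨y, ?_⟩
        change e c * e (D.e1 x) = e (D.e1 y) * e c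
        rw [← map_mul, hy, map_mul]
      · intro x
        obtain ⟨y, hy⟩ := h2 x
        refine ⟨y, ?_⟩
        change e c * e (D.e2 x) = e (D.e2 y) * e c
        rw [← map_mul, hy, map_mul]
    · right
      constructor
      · intro x
        obtain ⟨y, hy⟩ := h1 x
        refine ⟨y, ?_⟩
        change e c * e (D.e1 x) = e (D.e2 y) * e c
        rw [← map_mul, hy, map_mul]
      · intro x
        obtain ⟨y, hy⟩ := h2 x
        refine ⟨y, ?_⟩
        change e c * e (D.e2 x) = e (D.e1 y) * e c
        rw [← map_mul, hy, map_mul]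
  cent := by
    intro c hc h1 h2
    obtain ⟨c, rfl⟩ := e.surjective c
    have hc' : c * j = j * c := by
      apply e.injective
      rw [map_mul, map_mul, hj]; exact hc
    have h3 : IsTwo c := by
      apply N.cent c hc'
      · intro x
        apply e.injective
        rw [map_mul, map_mul]
        exact h1 x
      · intro x
        apply e.injective
        rw [map_mul, map_mul]
        exact h2 x
    exact h3.map e.toMonoidHom

/-- restriction to a subgroup -/
theorem res (N : D.SW n) {K : Subgroup G} (hK : D.Y ≤ K) (hn : n ∈ K) : (D.res K hK).SW ⟨n, hn⟩ where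
  half := ⟨fun c hc y hy => by
      rw [mem_res_Y] at hy ⊢
      exact N.half.norm c (congrArg Subtype.val hc) y hy, fun T hT hTj a ha b hb h1 h2 => by
      rw [mem_res_Y] at h1 h2 ⊢
      refine N.half.half (T.map K.subtype) (hT.map _) ?_ a ⟨a, ha, rfl⟩ b ⟨b, hb, rfl⟩ h1 h2
      rintro _ ⟨t, ht, rfl⟩
      exact congrArg Subtype.val (hTj t ht)⟩
  nn := Subtype.ext N.nn
  nj := Subtype.ext N.nj
  sw x := Subtype.ext (N.sw x)
  nms := by
    intro c hc
    rcases N.nms c (congrArg Subtype.val hc) with ⟨h1, h2⟩ | ⟨h1, h2⟩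
    · left
      constructor
      · intro x
        obtain ⟨y, hy⟩ := h1 x
        exact ⟨y, Subtype.ext hy⟩
      · intro x
        obtain ⟨y, hy⟩ := h2 x
        exact ⟨y, Subtype.ext hy⟩
    · right
      constructor
      · intro x
        obtain ⟨y, hy⟩ := h1 x
        exact ⟨y, Subtype.ext hy⟩
      · intro x
        obtain ⟨y, hy⟩ := h2 x
        exact ⟨y, Subtype.ext hy⟩
  cent c hc h1 h2 := IsTwo.coe_iff.2 (N.cent c (congrArg Subtype.val hc)
    (fun x => congrArg Subtype.val (h1 x)) (fun x => congrArg Subtype.val (h2 x)))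

/-- the subgroup of `C(j)` normalizing both factors -/
def nmS [Finite F] (D : Duo j F F) : Subgroup G where
  carrier := {c | c * j = j * c ∧ D.Nm c}
  mul_mem' := fun ha hb => ⟨commj_mul ha.1 hb.1, nm_mul ha.2 hb.2⟩
  one_mem' := ⟨by simp, nm_of_mem (one_mem _)⟩
  inv_mem' := fun ha => ⟨commj_inv ha.1, nm_inv ha.2⟩

theorem sw_inv [Finite F] (N : D.SW n) {c : G} (hcj : c * j = j * c) (hc : D.Sw c) : D.Sw c⁻¹ := by
  rcases N.nms c⁻¹ (commj_inv hcj) with h | h
  · exfalso
    have := nm_inv h
    rw [inv_inv] at this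
    exact not_nm_sw this hc
  · exact h

/-- perfect subgroups of `C(j)` are in `Y` -/
theorem perfect_Y [Finite G] [Finite F] (N : D.SW n) (t2 : (2 : F) ≠ 0) {A : Type*} [Group A] (hA : commutator A = ⊤)
    (f : A →* G) (hf : ∀ a, f a * j = j * f a) (a : A) : f a ∈ D.Y := by
  refine perfect_mem hA f (H := nmS D) ?_ ?_ a
  · refine perfect_mem hA f (H := centralizer ({j} : Set G)) ?_ ?_
    · intro a
      rw [mem_centralizer_singleton_iff]
      exact hf a
    · intro x hx y hy
      rw [mem_centralizer_singleton_iff] at hx hy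
      refine ⟨commj_mul (commj_conj hx hy) (commj_inv hy), ?_⟩
      rcases N.nms x hx with h1 | h1 <;> rcases N.nms y hy with h2 | h2
      · exact nm_mul (nm_mul (nm_mul h1 h2) (nm_inv h1)) (nm_inv h2)
      · exact sw_mul_sw (sw_mul_nm (nm_mul_sw h1 h2) (nm_inv h1)) (N.sw_inv hy h2)
      · exact nm_mul (sw_mul_sw (sw_mul_nm h1 h2) (N.sw_inv hx h1)) (nm_inv h2)
      · exact sw_mul_sw (nm_mul_sw (sw_mul_sw h1 h2) (N.sw_inv hx h1)) (N.sw_inv hy h2)
  · intro x hx y hy
    exact N.comm_mem t2 hx.1 hy.1 hx.2 hy.2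

end alg

section compare

variable {K : Type*} [Group K] [Finite K] {j : K} {F : Type*} [Field F] [Fintype F] {D : Duo j F F} {n : K}

/-- two structures with the same `j` -/
theorem card_eq_of_two (N : D.SW n) (h1 : Odd (Fintype.card F)) (h3 : 3 < Fintype.card F) {F' : Type*} [Field F']
    [Fintype F'] (h1' : Odd (Fintype.card F')) {D' : Duo j F' F'} {n' : K} (N' : D'.SW n') :
    Fintype.card F = Fintype.card F' := by
  have t1 := SLTwoFour.two_ne_zero_of_odd (F := F) h1
  have t2 := SLTwoFour.two_ne_zero_of_odd (F := F') h1'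
  have p1 := TwoFusion.SLTwoFacts.commutator_eq_top h3
  have l1 : D.Y ≤ D'.Y := by
    rintro _ ⟨a, b, rfl⟩
    exact mul_mem (N'.perfect_Y t2 p1 D.e1 D.e1_j a) (N'.perfect_Y t2 p1 D.e2 D.e2_j b)
  have c1 := D.card_Y t1
  have c2 := D'.card_Y t2
  have hc : Nat.card D.Y ≤ Nat.card D'.Y := card_le_of_le l1
  have hsl : Nat.card (SL2 F) ≤ Nat.card (SL2 F') := by
    by_contra hcon
    push Not at hcon
    have : Nat.card (SL2 F') * Nat.card (SL2 F') < Nat.card (SL2 F) * Nat.card (SL2 F) :=
      Nat.mul_lt_mul'' hcon hcon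
    omega
  have h3' : 3 < Fintype.card F' := by
    by_contra hcon
    have hlt := Fintype.one_lt_card (α := F')
    have h4 : Fintype.card F' = 3 := by
      obtain ⟨k, hk⟩ := h1'
      omega
    have h5 : Nat.card (SL2 F') = 24 := TwoFusion.SLTwoFacts.card_eq_24 h4
    rw [h5] at hsl
    have h6 := TwoFusion.SLTwoFacts.card_eq_three_of_le h1 hsl
    omega
  have p2 := TwoFusion.SLTwoFacts.commutator_eq_top h3'
  have l2 : D'.Y ≤ D.Y := by
    rintro _ ⟨a, b, rfl⟩
    exact mul_mem (N.perfect_Y t1 p2 D'.e1 D'.e1_j a) (N.perfect_Y t1 p2 D'.e2 D'.e2_j b)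
  have hYY : D.Y = D'.Y := le_antisymm l1 l2
  have key : ∀ (f : SL2 F →* K) (g : SL2 F' →* K), Function.Injective f → Function.Injective g → f.range = g.range →
      Fintype.card F = Fintype.card F' := by
    intro f g hf hg hfg
    let a := MonoidHom.ofInjective hf
    let b := MonoidHom.ofInjective hg
    exact SLNormal.card_eq_of_equiv ((a.trans (MulEquiv.subgroupCongr hfg)).trans b.symm)
  rcases D.unique D' h1 h1 h1' h1' hYY with ⟨h, -⟩ | ⟨h, -⟩
  · exact key _ _ D.inj1 D'.inj1 h
  · exact key _ _ D.inj1 D'.inj2 h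

/-- recognition of the field of `PSp(4,q)` and the order of `C(j)` -/
theorem recog (N : D.SW n) (h1 : Odd (Fintype.card F)) (h3 : 3 < Fintype.card F) {F' : Type*} [Field F']
    [Fintype F'] (h1' : Odd (Fintype.card F')) (e : K ≃* Cfsg.PSp 2 F') :
    Fintype.card F = Fintype.card F' ∧
      Nat.card (centralizer ({j} : Set K)) = Nat.card (SL2 F') * Nat.card (SL2 F') := by
  have t1 := SLTwoFour.two_ne_zero_of_odd (F := F) h1
  have t2 := SLTwoFour.two_ne_zero_of_odd (F := F') h1'
  have hjj : j * j = 1 := D.jj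
  obtain ⟨z, D0, m, N0, hz, hW⟩ := model F' h1'
  let e0 : Cfsg.PSp 2 F' ≃* K := e.symm
  let N1 := N0.mapE e0 rfl
  -- `j` is conjugate to `e0 z`
  obtain ⟨P⟩ : Nonempty (Sylow 2 (SL2 F')) := inferInstance
  obtain ⟨x, r, hx, hr, hxx, hrx⟩ := sl_sylow_pair t2 P
  let D1 := D0.mapE e0 rfl
  obtain ⟨S, hSj, hS⟩ := N1.half.two_central t2 t2 (D1.pr (P : Subgroup (SL2 F')) P) (D1.pr_isPGroup P.2 P.2) (by
    rintro q hq
    exact D1.Y_j (D1.pr_le _ _ hq))
  obtain ⟨T, hTj, hT⟩ := N.half.two_central t1 t1 (zpowers j) (isPGroup_zpowers (isTwo_of_sq D.jj))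
    (isTwo_zpowers_comm rfl)
  obtain ⟨c, hc⟩ := MulAction.exists_smul_eq K T S
  have hTS : ∀ t ∈ (T : Subgroup K), c * t * c⁻¹ ∈ (S : Subgroup K) := by
    intro t ht
    rw [← hc]
    exact Subgroup.smul_mem_pointwise_smul t (MulAut.conj c) (T : Subgroup K) ht
  have hST : ∀ s ∈ (S : Subgroup K), ∃ t ∈ (T : Subgroup K), c * t * c⁻¹ = s := by
    intro s hs
    rw [← hc] at hs
    obtain ⟨t, ht, hts⟩ := hs
    exact ⟨t, ht, hts⟩
  have hjT : j ∈ (T : Subgroup K) := hT (mem_zpowers j)
  have hcj : c * j * c⁻¹ = e0 z := by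
    have hcomm : ∀ s, s ∈ (S : Subgroup K) → (c * j * c⁻¹) * s = s * (c * j * c⁻¹) := by
      intro s hs
      obtain ⟨t, ht, rfl⟩ := hST s hs
      have h4 := hTj t ht
      have e1 : (c * j * c⁻¹) * (c * t * c⁻¹) = c * (j * t) * c⁻¹ := by group
      rw [e1, ← h4]; group
    have hprS : ∀ p ∈ (P : Subgroup (SL2 F')), ∀ q ∈ (P : Subgroup (SL2 F')), D1.e1 p * D1.e2 q ∈ (S : Subgroup K) := by
      intro p hp q hq
      exact hS ⟨p, hp, q, hq, rfl⟩
    apply N1.central_eq t2 hxx hrx hxx hrx
    · exact hSj _ (hTS j hjT)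
    · have : c * j * c⁻¹ * (c * j * c⁻¹) = c * (j * j) * c⁻¹ := by group
      rw [this, hjj]; group
    · intro h
      apply D.j_ne_one t1
      have : j = c⁻¹ * (c * j * c⁻¹) * c := by group
      rw [this, h]; group
    · have := hcomm _ (hprS x hx 1 (one_mem _))
      simpa using this
    · have := hcomm _ (hprS r hr 1 (one_mem _))
      simpa using this
    · have := hcomm _ (hprS 1 (one_mem _) x hx)
      simpa using this
    · have := hcomm _ (hprS 1 (one_mem _) r hr)
      simpa using this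
  let e1 : Cfsg.PSp 2 F' ≃* K := e0.trans (MulAut.conj c⁻¹)
  have he1 : e1 z = j := by
    change c⁻¹ * e0 z * c⁻¹⁻¹ = j
    rw [← hcj]; group
  have N2 := N0.mapE e1 he1
  refine ⟨N.card_eq_of_two h1 h3 h1' N2, ?_⟩
  rw [← he1, ← card_cent_equiv e1 z, ← hW, N0.card_W t2]

end compare

end SW

end Duo

end Cfsg.Agent.H311
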