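import Cfsg.Agent.H311.SwapGet

/-!
# The swap case: `O(G) = 1` and Sylow subgroups of normal subgroups
-/

set_option autoImplicit false

namespace Cfsg.Agent.H311

open Matrix Subgroup Cfsg.Agent.GTwoOdd Cfsg.Agent.ClassicalGeometry

namespace Duo

namespace SW

variable {G : Type*} [Group G] [Finite G] {j : G} {F : Type*} [Field F] [Fintype F] {D : Duo j F F} {n : G}

/-- `O(G) = 1` -/
theorem core_bot (N : D.SW n) (h1 : Odd (Fintype.card F)) (hO : Cfsg.oddCore ↥(centralizer ({j} : Set G)) = ⊥)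
    (hnot : Subgroup.centralizer ({j} : Set G) ⊔ Cfsg.oddCore G ≠ ⊤) : Cfsg.oddCore G = ⊥ := by
  have t1 := SLTwoFour.two_ne_zero_of_odd (F := F) h1
  have hjj : j * j = 1 := D.jj
  have hj1 := D.j_ne_one t1
  obtain ⟨g, hgc, hgj⟩ := N.half.exists_fused t1 t1 hnot
  have hgg : (g * j * g⁻¹) * (g * j * g⁻¹) = 1 := by
    have : (g * j * g⁻¹) * (g * j * g⁻¹) = g * (j * j) * g⁻¹ := by group
    rw [this, hjj]; group
  have hg1' : g * j * g⁻¹ ≠ 1 := by
    intro h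
    apply hj1
    have : j = g⁻¹ * (g * j * g⁻¹) * g := by group
    rw [this, h]; group
  by_cases hg : g * j * g⁻¹ ∈ D.Y
  · obtain ⟨a, b, hab⟩ := hg
    rcases D.sq_eq_one t1 t1 (by rw [hab]; exact hgg) with h | h | ⟨ha, hb⟩
    · exact absurd (hab.symm.trans h) hg1'
    · exact absurd (hab.symm.trans h) hgj
    · obtain ⟨r, -, hr⟩ := D.conj_of_sq h1 h1 ha (a' := -a) (by rw [neg_mul_neg, ha]) hb hb
      refine H311.core_bot hjj hO (g := g) (h := r * g) ?_
      have : r * g * j * (r * g)⁻¹ = r * (g * j * g⁻¹) * r⁻¹ := by group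
      rw [this, ← hab, hr, ← j_e1, mul_assoc]
  · -- `t` exchanges the factors
    have hsw := N.two_sw t1 hgc (isTwo_of_sq hgg) hg
    set t := g * j * g⁻¹ with ht
    have hn := Lib.Cores.pPrimeCore_normal (G := G) 2
    have i1 := inv_of_cent (Cfsg.oddCore G) hjj (core_cent hO)
    have i2 := inv_of_cent (Cfsg.oddCore G) hgg (core_cent_conj hO g)
    let N0 : Subgroup G := centralizer (Cfsg.oddCore G : Set G)
    have hN0 : N0.Normal := by
      have : (Cfsg.oddCore G).Normal := hn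
      exact inferInstance
    have hjt : j * t ∈ N0 := by
      rw [mem_centralizer_iff]
      intro u hu
      have h3 := i2 u hu
      have h4 := i1 u⁻¹ (inv_mem hu)
      have h5 : (j * t) * u * (j * t)⁻¹ = u := by
        have : (j * t) * u * (j * t)⁻¹ = j * (t * u * t⁻¹) * j⁻¹ := by group
        rw [this, ht, h3, h4, inv_inv]
      have h6 : (j * t) * u = u * (j * t) := by
        nth_rewrite 2 [← h5]
        group
      exact h6.symm
    obtain ⟨P⟩ : Nonempty (Sylow 2 (SL2 F)) := inferInstance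
    obtain ⟨x, r, -, -, hxx, hrx⟩ := sl_sylow_pair t1 P
    obtain ⟨y, hy⟩ := hsw.1 x⁻¹
    -- `e1 x * e2 y ∈ N0`
    have h3 : D.e1 x * D.e2 y ∈ N0 := by
      have h4 : D.e1 x * (j * t) * (D.e1 x)⁻¹ * (j * t)⁻¹ ∈ N0 := mul_mem (hN0.conj_mem _ hjt _) (inv_mem hjt)
      have e : D.e1 x * (j * t) * (D.e1 x)⁻¹ * (j * t)⁻¹ = D.e1 x * D.e2 y := by
        rw [map_inv] at hy
        have e1 : D.e1 x * (j * t) * (D.e1 x)⁻¹ * (j * t)⁻¹ = D.e1 x * (j * (t * (D.e1 x)⁻¹) * t⁻¹ * j⁻¹) := by group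
        rw [e1, hy]
        have e2 : j * (D.e2 y * t) * t⁻¹ * j⁻¹ = j * D.e2 y * j⁻¹ := by group
        rw [e2, ← D.e2_j]; group
      rwa [e] at h4
    -- the commutator with `e1 r` is `j`
    have h4 : j ∈ N0 := by
      have h5 : D.e1 r * (D.e1 x * D.e2 y) * (D.e1 r)⁻¹ * (D.e1 x * D.e2 y)⁻¹ ∈ N0 :=
        mul_mem (hN0.conj_mem _ h3 _) (inv_mem h3)
      have e : D.e1 r * (D.e1 x * D.e2 y) * (D.e1 r)⁻¹ * (D.e1 x * D.e2 y)⁻¹ = j := by
        have e1 : D.e1 r * (D.e1 x * D.e2 y) = D.e1 (r * x) * D.e2 y := by rw [map_mul, mul_assoc]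
        rw [e1, hrx, D.e1_neg, map_mul]
        have e2 : D.e1 x * D.e1 r * j * D.e2 y * (D.e1 r)⁻¹ * (D.e1 x * D.e2 y)⁻¹ =
            D.e1 x * D.e1 r * (j * D.e2 y) * (D.e1 r)⁻¹ * (D.e1 x * D.e2 y)⁻¹ := by group
        rw [e2, ← D.e2_j, ← mul_assoc, mul_assoc (D.e1 x), D.comm r y]
        have e3 : D.e1 x * (D.e2 y * D.e1 r) * j * (D.e1 r)⁻¹ * (D.e1 x * D.e2 y)⁻¹ =
            D.e1 x * D.e2 y * (D.e1 r * j) * (D.e1 r)⁻¹ * (D.e1 x * D.e2 y)⁻¹ := by group
        rw [e3, D.e1_j]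
        have e4 : D.e1 x * D.e2 y * (j * D.e1 r) * (D.e1 r)⁻¹ * (D.e1 x * D.e2 y)⁻¹ =
            (D.e1 x * D.e2 y) * j * (D.e1 x * D.e2 y)⁻¹ := by group
        rw [e4, D.Y_j ⟨x, y, rfl⟩]; group
      rwa [e] at h5
    rw [eq_bot_iff]
    intro u hu
    rw [mem_bot]
    apply odd_core u hu
    have h5 := i1 u hu
    have h6 : u * j = j * u := mem_centralizer_iff.1 h4 u hu
    rw [← h6, mul_inv_cancel_right] at h5
    nth_rewrite 2 [h5]
    exact mul_inv_cancel u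

/-- normal subgroups containing the `2`-elements of `Y` contain all `2`-elements -/
theorem two_mem (N : D.SW n) (h1 : Odd (Fintype.card F))
    (hnot : Subgroup.centralizer ({j} : Set G) ⊔ Cfsg.oddCore G ≠ ⊤) {K : Subgroup G} (hKn : K.Normal)
    (hK : ∀ y ∈ D.Y, IsTwo y → y ∈ K) {x : G} (hx : IsTwo x) : x ∈ K := by
  have t1 := SLTwoFour.two_ne_zero_of_odd (F := F) h1
  have hjj : j * j = 1 := D.jj
  have hjK : j ∈ K := hK j D.j_mem (isTwo_of_sq hjj)
  have h3 : ∃ c ∈ K, c * j = j * c ∧ IsTwo c ∧ c ∉ D.Y := by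
    by_contra hcon
    push Not at hcon
    obtain ⟨g, hgc, hgj⟩ := N.half.exists_fused t1 t1 hnot
    have hgg : (g * j * g⁻¹) * (g * j * g⁻¹) = 1 := by
      have : (g * j * g⁻¹) * (g * j * g⁻¹) = g * (j * j) * g⁻¹ := by group
      rw [this, hjj]; group
    exact hgj (D.factE h1 h1 K hK hcon g (hcon _ (hKn.conj_mem j hjK g) hgc (isTwo_of_sq hgg)))
  obtain ⟨c, hcK, hcj, hc2, hcY⟩ := h3
  obtain ⟨S, hSj, hSc⟩ := N.half.two_central t1 t1 (zpowers c) (isPGroup_zpowers hc2) (isTwo_zpowers_comm hcj)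
  have hcS : c ∈ S := hSc (mem_zpowers c)
  have hSK : ∀ s ∈ (S : Subgroup G), s ∈ K := by
    intro s hs
    by_cases hsY : s ∈ D.Y
    · exact hK s hsY (isTwo_of_isPGroup S.2 hs)
    · have h4 := N.half.half S S.2 hSj s hs c hcS hsY hcY
      have h5 := hK _ h4 (isTwo_of_isPGroup S.2 (mul_mem hs hcS))
      exact (mul_mem_cancel_right hcK).1 h5
  obtain ⟨d, -, hd⟩ := conj_into (C := ⊤) S le_top (mem_top x) hx
  have h4 := hKn.conj_mem _ (hSK _ hd) d⁻¹
  have e : d⁻¹ * (d * x * d⁻¹) * d⁻¹⁻¹ = x := by group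
  rwa [e] at h4

/-- no subgroup of index `2` -/
theorem index_ne_two (N : D.SW n) (h1 : Odd (Fintype.card F))
    (hnot : Subgroup.centralizer ({j} : Set G) ⊔ Cfsg.oddCore G ≠ ⊤) (H : Subgroup G) : H.index ≠ 2 := by
  intro hH
  have hHn : H.Normal := normal_of_index_eq_two hH
  have hP : IsPGroup 2 (G ⧸ H) := IsPGroup.of_card (n := 1) (by rw [pow_one]; exact hH)
  have hY : ∀ y ∈ D.Y, y ∈ H := by
    intro y hy
    have h3 := hom_Y D h1 h1 hP (QuotientGroup.mk' H) hy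
    exact (QuotientGroup.eq_one_iff y).1 h3
  have h3 : H = ⊤ := by
    rw [eq_top_iff]
    intro x _
    obtain ⟨m, hm, hm2⟩ := exists_odd_pow x
    have h4 := N.two_mem h1 hnot hHn (fun y hy _ => hY y hy) hm2
    obtain ⟨k, rfl⟩ := hm
    rw [pow_add, pow_mul, pow_one] at h4
    refine (mul_mem_cancel_left ?_).1 h4
    apply pow_mem
    rw [pow_two]
    exact mul_self_mem_of_index_two hH x
  rw [h3, index_top] at hH
  omega

/-- `G`-conjugates of `j` are `K`-conjugate -/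
theorem hone (N : D.SW n) (h1 : Odd (Fintype.card F))
    (hnot : Subgroup.centralizer ({j} : Set G) ⊔ Cfsg.oddCore G ≠ ⊤) {K : Subgroup G} (hKn : K.Normal)
    (hK : ∀ y ∈ D.Y, IsTwo y → y ∈ K) (g : G) : ∃ k ∈ K, g * j * g⁻¹ = k * j * k⁻¹ := by
  have t1 := SLTwoFour.two_ne_zero_of_odd (F := F) h1
  have hjj : j * j = 1 := D.jj
  have hj1 := D.j_ne_one t1
  obtain ⟨P⟩ : Nonempty (Sylow 2 (SL2 F)) := inferInstance
  obtain ⟨x, r, hx, hr, hxx, hrx⟩ := sl_sylow_pair t1 P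
  obtain ⟨S, hSj, hS⟩ := N.half.two_central t1 t1 (D.pr (P : Subgroup (SL2 F)) P) (D.pr_isPGroup P.2 P.2) (by
    rintro q hq
    exact D.Y_j (D.pr_le _ _ hq))
  have hprS : ∀ p ∈ (P : Subgroup (SL2 F)), ∀ q ∈ (P : Subgroup (SL2 F)), D.e1 p * D.e2 q ∈ (S : Subgroup G) := by
    intro p hp q hq
    exact hS ⟨p, hp, q, hq, rfl⟩
  have hSK : (S : Subgroup G) ≤ K := fun s hs => N.two_mem h1 hnot hKn hK (isTwo_of_isPGroup S.2 hs)
  have hF := Lib.SylowNormalInf.normalizer_inf_sup_eq_top S K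
  have hg : g ∈ normalizer (((S : Subgroup G) ⊓ K : Subgroup G) : Set G) ⊔ K := by rw [hF]; trivial
  rw [sup_comm] at hg
  obtain ⟨k, hk, m, hm, rfl⟩ := mem_sup_of_normal_left.1 hg
  refine ⟨k, hk, ?_⟩
  have hz : m * j * m⁻¹ = j := by
    have hmn : ∀ s, s ∈ (S : Subgroup G) ⊓ K → m⁻¹ * s * m ∈ (S : Subgroup G) ⊓ K := by
      intro s hs
      have h3 := (mem_normalizer_iff.1 (inv_mem hm) s).1 hs
      rwa [inv_inv] at h3
    have hcomm : ∀ s, s ∈ (S : Subgroup G) → (m * j * m⁻¹) * s = s * (m * j * m⁻¹) := by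
      intro s hs
      have h3 := hSj _ (hmn s ⟨hs, hSK hs⟩).1
      have e1 : (m * j * m⁻¹) * s = m * (j * (m⁻¹ * s * m)) * m⁻¹ := by group
      rw [e1, ← h3]; group
    have hjS : j ∈ (S : Subgroup G) := by
      have := hprS (x * x) (mul_mem hx hx) 1 (one_mem _)
      rwa [hxx, D.neg1, map_one, mul_one] at this
    apply N.central_eq t1 hxx hrx hxx hrx
    · exact hcomm j hjS
    · have : m * j * m⁻¹ * (m * j * m⁻¹) = m * (j * j) * m⁻¹ := by group
      rw [this, hjj]; group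
    · intro h
      apply hj1
      have : j = m⁻¹ * (m * j * m⁻¹) * m := by group
      rw [this, h]; group
    · have := hcomm _ (hprS x hx 1 (one_mem _))
      simpa using this
    · have := hcomm _ (hprS r hr 1 (one_mem _))
      simpa using this
    · have := hcomm _ (hprS 1 (one_mem _) x hx)
      simpa using this
    · have := hcomm _ (hprS 1 (one_mem _) r hr)
      simpa using this
  have : k * m * j * (k * m)⁻¹ = k * (m * j * m⁻¹) * k⁻¹ := by group
  rw [this, hz]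

end SW

end Duo

end Cfsg.Agent.H311
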