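import Cfsg.Agent.H311.SwapTwo
import Cfsg.Agent.H311.NSEnd
import Cfsg.Agent.H931.PspDuo

/-!
# The swap case: the subgroup `Y⟨n⟩` and the model `PSp(4,q)`
-/

set_option autoImplicit false

namespace Cfsg.Agent.H311

open Matrix Subgroup Cfsg.Agent.GTwoOdd Cfsg.Agent.ClassicalGeometry

namespace Duo

namespace SW

section alg

variable {G : Type*} [Group G] {j : G} {F : Type*} [Field F] {D : Duo j F F} {n : G}

theorem mul00 (a b c d : SL2 F) : (D.e1 a * D.e2 b) * (D.e1 c * D.e2 d) = D.e1 (a * c) * D.e2 (b * d) := D.mul_mul _ _ _ _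

theorem n_mul (N : D.SW n) (c d : SL2 F) : n * (D.e1 c * D.e2 d) = D.e1 d * D.e2 c * n := by
  rw [← mul_assoc, N.sw, mul_assoc, N.sw2, ← mul_assoc, ← D.comm]

theorem mul10 (N : D.SW n) (a b c d : SL2 F) :
    (D.e1 a * D.e2 b * n) * (D.e1 c * D.e2 d) = D.e1 (a * d) * D.e2 (b * c) * n := by
  rw [mul_assoc, N.n_mul, ← mul_assoc, D.mul_mul]

theorem mul11 (N : D.SW n) (a b c d : SL2 F) :
    (D.e1 a * D.e2 b * n) * (D.e1 c * D.e2 d * n) = D.e1 (a * d) * D.e2 (b * c) := by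
  rw [← mul_assoc, N.mul10, mul_assoc, N.nn, mul_one]

/-- the subgroup `Y⟨n⟩` -/
def W (N : D.SW n) : Subgroup G where
  carrier := {g | ∃ a b, D.e1 a * D.e2 b = g ∨ D.e1 a * D.e2 b * n = g}
  mul_mem' := by
    rintro _ _ ⟨a, b, rfl | rfl⟩ ⟨c, d, rfl | rfl⟩
    · exact ⟨a * c, b * d, Or.inl (D.mul_mul _ _ _ _).symm⟩
    · exact ⟨a * c, b * d, Or.inr (by rw [← mul_assoc, D.mul_mul])⟩
    · exact ⟨a * d, b * c, Or.inr (N.mul10 _ _ _ _).symm⟩
    · exact ⟨a * d, b * c, Or.inl (N.mul11 _ _ _ _).symm⟩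
  one_mem' := ⟨1, 1, Or.inl (by simp)⟩
  inv_mem' := by
    rintro _ ⟨a, b, rfl | rfl⟩
    · exact ⟨a⁻¹, b⁻¹, Or.inl (D.mul_inv a b).symm⟩
    · refine ⟨b⁻¹, a⁻¹, Or.inr ?_⟩
      symm
      apply inv_eq_of_mul_eq_one_right
      rw [N.mul11]
      simp

theorem mem_W (N : D.SW n) {g : G} : g ∈ N.W ↔ ∃ a b, D.e1 a * D.e2 b = g ∨ D.e1 a * D.e2 b * n = g := Iff.rfl

theorem Y_le_W (N : D.SW n) : D.Y ≤ N.W := by
  rintro _ ⟨a, b, rfl⟩
  exact ⟨a, b, Or.inl rfl⟩

theorem n_mem_W (N : D.SW n) : n ∈ N.W := ⟨1, 1, Or.inr (by simp)⟩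

theorem W_le (N : D.SW n) : N.W ≤ centralizer ({j} : Set G) := by
  rintro _ ⟨a, b, rfl | rfl⟩
  · exact D.Y_le ⟨a, b, rfl⟩
  · rw [mem_centralizer_singleton_iff]
    exact commj_mul (D.Y_j ⟨a, b, rfl⟩) N.nj

theorem mem_W_of_mul (N : D.SW n) {g : G} (h : n * g ∈ D.Y) : g ∈ N.W := by
  have h1 : n * (n * g) ∈ N.W := mul_mem N.n_mem_W (N.Y_le_W h)
  rwa [← mul_assoc, N.nn, one_mul] at h1

theorem mem_W_of_mul' (N : D.SW n) {g : G} (h : g * n ∈ D.Y) : g ∈ N.W := by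
  have h1 : (g * n) * n ∈ N.W := mul_mem (N.Y_le_W h) N.n_mem_W
  rwa [mul_assoc, N.nn, mul_one] at h1

theorem notMem1 (N : D.SW n) (a b : SL2 F) : D.e1 a * D.e2 b * n ∉ D.Y := by
  intro h
  exact N.n_notMem ((mul_mem_cancel_left (show D.e1 a * D.e2 b ∈ D.Y from ⟨a, b, rfl⟩)).1 h)

theorem relIndex_W (N : D.SW n) [Finite G] : D.Y.relIndex N.W = 2 := by
  rw [relIndex, index_eq_two_iff]
  refine ⟨⟨n, N.n_mem_W⟩, fun g => ?_⟩
  obtain ⟨g, hg⟩ := g
  obtain ⟨a, b, rfl | rfl⟩ := hg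
  · right
    refine ⟨⟨a, b, rfl⟩, N.notMem1 a b⟩
  · left
    refine ⟨?_, N.notMem1 a b⟩
    change D.e1 a * D.e2 b * n * n ∈ D.Y
    rw [mul_assoc, N.nn, mul_one]
    exact ⟨a, b, rfl⟩

theorem card_W (N : D.SW n) [Finite G] [Finite F] (t1 : (2 : F) ≠ 0) :
    Nat.card N.W = Nat.card (SL2 F) * Nat.card (SL2 F) := by
  rw [← D.card_Y t1, ← Lib.SylowNormalInf.card_mul_relIndex D.Y N.W N.Y_le_W, N.relIndex_W]

variable {M : Type*} [Group M] {z : M} {D0 : Duo z F F} {m : M}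

/-- the graph of the isomorphism between two `W`s -/
def graph (N : D.SW n) (N0 : D0.SW m) : Subgroup (G × M) where
  carrier := {g | ∃ a b, (D.e1 a * D.e2 b, D0.e1 a * D0.e2 b) = g ∨ (D.e1 a * D.e2 b * n, D0.e1 a * D0.e2 b * m) = g}
  mul_mem' := by
    rintro _ _ ⟨a, b, rfl | rfl⟩ ⟨c, d, rfl | rfl⟩
    · exact ⟨a * c, b * d, Or.inl (Prod.ext (D.mul_mul _ _ _ _).symm (D0.mul_mul _ _ _ _).symm)⟩
    · exact ⟨a * c, b * d, Or.inr (by rw [Prod.mk_mul_mk, ← mul_assoc, D.mul_mul, ← mul_assoc, D0.mul_mul])⟩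
    · exact ⟨a * d, b * c, Or.inr (Prod.ext (N.mul10 _ _ _ _).symm (N0.mul10 _ _ _ _).symm)⟩
    · exact ⟨a * d, b * c, Or.inl (Prod.ext (N.mul11 _ _ _ _).symm (N0.mul11 _ _ _ _).symm)⟩
  one_mem' := ⟨1, 1, Or.inl (by simp)⟩
  inv_mem' := by
    rintro _ ⟨a, b, rfl | rfl⟩
    · exact ⟨a⁻¹, b⁻¹, Or.inl (Prod.ext (D.mul_inv a b).symm (D0.mul_inv a b).symm)⟩
    · refine ⟨b⁻¹, a⁻¹, Or.inr ?_⟩
      symm
      apply inv_eq_of_mul_eq_one_right
      rw [Prod.mk_mul_mk, N.mul11, N0.mul11]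
      simp

theorem graph_fst (N : D.SW n) (N0 : D0.SW m) {g : M} (h : ((1 : G), g) ∈ graph N N0) : g = 1 := by
  obtain ⟨a, b, h | h⟩ := h
  · have h1 := congrArg Prod.fst h
    have h2 := congrArg Prod.snd h
    simp only at h1 h2
    rcases D.mul_eq_one h1 with ⟨rfl, rfl⟩ | ⟨rfl, rfl⟩
    · rw [← h2]; simp
    · rw [← h2, D0.neg1, D0.neg2, D0.jj]
  · exfalso
    have h1 := congrArg Prod.fst h
    simp only at h1
    apply N.notMem1 a b
    rw [h1]; exact one_mem _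

theorem graph_snd (N : D.SW n) (N0 : D0.SW m) {g : G} (h : (g, (1 : M)) ∈ graph N N0) : g = 1 := by
  obtain ⟨a, b, h | h⟩ := h
  · have h1 := congrArg Prod.fst h
    have h2 := congrArg Prod.snd h
    simp only at h1 h2
    rcases D0.mul_eq_one h2 with ⟨rfl, rfl⟩ | ⟨rfl, rfl⟩
    · rw [← h1]; simp
    · rw [← h1, D.neg1, D.neg2, D.jj]
  · exfalso
    have h1 := congrArg Prod.snd h
    simp only at h1
    apply N0.notMem1 a b
    rw [h1]; exact one_mem _

/-- the canonical isomorphism -/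
theorem equivW (N : D.SW n) (N0 : D0.SW m) :
    ∃ e : N.W ≃* N0.W, (∀ x : N.W, (x : G) = j → ((e x : N0.W) : M) = z) := by
  let p1 : graph N N0 →* N.W :=
    { toFun := fun x => ⟨(x : G × M).1, by
        obtain ⟨x, a, b, rfl | rfl⟩ := x
        · exact ⟨a, b, Or.inl rfl⟩
        · exact ⟨a, b, Or.inr rfl⟩⟩
      map_one' := rfl
      map_mul' := fun _ _ => rfl }
  let p2 : graph N N0 →* N0.W :=
    { toFun := fun x => ⟨(x : G × M).2, by
        obtain ⟨x, a, b, rfl | rfl⟩ := x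
        · exact ⟨a, b, Or.inl rfl⟩
        · exact ⟨a, b, Or.inr rfl⟩⟩
      map_one' := rfl
      map_mul' := fun _ _ => rfl }
  have b1 : Function.Bijective p1 := by
    constructor
    · rw [← MonoidHom.ker_eq_bot_iff, eq_bot_iff]
      rintro ⟨⟨x, y⟩, hxy⟩ hx
      have h1 : x = 1 := congrArg Subtype.val hx
      subst h1
      have h2 := graph_fst N N0 hxy
      subst h2
      exact one_mem _
    · rintro ⟨_, a, b, rfl | rfl⟩
      · exact ⟨⟨_, a, b, Or.inl rfl⟩, rfl⟩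
      · exact ⟨⟨_, a, b, Or.inr rfl⟩, rfl⟩
  have b2 : Function.Bijective p2 := by
    constructor
    · rw [← MonoidHom.ker_eq_bot_iff, eq_bot_iff]
      rintro ⟨⟨x, y⟩, hxy⟩ hx
      have h1 : y = 1 := congrArg Subtype.val hx
      subst h1
      have h2 := graph_snd N N0 hxy
      subst h2
      exact one_mem _
    · rintro ⟨_, a, b, rfl | rfl⟩
      · exact ⟨⟨_, a, b, Or.inl rfl⟩, rfl⟩
      · exact ⟨⟨_, a, b, Or.inr rfl⟩, rfl⟩
  let E1 := MulEquiv.ofBijective p1 b1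
  let E2 := MulEquiv.ofBijective p2 b2
  refine ⟨E1.symm.trans E2, fun x hx => ?_⟩
  have h1 : E1.symm x = ⟨(D.e1 (-1) * D.e2 1, D0.e1 (-1) * D0.e2 1), -1, 1, Or.inl rfl⟩ := by
    rw [MulEquiv.symm_apply_eq]
    apply Subtype.ext
    rw [hx]
    change j = D.e1 (-1) * D.e2 1
    rw [D.neg1, map_one, mul_one]
  rw [MulEquiv.trans_apply, h1]
  change D0.e1 (-1) * D0.e2 1 = z
  rw [D0.neg1, map_one, mul_one]

end alg

section syl

variable {G : Type*} [Group G] [Finite G] {j : G} {F : Type*} [Field F] [Finite F] {D : Duo j F F} {n : G}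

/-- some Sylow `2`-subgroup of `G` is in `W` -/
theorem exists_sylow_le (N : D.SW n) (t1 : (2 : F) ≠ 0) : ∃ S : Sylow 2 G, (S : Subgroup G) ≤ N.W := by
  obtain ⟨S, hSj, hSc⟩ := N.half.two_central t1 t1 (zpowers n) (isPGroup_zpowers (isTwo_of_sq N.nn))
    (isTwo_zpowers_comm N.nj)
  have hnS : n ∈ S := hSc (mem_zpowers n)
  refine ⟨S, fun s hs => ?_⟩
  by_cases hsY : s ∈ D.Y
  · exact N.Y_le_W hsY
  · exact N.mem_W_of_mul' (N.half.half S S.2 hSj s hs n hnS hsY N.n_notMem)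

variable {M : Type*} [Group M] [Finite M] {z : M} {D0 : Duo z F F} {m : M}

/-- Sylow `2`-subgroups of two groups with the same data are isomorphic -/
theorem sylow_equiv (N : D.SW n) (N0 : D0.SW m) (t1 : (2 : F) ≠ 0) (S : Sylow 2 G) (P : Sylow 2 M) :
    Nonempty ((S : Subgroup G) ≃* (P : Subgroup M)) := by
  obtain ⟨S', hS'⟩ := N.exists_sylow_le t1
  obtain ⟨P', hP'⟩ := N0.exists_sylow_le t1
  obtain ⟨e, -⟩ := equivW N N0
  let A : Sylow 2 N.W := S'.subtype hS'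
  let B : Sylow 2 N0.W := P'.subtype hP'
  let A' : Sylow 2 N0.W := A.mapSurjective (f := e.toMonoidHom) e.surjective
  have e1 : (S : Subgroup G) ≃* (S' : Subgroup G) := Sylow.equiv S S'
  have e2 : (A : Subgroup N.W) ≃* (S' : Subgroup G) := by
    change ((S' : Subgroup G).subgroupOf N.W : Subgroup N.W) ≃* (S' : Subgroup G)
    exact Subgroup.subgroupOfEquivOfLe hS'
  have e3 : (A : Subgroup N.W) ≃* (A' : Subgroup N0.W) :=
    (A : Subgroup N.W).equivMapOfInjective e.toMonoidHom e.injective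
  have e4 : (A' : Subgroup N0.W) ≃* (B : Subgroup N0.W) := Sylow.equiv A' B
  have e5 : (B : Subgroup N0.W) ≃* (P' : Subgroup M) := by
    change ((P' : Subgroup M).subgroupOf N0.W : Subgroup N0.W) ≃* (P' : Subgroup M)
    exact Subgroup.subgroupOfEquivOfLe hP'
  have e6 : (P' : Subgroup M) ≃* (P : Subgroup M) := Sylow.equiv P' P
  exact ⟨((((e1.trans e2.symm).trans e3).trans e4).trans e5).trans e6⟩

end syl

/-- **the model** -/
theorem model (F : Type*) [Field F] [Fintype F] (hF : Odd (Fintype.card F)) :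
    ∃ (z : Cfsg.PSp 2 F) (D0 : Duo z F F) (m : Cfsg.PSp 2 F) (N0 : D0.SW m), orderOf z = 2 ∧
      N0.W = centralizer ({z} : Set (Cfsg.PSp 2 F)) := by
  obtain ⟨z, D, m, hz, hmm, hmz, hsw, hc⟩ := Cfsg.Agent.H931.PspDuo.exists_model hF
  have hsw1 : ∀ x, m * D.e1 x = D.e2 x * m := by
    intro x
    rw [← hsw]; group
  have hsw2 : ∀ x, m * D.e2 x = D.e1 x * m := by
    intro x
    have e : D.e2 x = m * D.e1 x * m := by rw [hsw1, mul_assoc, hmm, mul_one]
    rw [e, ← mul_assoc, ← mul_assoc, hmm, one_mul]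
  have hmSw : D.Sw m := ⟨fun x => ⟨x, hsw1 x⟩, fun x => ⟨x, hsw2 x⟩⟩
  have hnms : ∀ c, c * z = z * c → D.Nm c ∨ D.Sw c := by
    intro c hcz
    rcases hc c hcz with h | h
    · exact Or.inl (nm_of_mem h)
    · right
      have e : c = m * (m * c) := by rw [← mul_assoc, hmm, one_mul]
      rw [e]
      exact sw_mul_nm hmSw (nm_of_mem h)
  have hmY : ∀ y ∈ D.Y, m * y * m⁻¹ ∈ D.Y := by
    rintro _ ⟨a, b, rfl⟩
    refine ⟨b, a, ?_⟩
    have e : m * (D.e1 a * D.e2 b) * m⁻¹ = (m * D.e1 a * m⁻¹) * (m * D.e2 b * m⁻¹) := by group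
    rw [e, hsw1, hsw2, mul_inv_cancel_right, mul_inv_cancel_right, D.comm]
  have hminv : m⁻¹ = m := inv_eq_of_mul_eq_one_right hmm
  have hN : D.SW m :=
    { half :=
        { norm := by
            intro c hcz y hy
            rcases hc c hcz with h | h
            · exact mul_mem (mul_mem h hy) (inv_mem h)
            · have e : c * y * c⁻¹ = m * ((m * c) * y * (m * c)⁻¹) * m⁻¹ := by
                have : m * ((m * c) * y * (m * c)⁻¹) * m⁻¹ = (m * m) * (c * y * c⁻¹) * (m * m)⁻¹ := by group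
                rw [this, hmm]; group
              rw [e]
              exact hmY _ (mul_mem (mul_mem h hy) (inv_mem h))
          half := by
            intro T hT hTz a ha b hb haY hbY
            have h1 := (hc a (hTz a ha)).resolve_left haY
            have h2 := (hc b (hTz b hb)).resolve_left hbY
            have e : a * b = (m * (m * a) * m⁻¹) * (m * b) := by
              have : (m * (m * a) * m⁻¹) * (m * b) = (m * m) * (a * b) := by group
              rw [this, hmm, one_mul]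
            rw [e]
            exact mul_mem (hmY _ h1) h2 }
      nn := hmm
      nj := hmz
      sw := hsw1
      nms := hnms
      cent := by
        intro c hcz h1 h2
        have hcY : c ∈ D.Y := by
          rcases hc c hcz with h | h
          · exact h
          · exfalso
            have h3 : D.Sw c := by
              have e : c = m * (m * c) := by rw [← mul_assoc, hmm, one_mul]
              rw [e]
              exact sw_mul_nm hmSw (nm_of_mem h)
            exact not_nm_sw (D := D) ⟨fun x => ⟨x, h1 x⟩, fun x => ⟨x, h2 x⟩⟩ h3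
        rcases eq_of_cent_Y hcY h1 h2 with rfl | rfl
        · exact ⟨0, by simp⟩
        · exact isTwo_of_sq D.jj }
  refine ⟨z, D, m, hN, hz, le_antisymm hN.W_le ?_⟩
  intro c hcz
  rcases hc c (mem_centralizer_singleton_iff.1 hcz) with h | h
  · exact hN.Y_le_W h
  · exact hN.mem_W_of_mul h

end SW

end Duo

end Cfsg.Agent.H311
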